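import Mathlib
import Cfsg.Agent.S0093
import Cfsg.Agent.S0128
import Cfsg.Agent.S0640
import Cfsg.Agent.Helper8.Metacyclic4
import Cfsg.Agent.Helper26.OrderP3

set_option autoImplicit false
open Cfsg
open scoped commutatorElement

/-! # p-groups with few elements of order p (helper7) -/

namespace Cfsg.Agent.Helper7.PU

universe u

theorem card_eq_ker_range {R S : Type*} [Group R] [Group S] (π : R →* S) :
    Nat.card R = Nat.card π.ker * Nat.card π.range := by
  rw [← Subgroup.index_ker, Subgroup.card_mul_index]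

theorem card_ker_le {R : Type*} [Group R] [Finite R] {p : ℕ} (π : R →* R)
    (hπ : ∀ x, π x = x ^ p) : Nat.card π.ker ≤ Nat.card {x : R // x ^ p = 1} :=
  Nat.card_le_card_of_injective
    (fun k : π.ker => (⟨k.1, by
      have h := k.2
      rw [MonoidHom.mem_ker, hπ] at h
      exact h⟩ : {x : R // x ^ p = 1}))
    (fun a b h => Subtype.ext (by have h' := congrArg Subtype.val h; exact h'))

theorem card_ker_le' {R S : Type*} [Group R] [Finite R] [Group S] {p : ℕ} (A : Subgroup R)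
    (φ : A →* S) (hφ : ∀ x : A, φ x = 1 → (x : R) ^ p = 1) :
    Nat.card φ.ker ≤ Nat.card {x : R // x ^ p = 1} :=
  Nat.card_le_card_of_injective
    (fun k : φ.ker => (⟨((k.1 : A) : R), hφ k.1 (MonoidHom.mem_ker.mp k.2)⟩ :
      {x : R // x ^ p = 1}))
    (fun a b h => Subtype.ext (Subtype.ext (by have h' := congrArg Subtype.val h; exact h')))

theorem cyclic_sol_le {Q : Type*} [Group Q] [Finite Q] [IsCyclic Q] (p : ℕ) (hp0 : 0 < p) :
    Nat.card {q : Q // q ^ p = 1} ≤ p := by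
  classical
  haveI := Fintype.ofFinite Q
  rw [Nat.card_eq_fintype_card, Fintype.card_subtype]
  exact IsCyclic.card_pow_eq_one_le hp0

/-- For odd `p`, a finite `p`-group with at most `p` solutions of `x ^ p = 1` is cyclic. -/
theorem lemU (p : ℕ) [Fact p.Prime] (hp2 : p ≠ 2) : ∀ n : ℕ, ∀ (R : Type u) [Group R] [Finite R],
    Nat.card R = n → IsPGroup p R → Nat.card {x : R // x ^ p = 1} ≤ p → IsCyclic R := by
  intro n
  induction n using Nat.strong_induction_on with
  | _ n ih =>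
    intro R _ _ hn hR hW
    have hpp : p.Prime := Fact.out
    by_contra hnc
    have hno : ∀ g : R, Subgroup.zpowers g ≠ ⊤ := fun g hg =>
      hnc (isCyclic_iff_exists_zpowers_eq_top.mpr ⟨g, hg⟩)
    obtain ⟨M₁, hM₁, -⟩ :=
      (eq_top_or_exists_le_coatom (Subgroup.zpowers (1 : R))).resolve_left (hno 1)
    obtain ⟨g, hg⟩ : ∃ g : R, g ∉ M₁ := by
      by_contra h
      exact hM₁.1 ((Subgroup.eq_top_iff' _).mpr (fun x => by by_contra hx; exact h ⟨x, hx⟩))
    obtain ⟨M₂, hM₂, hgM₂⟩ :=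
      (eq_top_or_exists_le_coatom (Subgroup.zpowers g)).resolve_left (hno g)
    have hgM₂' : g ∈ M₂ := hgM₂ (Subgroup.mem_zpowers g)
    have hne : M₁ ≠ M₂ := fun h => hg (by rw [h]; exact hgM₂')
    have hcyc : ∀ M : Subgroup R, IsCoatom M → ∀ x ∈ M, ∀ y ∈ M, x * y = y * x := by
      intro M hM x hx y hy
      have hlt : Nat.card M < n := by
        rw [← hn]
        rcases lt_or_eq_of_le (Subgroup.card_le_card_group M) with h | h
        · exact h
        · exact absurd (Subgroup.eq_top_of_card_eq M h) hM.1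
      have hWM : Nat.card {x : M // x ^ p = 1} ≤ p :=
        le_trans (Nat.card_le_card_of_injective
          (fun k : {x : M // x ^ p = 1} => (⟨(k.1 : R), by
            have := congrArg Subtype.val k.2
            simpa using this⟩ : {x : R // x ^ p = 1}))
          (fun a b h => Subtype.ext (Subtype.ext (by have h' := congrArg Subtype.val h; exact h')))) hW
      haveI : IsCyclic M := ih (Nat.card M) hlt M rfl (hR.to_subgroup M) hWM
      obtain ⟨c, hc⟩ := IsCyclic.exists_generator (α := M)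
      obtain ⟨i, hi⟩ := Subgroup.mem_zpowers_iff.mp (hc ⟨x, hx⟩)
      obtain ⟨j, hj⟩ := Subgroup.mem_zpowers_iff.mp (hc ⟨y, hy⟩)
      have h1 : (⟨x, hx⟩ : M) * ⟨y, hy⟩ = ⟨y, hy⟩ * ⟨x, hx⟩ := by
        rw [← hi, ← hj]; exact zpow_mul_comm c i j
      exact congrArg Subtype.val h1
    have hsup : M₁ ⊔ M₂ = ⊤ := by
      by_contra h
      have h1 : M₁ ⊔ M₂ = M₁ := by
        by_contra h2
        exact h (hM₁.2 _ (lt_of_le_of_ne le_sup_left (Ne.symm h2)))
      have h3 : M₂ ≤ M₁ := le_of_le_of_eq le_sup_right h1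
      have h4 : M₂ = M₁ := by
        by_contra h5
        exact hM₁.1 (hM₂.2 _ (lt_of_le_of_ne h3 h5))
      exact hne h4.symm
    have hDc : ∀ d ∈ M₁ ⊓ M₂, ∀ g : R, g * d = d * g := by
      intro d hd g
      have hd' := Subgroup.mem_inf.mp hd
      have hle : M₁ ⊔ M₂ ≤ Subgroup.centralizer ({d} : Set R) := by
        refine sup_le (fun x hx => ?_) (fun x hx => ?_)
        · rw [Subgroup.mem_centralizer_singleton_iff]; exact hcyc M₁ hM₁ x hx d hd'.1
        · rw [Subgroup.mem_centralizer_singleton_iff]; exact hcyc M₂ hM₂ x hx d hd'.2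
      have := hle (by rw [hsup]; exact Subgroup.mem_top g)
      exact Subgroup.mem_centralizer_singleton_iff.mp this
    have hpowD : ∀ x : R, x ^ p ∈ M₁ ⊓ M₂ := by
      intro x
      have h := Cfsg.Agent.Helper8.Meta.pow_mem_frattini hR x
      exact Subgroup.mem_inf.mpr ⟨frattini_le_coatom hM₁ h, frattini_le_coatom hM₂ h⟩
    have hcommD : ∀ x y : R, x * y * x⁻¹ * y⁻¹ ∈ M₁ ⊓ M₂ := by
      intro x y
      have h := Cfsg.Agent.Helper26.p3_commutator_mem_frattini hR x y
      exact Subgroup.mem_inf.mpr ⟨frattini_le_coatom hM₁ h, frattini_le_coatom hM₂ h⟩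
    have hab : ∀ x y : R, (x * y) ^ p = x ^ p * y ^ p := by
      intro x y
      have hv := hcommD y⁻¹ x⁻¹
      have hvc := hDc _ hv
      refine Cfsg.Agent.S0640.pab p hpp hp2 x y (y⁻¹ * x⁻¹ * (y⁻¹)⁻¹ * (x⁻¹)⁻¹) (by group)
        (hvc y).symm (hvc x).symm ?_
      refine Cfsg.Agent.S0640.comm_pow_one y⁻¹ x⁻¹ p (hvc y⁻¹) ?_
      exact (hDc _ (hpowD y⁻¹) x⁻¹).symm
    obtain ⟨π, hπ⟩ : ∃ π : R →* R, ∀ x, π x = x ^ p :=
      ⟨MonoidHom.mk' (fun x => x ^ p) hab, fun _ => rfl⟩
    have hker : Nat.card π.ker ≤ p := le_trans (card_ker_le π hπ) hW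
    have hrange : π.range ≤ M₁ ⊓ M₂ := by
      rintro _ ⟨x, rfl⟩; rw [hπ]; exact hpowD x
    have hcard : Nat.card R = Nat.card π.ker * Nat.card π.range := card_eq_ker_range π
    have h1 : p * Nat.card (M₁ ⊓ M₂ : Subgroup R) ≤ Nat.card M₁ :=
      Cfsg.Agent.S0128.lt_card hR _ M₁ inf_le_left (fun h => hne (by
        by_contra h5
        exact hM₂.1 (hM₁.2 _ (lt_of_le_of_ne (inf_eq_left.mp h) h5))))
    have h2 : p * Nat.card M₁ ≤ Nat.card R := by
      have := Cfsg.Agent.S0128.lt_card hR M₁ ⊤ le_top hM₁.1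
      rwa [Subgroup.card_top] at this
    have h3 : Nat.card R ≤ p * Nat.card (M₁ ⊓ M₂ : Subgroup R) := by
      rw [hcard]; exact Nat.mul_le_mul hker (Subgroup.card_le_of_le hrange)
    have h4 : p * (p * Nat.card (M₁ ⊓ M₂ : Subgroup R)) ≤ Nat.card R :=
      le_trans (Nat.mul_le_mul_left p h1) h2
    have hd : 0 < p * Nat.card (M₁ ⊓ M₂ : Subgroup R) := Nat.mul_pos hpp.pos Nat.card_pos
    have h5 : p * (p * Nat.card (M₁ ⊓ M₂ : Subgroup R)) ≤
        1 * (p * Nat.card (M₁ ⊓ M₂ : Subgroup R)) := by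
      rw [one_mul]; exact le_trans h4 h3
    have h6 := Nat.le_of_mul_le_mul_right h5 hd
    have := hpp.one_lt
    omega

theorem exists_central {R : Type*} [Group R] [Finite R] {p : ℕ} [Fact p.Prime]
    (hR : IsPGroup p R) : ∀ n : ℕ, ∀ N : Subgroup R, N.Normal → Nat.card N = n → N ≠ ⊥ →
      ∃ z ∈ N, z ≠ 1 ∧ ∀ g : R, g * z = z * g := by
  intro n
  induction n using Nat.strong_induction_on with
  | _ n ih =>
    intro N hN hn hbot
    by_cases hc : ⁅N, (⊤ : Subgroup R)⁆ = ⊥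
    · obtain ⟨z, hz, hz1⟩ : ∃ z ∈ N, z ≠ 1 := by
        by_contra h
        exact hbot ((Subgroup.eq_bot_iff_forall N).mpr
          (fun x hx => by by_contra hx1; exact h ⟨x, hx, hx1⟩))
      refine ⟨z, hz, hz1, fun g => ?_⟩
      have h1 : ⁅z, g⁆ ∈ ⁅N, (⊤ : Subgroup R)⁆ :=
        Subgroup.commutator_mem_commutator hz (Subgroup.mem_top g)
      rw [hc, Subgroup.mem_bot, commutatorElement_eq_one_iff_commute] at h1
      exact h1.eq.symm
    · haveI := hN
      have hlt : Nat.card (⁅N, (⊤ : Subgroup R)⁆ : Subgroup R) < n := by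
        have h1 := Cfsg.Agent.S0128.lt_card hR _ N (Subgroup.commutator_le_left N ⊤)
          (Cfsg.Agent.S0128.comm_ne hR N hbot)
        have hp1 : 1 < p := (Fact.out : p.Prime).one_lt
        have hpos : 0 < Nat.card (⁅N, (⊤ : Subgroup R)⁆ : Subgroup R) := Nat.card_pos
        rw [← hn]
        exact lt_of_lt_of_le (lt_mul_of_one_lt_left hpos hp1) h1
      obtain ⟨z, hz, hz1, hzc⟩ := ih _ hlt ⁅N, (⊤ : Subgroup R)⁆ inferInstance rfl hc
      exact ⟨z, Subgroup.commutator_le_left N ⊤ hz, hz1, hzc⟩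

theorem exists_central_p {R : Type*} [Group R] [Finite R] {p : ℕ} [Fact p.Prime]
    (hR : IsPGroup p R) (N : Subgroup R) [N.Normal] (hbot : N ≠ ⊥) :
    ∃ z ∈ N, z ≠ 1 ∧ z ^ p = 1 ∧ ∀ g : R, g * z = z * g := by
  obtain ⟨z, hz, hz1, hzc⟩ := exists_central hR _ N inferInstance rfl hbot
  obtain ⟨j, hj1, hj2⟩ := Cfsg.Agent.S0093.exists_pow_order_p hR z hz1
  exact ⟨z ^ p ^ j, N.pow_mem hz _, hj1, hj2,
    fun g => ((show Commute g z from hzc g).pow_right _).eq⟩

theorem card_comap_mk {R : Type*} [Group R] [Finite R] (T : Subgroup R) [T.Normal]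
    (E : Subgroup (R ⧸ T)) {p : ℕ} (hT : Nat.card T = p) :
    Nat.card (E.comap (QuotientGroup.mk' T)) = Nat.card E * p := by
  have h1 := Subgroup.card_mul_index (E.comap (QuotientGroup.mk' T))
  have h2 := Subgroup.card_mul_index E
  have h3 : (E.comap (QuotientGroup.mk' T)).index = E.index :=
    Subgroup.index_comap_of_surjective E (QuotientGroup.mk'_surjective T)
  have h4 : Nat.card R = Nat.card (R ⧸ T) * Nat.card T :=
    Subgroup.card_eq_card_quotient_mul_card_subgroup T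
  rw [h3] at h1
  have hidx : 0 < E.index := Nat.pos_of_ne_zero Subgroup.index_ne_zero_of_finite
  have h5 : Nat.card (E.comap (QuotientGroup.mk' T)) * E.index = Nat.card E * p * E.index := by
    rw [h1, h4, ← h2, hT]; ring
  exact Nat.eq_of_mul_eq_mul_right hidx h5

end Cfsg.Agent.Helper7.PU
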