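import Mathlib
import Cfsg.Agent.S0123
import Cfsg.Agent.Helper7.PU

set_option autoImplicit false
open Cfsg
open scoped commutatorElement

/-! # Huppert's criterion: few solutions of `x ^ p = 1` force a metacyclic group (helper7) -/

namespace Cfsg.Agent.Helper7.PU

universe u

theorem hrk_of_W {R : Type*} [Group R] [Finite R] {p : ℕ}
    (hW : Nat.card {x : R // x ^ p = 1} ≤ p ^ 2) :
    ∀ E : Subgroup R, Cfsg.IsElementaryAbelian p E → Nat.card E ≤ p ^ 2 := by
  intro E hE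
  exact le_trans (Nat.card_le_card_of_injective
    (fun k : E => (⟨k.1, hE.2 k.1 k.2⟩ : {x : R // x ^ p = 1}))
    (fun a b h => Subtype.ext (by have h' := congrArg Subtype.val h; exact h'))) hW

theorem card_sol_sub_le {R : Type*} [Group R] [Finite R] (p : ℕ) (M : Subgroup R) :
    Nat.card {x : M // x ^ p = 1} ≤ Nat.card {x : R // x ^ p = 1} :=
  Nat.card_le_card_of_injective
    (fun k : {x : M // x ^ p = 1} => (⟨(k.1 : R), by
      have := congrArg Subtype.val k.2
      simpa using this⟩ : {x : R // x ^ p = 1}))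
    (fun a b h => Subtype.ext (Subtype.ext (by have h' := congrArg Subtype.val h; exact h')))

theorem card_sol_le_sub {R : Type*} [Group R] [Finite R] (p : ℕ) (M : Subgroup R)
    (hM : ∀ x : R, x ^ p = 1 → x ∈ M) :
    Nat.card {x : R // x ^ p = 1} ≤ Nat.card {x : M // x ^ p = 1} :=
  Nat.card_le_card_of_injective
    (fun k : {x : R // x ^ p = 1} => (⟨⟨k.1, hM k.1 k.2⟩, Subtype.ext (by simpa using k.2)⟩ :
      {x : M // x ^ p = 1}))
    (fun a b h => Subtype.ext (by
      have h' := congrArg (fun w : {x : M // x ^ p = 1} => ((w.1 : M) : R)) h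
      exact h'))

theorem pab_of {R : Type*} [Group R] {p : ℕ} (hpp : p.Prime) (hp2 : p ≠ 2) (T : Subgroup R)
    (hTc : ∀ t ∈ T, ∀ g : R, g * t = t * g) (hTp : ∀ t ∈ T, t ^ p = 1) (x y : R)
    (h : y⁻¹ * x⁻¹ * (y⁻¹)⁻¹ * (x⁻¹)⁻¹ ∈ T) : (x * y) ^ p = x ^ p * y ^ p :=
  Cfsg.Agent.S0640.pab p hpp hp2 x y (y⁻¹ * x⁻¹ * (y⁻¹)⁻¹ * (x⁻¹)⁻¹) (by group)
    (hTc _ h y).symm (hTc _ h x).symm (hTp _ h)

theorem exists_sol_subgroup {Q : Type*} [Group Q] (p : ℕ)
    (hmul : ∀ x y : Q, x ^ p = 1 → y ^ p = 1 → (x * y) ^ p = 1) :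
    ∃ S : Subgroup Q, ∀ q, q ∈ S ↔ q ^ p = 1 :=
  ⟨{ carrier := {q | q ^ p = 1}
     mul_mem' := fun {a b} ha hb => hmul a b ha hb
     one_mem' := one_pow p
     inv_mem' := fun {a} ha => by
       show (a⁻¹) ^ p = 1
       rw [inv_pow, show a ^ p = 1 from ha, inv_one] }, fun q => Iff.rfl⟩

/-- Passing to the quotient by a central subgroup of order `p` keeps the bound `p ^ 2`
on the number of solutions of `x ^ p = 1` (for `p > 3`). -/
theorem claimA {p : ℕ} [Fact p.Prime] (hp : 3 < p) {R : Type u} [Group R] [Finite R]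
    (hR : IsPGroup p R) (hW : Nat.card {x : R // x ^ p = 1} ≤ p ^ 2)
    (T : Subgroup R) [T.Normal] (hTc : ∀ t ∈ T, ∀ g : R, g * t = t * g)
    (hTp : ∀ t ∈ T, t ^ p = 1) (hTcard : Nat.card T = p) :
    Nat.card {q : R ⧸ T // q ^ p = 1} ≤ p ^ 2 := by
  have hpp : p.Prime := Fact.out
  have hp0 : 0 < p := hpp.pos
  have hp2 : p ≠ 2 := by omega
  by_cases hsmall : Nat.card {x : R // x ^ p = 1} ≤ p
  · haveI : IsCyclic R := lemU p hp2 _ R rfl hR hsmall
    haveI : IsCyclic (R ⧸ T) :=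
      isCyclic_of_surjective (QuotientGroup.mk' T) (QuotientGroup.mk'_surjective T)
    exact le_trans (cyclic_sol_le p hp0) (Nat.le_self_pow (by norm_num) p)
  · have hbig : p < Nat.card {x : R // x ^ p = 1} := not_le.mp hsmall
    have hrkR := hrk_of_W hW
    have hQ : IsPGroup p (R ⧸ T) := hR.to_quotient T
    have hrkQ : ∀ E : Subgroup (R ⧸ T), Cfsg.IsElementaryAbelian p E → Nat.card E ≤ p ^ 2 := by
      intro E hE
      obtain ⟨A, hA⟩ : ∃ A : Subgroup R, A = E.comap (QuotientGroup.mk' T) := ⟨_, rfl⟩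
      have hmem : ∀ x ∈ A, QuotientGroup.mk' T x ∈ E := by
        intro x hx; rw [hA] at hx; exact hx
      have hAT : ∀ x ∈ A, ∀ y ∈ A, x * y * x⁻¹ * y⁻¹ ∈ T := by
        intro x hx y hy
        have h0 := hE.1.is_comm.comm (⟨_, hmem x hx⟩ : E) ⟨_, hmem y hy⟩
        have h1 : QuotientGroup.mk' T x * QuotientGroup.mk' T y =
            QuotientGroup.mk' T y * QuotientGroup.mk' T x := by
          have h' := congrArg Subtype.val h0
          exact h'
        refine Cfsg.Agent.Helper8.Meta.mem_of_map_eq_one T ?_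
        rw [map_mul, map_mul, map_mul, map_inv, map_inv, h1]
        group
      have habA : ∀ a b : A, ((a : R) * (b : R)) ^ p = (a : R) ^ p * (b : R) ^ p := fun a b =>
        pab_of hpp hp2 T hTc hTp a.1 b.1 (hAT _ (A.inv_mem b.2) _ (A.inv_mem a.2))
      obtain ⟨φ, hφ⟩ : ∃ φ : A →* R, ∀ x : A, φ x = (x : R) ^ p :=
        ⟨MonoidHom.mk' (fun x : A => (x : R) ^ p) (fun a b => habA a b), fun _ => rfl⟩
      have hrange : φ.range ≤ T := by
        rintro _ ⟨x, rfl⟩
        rw [hφ]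
        refine Cfsg.Agent.Helper8.Meta.mem_of_map_eq_one T ?_
        rw [map_pow]
        exact hE.2 _ (hmem x.1 x.2)
      have hker : Nat.card φ.ker ≤ p ^ 2 :=
        le_trans (card_ker_le' A φ (fun x hx => by rw [hφ] at hx; exact hx)) hW
      have hcA : Nat.card A = Nat.card φ.ker * Nat.card φ.range := card_eq_ker_range φ
      have hcA2 : Nat.card A = Nat.card E * p := by rw [hA]; exact card_comap_mk T E hTcard
      have hr : Nat.card φ.range ≤ p := le_of_le_of_eq (Subgroup.card_le_of_le hrange) hTcard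
      have h5 : Nat.card E * p ≤ p ^ 2 * p := by
        rw [← hcA2, hcA]; exact Nat.mul_le_mul hker hr
      exact Nat.le_of_mul_le_mul_right h5 hp0
    have hmainQ : ∀ x y : R ⧸ T, x ^ p = 1 → y ^ p = 1 → (x * y) ^ p = 1 :=
      Cfsg.Agent.S0128.main p hp _ (R ⧸ T) rfl hQ hrkQ
    obtain ⟨Lb, hLb⟩ := exists_sol_subgroup p hmainQ
    have hcardLb : Nat.card {q : R ⧸ T // q ^ p = 1} = Nat.card Lb :=
      Nat.card_congr (Equiv.subtypeEquivRight (fun q => (hLb q).symm))
    rw [hcardLb]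
    have hLb3 : Nat.card Lb ≤ p ^ 3 := by
      refine Cfsg.Agent.S0128.e3 (hQ.to_subgroup Lb) ?_
      intro E hE
      have h1 : Cfsg.IsElementaryAbelian p (E.map Lb.subtype) := by
        refine ⟨Cfsg.Agent.S0128.isComm_of _ ?_, ?_⟩
        · rintro _ ⟨a, ha, rfl⟩ _ ⟨b, hb, rfl⟩
          rw [← map_mul, ← map_mul, hE a ha b hb]
        · rintro _ ⟨a, ha, rfl⟩
          exact (hLb _).mp a.2
      have h2 := hrkQ _ h1
      rwa [Subgroup.card_map_of_injective Lb.subtype_injective] at h2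
    by_contra hcon
    have hgt : p ^ 2 < Nat.card Lb := not_le.mp hcon
    obtain ⟨k, hk⟩ := (hQ.to_subgroup Lb).exists_card_eq
    rw [hk] at hgt hLb3
    have hk1 : 2 < k := (Nat.pow_lt_pow_iff_right hpp.one_lt).mp hgt
    have hk2 : k ≤ 3 := (Nat.pow_le_pow_iff_right hpp.one_lt).mp hLb3
    have hk3 : k = 3 := by omega
    rw [hk3] at hk
    obtain ⟨L, hL⟩ : ∃ L : Subgroup R, L = Lb.comap (QuotientGroup.mk' T) := ⟨_, rfl⟩
    have hLcard : Nat.card L = p ^ 3 * p := by rw [hL, card_comap_mk T Lb hTcard, hk]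
    have hLmem : ∀ x : R, x ∈ L ↔ x ^ p ∈ T := by
      intro x
      rw [hL, Subgroup.mem_comap, hLb, ← map_pow]
      exact ⟨fun h => Cfsg.Agent.Helper8.Meta.mem_of_map_eq_one T h,
        fun h => Cfsg.Agent.Helper8.Meta.map_eq_one_of_mem T h⟩
    have hLp : IsPGroup p L := hR.to_subgroup L
    have hmainL : ∀ x y : L, x ^ p = 1 → y ^ p = 1 → (x * y) ^ p = 1 :=
      Cfsg.Agent.S0128.main p hp _ L rfl hLp (Cfsg.Agent.S0128.hrk_sub L hrkR)
    obtain ⟨WL, hWL⟩ := exists_sol_subgroup p hmainL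
    have hWLcard : Nat.card WL = Nat.card {x : L // x ^ p = 1} :=
      Nat.card_congr (Equiv.subtypeEquivRight hWL)
    have hWL2 : Nat.card WL ≤ p ^ 2 := by
      rw [hWLcard]; exact le_trans (card_sol_sub_le p L) hW
    have hWL1 : p < Nat.card WL := by
      rw [hWLcard]
      refine lt_of_lt_of_le hbig (card_sol_le_sub p L (fun x hx => ?_))
      rw [hLmem, hx]; exact T.one_mem
    obtain ⟨j, hj⟩ := (hLp.to_subgroup WL).exists_card_eq
    have hj2 : j = 2 := by
      rw [hj] at hWL1 hWL2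
      have h1 : 1 < j := (Nat.pow_lt_pow_iff_right hpp.one_lt).mp (by rwa [pow_one])
      have h2 : j ≤ 2 := (Nat.pow_le_pow_iff_right hpp.one_lt).mp hWL2
      omega
    rw [hj2] at hj
    haveI hWLn : WL.Normal := ⟨fun n hn g => by
      rw [hWL] at hn ⊢
      rw [conj_pow, hn, mul_one, mul_inv_cancel]⟩
    have hcQ : Nat.card (L ⧸ WL) = p ^ 2 := by
      have h1 := Subgroup.card_eq_card_quotient_mul_card_subgroup WL
      rw [hLcard, hj] at h1
      have h2 : p ^ 2 * p ^ 2 = Nat.card (L ⧸ WL) * p ^ 2 := by rw [← h1]; ring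
      exact (Nat.eq_of_mul_eq_mul_right (pow_pos hp0 2) h2).symm
    have hcomm : ∀ a b : L ⧸ WL, a * b = b * a :=
      (IsPGroup.isMulCommutative_of_card_eq_prime_sq (p := p) hcQ).is_comm.comm
    have hcommWL : ∀ a b : L, ⁅a, b⁆ ∈ WL := by
      intro a b
      refine Cfsg.Agent.Helper8.Meta.mem_of_map_eq_one WL ?_
      rw [commutatorElement_def, map_mul, map_mul, map_mul, map_inv, map_inv,
        hcomm (QuotientGroup.mk' WL a) (QuotientGroup.mk' WL b)]
      group
    have hcle : commutator L ≤ WL := by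
      rw [commutator_eq_closure, Subgroup.closure_le]
      rintro _ ⟨a, b, rfl⟩
      exact hcommWL a b
    have hder : commutator L ≤ Subgroup.closure {x : L | x ^ p = 1} :=
      le_trans hcle (fun x hx => Subgroup.subset_closure ((hWL x).mp hx))
    have hcl : ⁅⁅commutator L, (⊤ : Subgroup L)⁆, (⊤ : Subgroup L)⁆ = ⊥ := by
      have h1 := Cfsg.Agent.S0128.step hLp WL 1 (le_of_eq hj)
      have h2 := Cfsg.Agent.S0128.step hLp ⁅WL, (⊤ : Subgroup L)⁆ 0 h1
      rw [pow_zero] at h2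
      have h3 : ⁅⁅WL, (⊤ : Subgroup L)⁆, (⊤ : Subgroup L)⁆ = ⊥ := Subgroup.eq_bot_of_card_le _ h2
      have h4 : ⁅⁅commutator L, (⊤ : Subgroup L)⁆, (⊤ : Subgroup L)⁆ ≤
          ⁅⁅WL, (⊤ : Subgroup L)⁆, (⊤ : Subgroup L)⁆ :=
        Subgroup.commutator_mono (Subgroup.commutator_mono hcle le_rfl) le_rfl
      rw [h3] at h4
      exact le_bot_iff.mp h4
    have hpabL : ∀ x y : L, (x * y) ^ p = x ^ p * y ^ p :=
      Cfsg.Agent.S0123.result hLp (Or.inr ⟨hp, hcl⟩) hder
    obtain ⟨ψ, hψ⟩ : ∃ ψ : L →* R, ∀ x : L, ψ x = (x : R) ^ p :=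
      ⟨MonoidHom.mk' (fun x : L => (x : R) ^ p) (fun a b => by
        have h := congrArg Subtype.val (hpabL a b)
        simpa using h), fun _ => rfl⟩
    have hrange : ψ.range ≤ T := by
      rintro _ ⟨x, rfl⟩
      rw [hψ]; exact (hLmem _).mp x.2
    have hker : Nat.card ψ.ker ≤ p ^ 2 :=
      le_trans (card_ker_le' L ψ (fun x hx => by rw [hψ] at hx; exact hx)) hW
    have hcL : Nat.card L = Nat.card ψ.ker * Nat.card ψ.range := card_eq_ker_range ψ
    have hr : Nat.card ψ.range ≤ p := le_of_le_of_eq (Subgroup.card_le_of_le hrange) hTcard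
    have h5 : p ^ 3 * p ≤ p ^ 2 * p := by
      rw [← hLcard, hcL]; exact Nat.mul_le_mul hker hr
    have h6 : p ^ 3 ≤ p ^ 2 := Nat.le_of_mul_le_mul_right h5 hp0
    have h7 : 3 ≤ 2 := (Nat.pow_le_pow_iff_right hpp.one_lt).mp h6
    omega

theorem metacyclic_of_gen {R : Type u} [Group R] (a b : R) (hn : (Subgroup.zpowers a).Normal)
    (hgen : ∀ g : R, ∃ i j : ℕ, ∃ t ∈ Subgroup.zpowers a, g = a ^ i * b ^ j * t) :
    Cfsg.IsMetacyclic R := by
  haveI := hn
  refine ⟨Subgroup.zpowers a, hn, inferInstance, ?_⟩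
  refine isCyclic_iff_exists_zpowers_eq_top.mpr ⟨QuotientGroup.mk' (Subgroup.zpowers a) b, ?_⟩
  refine (Subgroup.eq_top_iff' _).mpr (fun q => ?_)
  obtain ⟨g, rfl⟩ := QuotientGroup.mk'_surjective (Subgroup.zpowers a) q
  obtain ⟨i, j, t, ht, rfl⟩ := hgen g
  rw [map_mul, map_mul, map_pow, map_pow,
    Cfsg.Agent.Helper8.Meta.map_eq_one_of_mem (Subgroup.zpowers a) (Subgroup.mem_zpowers a),
    one_pow, one_mul, Cfsg.Agent.Helper8.Meta.map_eq_one_of_mem (Subgroup.zpowers a) ht, mul_one]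
  exact Subgroup.npow_mem_zpowers _ j

theorem metacyclic_of_cyclic {R : Type u} [Group R] [IsCyclic R] : Cfsg.IsMetacyclic R :=
  ⟨⊤, inferInstance, inferInstance,
    isCyclic_of_surjective (QuotientGroup.mk' ⊤) (QuotientGroup.mk'_surjective ⊤)⟩

theorem metacyclic_of_MC {R : Type u} [Group R] {a b : R}
    (h : Cfsg.Agent.Helper8.Meta.MC a b) : Cfsg.IsMetacyclic R :=
  metacyclic_of_gen a b h.normal (fun g => by
    obtain ⟨i, j, hg⟩ := h.gen g
    exact ⟨i, j, 1, one_mem _, by rw [mul_one]; exact hg⟩)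

theorem zp_props {R : Type*} [Group R] {p : ℕ} [Fact p.Prime] (z : R) (hz1 : z ≠ 1)
    (hzp : z ^ p = 1) (hzc : ∀ g : R, g * z = z * g) :
    (∀ t ∈ Subgroup.zpowers z, ∀ g : R, g * t = t * g) ∧
      (∀ t ∈ Subgroup.zpowers z, t ^ p = 1) ∧
      Nat.card (Subgroup.zpowers z) = p ∧ (Subgroup.zpowers z).Normal := by
  have h1 : ∀ t ∈ Subgroup.zpowers z, ∀ g : R, g * t = t * g := by
    intro t ht g
    obtain ⟨i, rfl⟩ := Subgroup.mem_zpowers_iff.mp ht
    exact ((show Commute g z from hzc g).zpow_right i).eq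
  refine ⟨h1, ?_, ?_, ?_⟩
  · intro t ht
    obtain ⟨i, rfl⟩ := Subgroup.mem_zpowers_iff.mp ht
    rw [← zpow_natCast, ← zpow_mul, mul_comm, zpow_mul, zpow_natCast, hzp, one_zpow]
  · rw [Nat.card_zpowers, orderOf_eq_prime hzp hz1]
  · exact ⟨fun n hn g => by rw [h1 n hn g, mul_inv_cancel_right]; exact hn⟩

/-- A `p`-abelian `p`-group (`p` odd) with at most `p ^ 2` solutions of `x ^ p = 1`, having an
element `z` of order `p` all of whose over-subgroups are normal, is metacyclic. -/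
theorem endgame {p : ℕ} [Fact p.Prime] (hp2 : p ≠ 2) {R : Type u} [Group R] [Finite R]
    (hR : IsPGroup p R) (hab : ∀ x y : R, (x * y) ^ p = x ^ p * y ^ p)
    (hW : Nat.card {x : R // x ^ p = 1} ≤ p ^ 2) (z : R) (hz1 : z ≠ 1) (hzp : z ^ p = 1)
    (hzn : ∀ H : Subgroup R, z ∈ H → H.Normal) : Cfsg.IsMetacyclic R := by
  have hpp : p.Prime := Fact.out
  obtain ⟨r, x, hx, hmax⟩ : ∃ r : ℕ, ∃ x : R, x ^ (p ^ r) = z ∧
      ∀ x' : R, x' ^ (p ^ (r + 1)) ≠ z := by
    by_contra hcon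
    push Not at hcon
    have hall : ∀ r : ℕ, ∃ x : R, x ^ (p ^ r) = z := by
      intro r
      induction r with
      | zero => exact ⟨z, by rw [pow_zero, pow_one]⟩
      | succ r ih =>
        obtain ⟨x, hx⟩ := ih
        exact hcon r x hx
    obtain ⟨n, hn⟩ := hR.exists_card_eq
    obtain ⟨x, hx⟩ := hall n
    rw [← hn, pow_card_eq_one'] at hx
    exact hz1 hx.symm
  obtain ⟨N, hN⟩ : ∃ N : Subgroup R, N = Subgroup.zpowers x := ⟨_, rfl⟩
  have hxN : x ∈ N := by rw [hN]; exact Subgroup.mem_zpowers x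
  have hzN : z ∈ N := by rw [← hx]; exact N.pow_mem hxN _
  haveI hNn : N.Normal := hzn N hzN
  haveI hNc : IsCyclic N := by rw [hN]; infer_instance
  have hcount : Nat.card {q : R ⧸ N // q ^ p = 1} ≤ p := by
    obtain ⟨π, hπ⟩ : ∃ π : R →* R, ∀ x, π x = x ^ p :=
      ⟨MonoidHom.mk' (fun x => x ^ p) hab, fun _ => rfl⟩
    obtain ⟨K, hK⟩ : ∃ K : Subgroup R, K = π.ker := ⟨_, rfl⟩
    have hKmem : ∀ y : R, y ∈ K ↔ y ^ p = 1 := by
      intro y; rw [hK, MonoidHom.mem_ker, hπ]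
    have hKcard : Nat.card K ≤ p ^ 2 := by
      rw [hK]; exact le_trans (card_ker_le π hπ) hW
    obtain ⟨f, hf⟩ : ∃ f : K →* R ⧸ N, ∀ k : K, f k = QuotientGroup.mk' N (k : R) :=
      ⟨(QuotientGroup.mk' N).comp K.subtype, fun _ => rfl⟩
    have hrange : ∀ q : R ⧸ N, q ^ p = 1 → q ∈ f.range := by
      intro q hq
      obtain ⟨y, rfl⟩ := QuotientGroup.mk'_surjective N q
      have hyN : y ^ p ∈ N :=
        Cfsg.Agent.Helper8.Meta.mem_of_map_eq_one N (by rw [map_pow]; exact hq)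
      rw [hN] at hyN
      obtain ⟨c, hc⟩ := Cfsg.Agent.Helper8.Meta.exists_pow_of_mem_zpowers hyN
      by_cases hpc : p ∣ c
      · obtain ⟨c', rfl⟩ := hpc
        have hw : (y * (x ^ c')⁻¹) ^ p = 1 := by
          rw [hab, inv_pow, ← pow_mul, mul_comm c' p, hc, mul_inv_cancel]
        refine MonoidHom.mem_range.mpr ⟨⟨y * (x ^ c')⁻¹, (hKmem _).mpr hw⟩, ?_⟩
        rw [hf]
        show QuotientGroup.mk' N (y * (x ^ c')⁻¹) = QuotientGroup.mk' N y
        rw [map_mul, map_inv, Cfsg.Agent.Helper8.Meta.map_eq_one_of_mem N (N.pow_mem hxN c'),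
          inv_one, mul_one]
      · exfalso
        obtain ⟨k, hk⟩ := IsPGroup.iff_orderOf.mp hR x
        have hcop : Nat.Coprime c (orderOf x) := by
          rw [hk]
          exact Nat.Coprime.pow_right k ((Nat.Prime.coprime_iff_not_dvd hpp).mpr hpc).symm
        obtain ⟨m, hm⟩ := exists_pow_eq_self_of_coprime hcop
        have hxm : (y ^ m) ^ p = x := by
          rw [← pow_mul, mul_comm, pow_mul, ← hc]; exact hm
        exact hmax (y ^ m)
          (by rw [show p ^ (r + 1) = p * p ^ r from pow_succ' p r, pow_mul, hxm, hx])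
    have hzK : z ∈ K := (hKmem z).mpr hzp
    have hkerne : (⊥ : Subgroup K) ≠ f.ker := by
      intro h
      have h1 : (⟨z, hzK⟩ : K) ∈ f.ker := by
        rw [MonoidHom.mem_ker, hf]
        exact Cfsg.Agent.Helper8.Meta.map_eq_one_of_mem N hzN
      rw [← h, Subgroup.mem_bot] at h1
      exact hz1 (by simpa using congrArg Subtype.val h1)
    have h1 := Cfsg.Agent.S0128.lt_card (hR.to_subgroup K) ⊥ f.ker bot_le hkerne
    rw [Subgroup.card_bot, mul_one] at h1
    have h2 : Nat.card K = Nat.card f.ker * Nat.card f.range := card_eq_ker_range f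
    have h3 : Nat.card {q : R ⧸ N // q ^ p = 1} ≤ Nat.card f.range :=
      Nat.card_le_card_of_injective
        (fun q : {q : R ⧸ N // q ^ p = 1} => (⟨q.1, hrange q.1 q.2⟩ : f.range))
        (fun a b h => Subtype.ext (by have h' := congrArg Subtype.val h; exact h'))
    have h4 : p * Nat.card f.range ≤ p * p := by
      calc p * Nat.card f.range ≤ Nat.card f.ker * Nat.card f.range :=
            Nat.mul_le_mul_right _ h1
        _ = Nat.card K := h2.symm
        _ ≤ p ^ 2 := hKcard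
        _ = p * p := sq p
    exact le_trans h3 (Nat.le_of_mul_le_mul_left h4 hpp.pos)
  haveI : IsCyclic (R ⧸ N) := lemU p hp2 _ (R ⧸ N) rfl (hR.to_quotient N) hcount
  exact ⟨N, hNn, hNc, inferInstance⟩

theorem final {p : ℕ} [Fact p.Prime] (hp2 : p ≠ 2) {R : Type u} [Group R] [Finite R]
    (hR : IsPGroup p R) (hW : Nat.card {x : R // x ^ p = 1} ≤ p ^ 2) (z : R) (hz1 : z ≠ 1)
    (hzp : z ^ p = 1) (hzc : ∀ g : R, g * z = z * g)
    (hcomm : ∀ x y : R, x * y * x⁻¹ * y⁻¹ ∈ Subgroup.zpowers z) : Cfsg.IsMetacyclic R := by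
  have hpp : p.Prime := Fact.out
  obtain ⟨hTc, hTp, -, -⟩ := zp_props z hz1 hzp hzc
  refine endgame hp2 hR (fun x y => pab_of hpp hp2 (Subgroup.zpowers z) hTc hTp x y (hcomm _ _))
    hW z hz1 hzp (fun H hz => ⟨fun n hn g => ?_⟩)
  have h2 : g * n * g⁻¹ * n⁻¹ ∈ H := (Subgroup.zpowers_le.mpr hz) (hcomm g n)
  have h3 := H.mul_mem h2 hn
  rwa [inv_mul_cancel_right] at h3

theorem comm_of_gen {R S : Type*} [Group R] [Group S] (q : R →* S) (T : Subgroup R)
    (hTc : ∀ t ∈ T, ∀ g : R, g * t = t * g) (a b : R)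
    (hgen : ∀ g : R, ∃ i j : ℕ, ∃ t ∈ T, g = a ^ i * b ^ j * t)
    (hab : q a * q b = q b * q a) (x y : R) : q x * q y = q y * q x := by
  have hqt : ∀ t ∈ T, ∀ g : R, Commute (q t) (q g) := by
    intro t ht g
    show q t * q g = q g * q t
    rw [← map_mul, ← map_mul, hTc t ht g]
  have hqab : Commute (q a) (q b) := hab
  have hA : ∀ i k : ℕ, Commute (q (a ^ i)) (q (a ^ k)) := fun i k => by
    rw [map_pow, map_pow]; exact (Commute.refl _).pow_pow i k
  have hB : ∀ i k : ℕ, Commute (q (b ^ i)) (q (b ^ k)) := fun i k => by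
    rw [map_pow, map_pow]; exact (Commute.refl _).pow_pow i k
  have hAB : ∀ i k : ℕ, Commute (q (a ^ i)) (q (b ^ k)) := fun i k => by
    rw [map_pow, map_pow]; exact hqab.pow_pow i k
  obtain ⟨i, j, t, ht, rfl⟩ := hgen x
  obtain ⟨k, l, t', ht', rfl⟩ := hgen y
  have key : Commute (q (a ^ i) * q (b ^ j) * q t) (q (a ^ k) * q (b ^ l) * q t') :=
    Commute.mul_left (Commute.mul_left
      (Commute.mul_right (Commute.mul_right (hA i k) (hAB i l)) (hqt t' ht' _).symm)
      (Commute.mul_right (Commute.mul_right (hAB k j).symm (hB j l)) (hqt t' ht' _).symm))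
      (Commute.mul_right (Commute.mul_right (hqt t ht _) (hqt t ht _)) (hqt t ht _))
  simp only [map_mul]
  exact key.eq

theorem lemC {R : Type*} [Group R] (T : Subgroup R) (hTc : ∀ t ∈ T, ∀ g : R, g * t = t * g)
    (a b : R) (hgen : ∀ g : R, ∃ i j : ℕ, ∃ t ∈ T, g = a ^ i * b ^ j * t) (s : ℕ) (t₀ : R)
    (ht₀ : t₀ ∈ T) (hconj : b * a * b⁻¹ = a ^ s * t₀) :
    ∀ x y : R, x * y * x⁻¹ * y⁻¹ ∈ Subgroup.zpowers (a * b * a⁻¹ * b⁻¹) := by
  obtain ⟨c, hc⟩ : ∃ c : R, c = a * b * a⁻¹ * b⁻¹ := ⟨_, rfl⟩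
  rw [← hc]
  obtain ⟨u, hu⟩ : ∃ u : R, u = b * a * b⁻¹ := ⟨_, rfl⟩
  have hua : u = a ^ s * t₀ := hu.trans hconj
  have hat : Commute a t₀ := hTc t₀ ht₀ a
  have hau : Commute a u := by
    rw [hua]; exact ((Commute.refl a).pow_right s).mul_right hat
  have hc' : c = a * u⁻¹ := by rw [hc, hu]; group
  have hac : Commute a c := by
    rw [hc']; exact (Commute.refl a).mul_right hau.inv_right
  have hbu : b * u * b⁻¹ = u ^ s * t₀ := by
    calc b * u * b⁻¹ = b * (a ^ s * t₀) * b⁻¹ := by rw [← hua]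
      _ = (b * a ^ s * b⁻¹) * (b * t₀ * b⁻¹) := by group
      _ = u ^ s * t₀ := by rw [← conj_pow, ← hu, hTc t₀ ht₀ b, mul_inv_cancel_right]
  have hbc : b * c * b⁻¹ = c ^ s := by
    have h1 : b * c * b⁻¹ = u * (b * u * b⁻¹)⁻¹ := by rw [hc', hu]; group
    have h2 : u * t₀⁻¹ = a ^ s := by rw [hua, mul_inv_cancel_right]
    rw [h1, hbu, hc', hau.inv_right.mul_pow, inv_pow, mul_inv_rev, ← mul_assoc, h2]
  have hbj : ∀ j : ℕ, b ^ j * c * (b ^ j)⁻¹ = c ^ (s ^ j) := by
    intro j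
    induction j with
    | zero => simp
    | succ j ih =>
      have h1 : b ^ (j + 1) * c * (b ^ (j + 1))⁻¹ = b * (b ^ j * c * (b ^ j)⁻¹) * b⁻¹ := by
        rw [pow_succ']; simp only [mul_inv_rev, mul_assoc]
      rw [h1, ih, ← conj_pow, hbc, ← pow_mul, ← pow_succ']
  have hnorm : ∀ g : R, ∃ k : ℕ, g * c * g⁻¹ = c ^ k := by
    intro g
    obtain ⟨i, j, t, ht, rfl⟩ := hgen g
    refine ⟨s ^ j, ?_⟩
    have h1 : a ^ i * b ^ j * t * c * (a ^ i * b ^ j * t)⁻¹ =
        a ^ i * (b ^ j * (t * c * t⁻¹) * (b ^ j)⁻¹) * (a ^ i)⁻¹ := by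
      simp only [mul_inv_rev, mul_assoc]
    have h2 : t * c * t⁻¹ = c := by rw [← hTc t ht c, mul_inv_cancel_right]
    have h3 : Commute (a ^ i) (c ^ (s ^ j)) := (hac.pow_left i).pow_right _
    rw [h1, h2, hbj, h3.eq, mul_inv_cancel_right]
  haveI hN : (Subgroup.zpowers c).Normal := ⟨fun n hn g => by
    obtain ⟨k, rfl⟩ := Subgroup.mem_zpowers_iff.mp hn
    obtain ⟨m, hm⟩ := hnorm g
    rw [← conj_zpow, hm]
    exact (Subgroup.zpowers c).zpow_mem (Subgroup.npow_mem_zpowers c m) k⟩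
  intro x y
  refine Cfsg.Agent.Helper8.Meta.mem_of_map_eq_one (Subgroup.zpowers c) ?_
  have hqab : QuotientGroup.mk' (Subgroup.zpowers c) a * QuotientGroup.mk' (Subgroup.zpowers c) b =
      QuotientGroup.mk' (Subgroup.zpowers c) b * QuotientGroup.mk' (Subgroup.zpowers c) a := by
    have h1 : QuotientGroup.mk' (Subgroup.zpowers c) (a * b * a⁻¹ * b⁻¹) = 1 :=
      Cfsg.Agent.Helper8.Meta.map_eq_one_of_mem _ (by rw [← hc]; exact Subgroup.mem_zpowers c)
    rw [map_mul, map_mul, map_mul, map_inv, map_inv] at h1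
    exact mul_inv_eq_iff_eq_mul.mp (mul_inv_eq_one.mp h1)
  have h3 := comm_of_gen (QuotientGroup.mk' (Subgroup.zpowers c)) T hTc a b hgen hqab x y
  rw [map_mul, map_mul, map_mul, map_inv, map_inv, h3]
  group

theorem mem_zpowers_of_quot {R : Type*} [Group R] (T : Subgroup R) [T.Normal] (a x : R)
    (hT : T ≤ Subgroup.zpowers a)
    (h : QuotientGroup.mk' T x ∈ Subgroup.zpowers (QuotientGroup.mk' T a)) :
    x ∈ Subgroup.zpowers a := by
  obtain ⟨i, hi⟩ := Subgroup.mem_zpowers_iff.mp h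
  have h1 : (a ^ i)⁻¹ * x ∈ T := by
    refine Cfsg.Agent.Helper8.Meta.mem_of_map_eq_one T ?_
    rw [map_mul, map_inv, map_zpow, hi, inv_mul_cancel]
  have h2 := (Subgroup.zpowers a).mul_mem (Subgroup.zpow_mem_zpowers a i) (hT h1)
  rwa [mul_inv_cancel_left] at h2

/-- Huppert: for `p > 3`, a finite `p`-group with at most `p ^ 2` solutions of `x ^ p = 1`
is metacyclic. -/
theorem huppert (p : ℕ) [Fact p.Prime] (hp : 3 < p) : ∀ n : ℕ, ∀ (R : Type u) [Group R]
    [Finite R], Nat.card R = n → IsPGroup p R → Nat.card {x : R // x ^ p = 1} ≤ p ^ 2 →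
    Cfsg.IsMetacyclic R := by
  intro n
  induction n using Nat.strong_induction_on with
  | _ n ih =>
    intro R _ _ hn hR hW
    have hpp : p.Prime := Fact.out
    have hp2 : p ≠ 2 := by omega
    by_cases hcomm0 : commutator R = ⊥
    · by_cases htop : (⊤ : Subgroup R) = ⊥
      · haveI : IsCyclic R := isCyclic_iff_exists_zpowers_eq_top.mpr
          ⟨1, by rw [htop]; exact Subgroup.zpowers_one_eq_bot⟩
        exact metacyclic_of_cyclic
      · obtain ⟨z, -, hz1, hzp, hzc⟩ := exists_central_p hR ⊤ htop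
        refine final hp2 hR hW z hz1 hzp hzc (fun x y => ?_)
        have h1 : ⁅x, y⁆ ∈ commutator R := Cfsg.Agent.Helper8.Meta.comm_mem_commutator x y
        rw [hcomm0, Subgroup.mem_bot, commutatorElement_def] at h1
        rw [h1]; exact one_mem _
    · obtain ⟨z, hzR', hz1, hzp, hzc⟩ := exists_central_p hR (commutator R) hcomm0
      obtain ⟨T, hT⟩ : ∃ T : Subgroup R, T = Subgroup.zpowers z := ⟨_, rfl⟩
      obtain ⟨hTc, hTp, hTcard, hTn⟩ := zp_props z hz1 hzp hzc
      rw [← hT] at hTc hTp hTcard hTn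
      haveI := hTn
      have hzT : z ∈ T := by rw [hT]; exact Subgroup.mem_zpowers z
      have hclaim := claimA hp hR hW T hTc hTp hTcard
      have hlt : Nat.card (R ⧸ T) < n := by
        have h1 := Subgroup.card_eq_card_quotient_mul_card_subgroup T
        rw [hn, hTcard] at h1
        have hpos : 0 < Nat.card (R ⧸ T) := Nat.card_pos
        rw [h1]
        exact lt_mul_of_one_lt_right hpos hpp.one_lt
      have hmQ : Cfsg.IsMetacyclic (R ⧸ T) :=
        ih _ hlt (R ⧸ T) rfl (hR.to_quotient T) hclaim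
      obtain ⟨ab, bb, hMC⟩ := Cfsg.Agent.Helper8.Meta.exists_MC hmQ
      obtain ⟨a, rfl⟩ := QuotientGroup.mk'_surjective T ab
      obtain ⟨b, rfl⟩ := QuotientGroup.mk'_surjective T bb
      have hgen : ∀ g : R, ∃ i j : ℕ, ∃ t ∈ T, g = a ^ i * b ^ j * t := by
        intro g
        obtain ⟨i, j, hij⟩ := hMC.gen (QuotientGroup.mk' T g)
        refine ⟨i, j, (a ^ i * b ^ j)⁻¹ * g, ?_, by group⟩
        refine Cfsg.Agent.Helper8.Meta.mem_of_map_eq_one T ?_
        rw [map_mul, map_inv, map_mul, map_pow, map_pow, hij, inv_mul_cancel]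
      obtain ⟨s, t₀, ht₀, hconj⟩ : ∃ s : ℕ, ∃ t₀ ∈ T, b * a * b⁻¹ = a ^ s * t₀ := by
        have h1 := hMC.normal.conj_mem _ (Subgroup.mem_zpowers (QuotientGroup.mk' T a))
          (QuotientGroup.mk' T b)
        obtain ⟨s, hs⟩ := Cfsg.Agent.Helper8.Meta.exists_pow_of_mem_zpowers h1
        refine ⟨s, (a ^ s)⁻¹ * (b * a * b⁻¹), ?_, by group⟩
        refine Cfsg.Agent.Helper8.Meta.mem_of_map_eq_one T ?_
        rw [map_mul, map_inv, map_pow, map_mul, map_mul, map_inv, hs, inv_mul_cancel]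
      by_cases hza : z ∈ Subgroup.zpowers a
      · have hTa : T ≤ Subgroup.zpowers a := by
          rw [hT]; exact Subgroup.zpowers_le.mpr hza
        have hmap : ∀ w ∈ Subgroup.zpowers a,
            QuotientGroup.mk' T w ∈ Subgroup.zpowers (QuotientGroup.mk' T a) := by
          intro w hw
          obtain ⟨i, rfl⟩ := Subgroup.mem_zpowers_iff.mp hw
          rw [map_zpow]; exact Subgroup.zpow_mem_zpowers _ i
        have hnorm : (Subgroup.zpowers a).Normal := ⟨fun w hw g =>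
          mem_zpowers_of_quot T a _ hTa (by
            rw [map_mul, map_mul, map_inv]
            exact hMC.normal.conj_mem _ (hmap w hw) _)⟩
        exact metacyclic_of_gen a b hnorm (fun g => by
          obtain ⟨i, j, t, ht, hg⟩ := hgen g
          exact ⟨i, j, t, hTa ht, hg⟩)
      · obtain ⟨c, hc⟩ : ∃ c : R, c = a * b * a⁻¹ * b⁻¹ := ⟨_, rfl⟩
        have hC : ∀ x y : R, x * y * x⁻¹ * y⁻¹ ∈ Subgroup.zpowers c := by
          rw [hc]; exact lemC T hTc a b hgen s t₀ ht₀ hconj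
        have hzc' : z ∈ Subgroup.zpowers c := by
          have hle : commutator R ≤ Subgroup.zpowers c := by
            rw [commutator_eq_closure, Subgroup.closure_le]
            rintro _ ⟨x, y, rfl⟩
            rw [commutatorElement_def]
            exact hC x y
          exact hle hzR'
        obtain ⟨nn, hnn⟩ := Cfsg.Agent.Helper8.Meta.exists_pow_of_mem_zpowers hzc'
        have hcq : QuotientGroup.mk' T c ∈ Subgroup.zpowers (QuotientGroup.mk' T a) := by
          refine hMC.comm_le ?_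
          have h1 : QuotientGroup.mk' T c =
              ⁅QuotientGroup.mk' T a, QuotientGroup.mk' T b⁆ := by
            rw [hc, commutatorElement_def, map_mul, map_mul, map_mul, map_inv, map_inv]
          rw [h1]
          exact Cfsg.Agent.Helper8.Meta.comm_mem_commutator _ _
        obtain ⟨m, hm⟩ := Cfsg.Agent.Helper8.Meta.exists_pow_of_mem_zpowers hcq
        obtain ⟨t₁, ht₁, hct₁⟩ : ∃ t₁ ∈ T, c = a ^ m * t₁ := by
          refine ⟨(a ^ m)⁻¹ * c, ?_, by group⟩
          refine Cfsg.Agent.Helper8.Meta.mem_of_map_eq_one T ?_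
          rw [map_mul, map_inv, map_pow, hm, inv_mul_cancel]
        have hcomm1 : Commute (a ^ m) t₁ := hTc t₁ ht₁ (a ^ m)
        have hz2 : z = (a ^ m) ^ nn * t₁ ^ nn := by
          rw [← hnn, hct₁, hcomm1.mul_pow]
        have he : (a ^ m) ^ nn = 1 := by
          by_contra hne
          have heT : (a ^ m) ^ nn ∈ T := by
            have h1 : (a ^ m) ^ nn = z * (t₁ ^ nn)⁻¹ := by rw [hz2, mul_inv_cancel_right]
            rw [h1]; exact T.mul_mem hzT (T.inv_mem (T.pow_mem ht₁ nn))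
          have h2 : Subgroup.zpowers ((a ^ m) ^ nn) = T := by
            have hle : Subgroup.zpowers ((a ^ m) ^ nn) ≤ T := Subgroup.zpowers_le.mpr heT
            by_contra hneq
            have h3 := Cfsg.Agent.S0128.lt_card hR _ T hle hneq
            rw [Nat.card_zpowers, orderOf_eq_prime (hTp _ heT) hne, hTcard] at h3
            have h5 : p * p ≤ p * 1 := by rw [mul_one]; exact h3
            have h6 := Nat.le_of_mul_le_mul_left h5 hpp.pos
            have h7 := hpp.one_lt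
            omega
          apply hza
          have h4 : z ∈ Subgroup.zpowers ((a ^ m) ^ nn) := by rw [h2]; exact hzT
          refine (Subgroup.zpowers_le.mpr ?_) h4
          rw [← pow_mul]; exact Subgroup.npow_mem_zpowers a _
        have hz3 : z = t₁ ^ nn := by rw [hz2, he, one_mul]
        have hpn : ¬ p ∣ nn := by
          rintro ⟨w, rfl⟩
          apply hz1
          rw [hz3, pow_mul, hTp t₁ ht₁, one_pow]
        have ham : a ^ m = 1 := by
          obtain ⟨k, hk⟩ := hR (a ^ m)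
          have hcop : Nat.Coprime nn (p ^ k) :=
            Nat.Coprime.pow_right k ((Nat.Prime.coprime_iff_not_dvd hpp).mpr hpn).symm
          have hg : Nat.gcd nn (p ^ k) = 1 := hcop
          have h1 := pow_gcd_eq_one.mpr ⟨he, hk⟩
          rw [hg, pow_one] at h1
          exact h1
        have hcT : c ∈ T := by rw [hct₁, ham, one_mul]; exact ht₁
        refine final hp2 hR hW z hz1 hzp hzc (fun x y => ?_)
        have h1 : Subgroup.zpowers c ≤ Subgroup.zpowers z := by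
          rw [← hT]; exact Subgroup.zpowers_le.mpr hcT
        exact h1 (hC x y)

theorem sol_le_omega {R : Type*} [Group R] [Finite R] (p : ℕ) :
    Nat.card {x : R // x ^ p = 1} ≤ Nat.card ↥(Cfsg.omegaOne p (⊤ : Subgroup R)) :=
  Nat.card_le_card_of_injective
    (fun k : {x : R // x ^ p = 1} => (⟨k.1,
      show k.1 ∈ Subgroup.closure {x : R | x ∈ (⊤ : Subgroup R) ∧ x ^ p = 1} from
        Subgroup.subset_closure ⟨Subgroup.mem_top _, k.2⟩⟩ :
      ↥(Cfsg.omegaOne p (⊤ : Subgroup R))))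
    (fun a b h => Subtype.ext (by have h' := congrArg Subtype.val h; exact h'))

theorem omega_le_sol {Q : Type*} [Group Q] [Finite Q] (p : ℕ)
    (hmul : ∀ x y : Q, x ^ p = 1 → y ^ p = 1 → (x * y) ^ p = 1) :
    Nat.card ↥(Cfsg.omegaOne p (⊤ : Subgroup Q)) ≤ Nat.card {q : Q // q ^ p = 1} := by
  obtain ⟨S, hS⟩ := exists_sol_subgroup p hmul
  have hle : Cfsg.omegaOne p (⊤ : Subgroup Q) ≤ S := by
    show Subgroup.closure {x : Q | x ∈ (⊤ : Subgroup Q) ∧ x ^ p = 1} ≤ S
    rw [Subgroup.closure_le]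
    intro x hx
    exact (hS x).mpr hx.2
  exact Nat.card_le_card_of_injective
    (fun k : ↥(Cfsg.omegaOne p (⊤ : Subgroup Q)) =>
      (⟨k.1, (hS _).mp (hle k.2)⟩ : {q : Q // q ^ p = 1}))
    (fun a b h => Subtype.ext (by have h' := congrArg Subtype.val h; exact h'))

end Cfsg.Agent.Helper7.PU
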