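import Mathlib

namespace Cfsg.Agent.Helper7.ESC

open Polynomial

variable {p : ℕ} [Fact p.Prime] {V : Type*} [AddCommGroup V] [Module (ZMod p) V] [Finite V]

/-- adjoint relation for polynomials in an isometry with inverse `yi`. -/
theorem adj_poly {W : Type*} [AddCommGroup W] [Module (ZMod p) W]
    (b : W → W → ZMod p) (hadd₁ : ∀ u u' v, b (u + u') v = b u v + b u' v)
    (hadd₂ : ∀ u v v', b u (v + v') = b u v + b u v')
    (hsm₁ : ∀ (c : ZMod p) u v, b (c • u) v = c * b u v)
    (hsm₂ : ∀ (c : ZMod p) u v, b u (c • v) = c * b u v)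
    (y yi : Module.End (ZMod p) W) (hyyi : y * yi = 1)
    (hiso : ∀ u v, b (y u) (y v) = b u v) (g : (ZMod p)[X]) :
    ∀ u v, b (aeval y g u) v = b u (aeval yi g v) := by
  have h1 : ∀ u v, b (y u) v = b u (yi v) := by
    intro u v
    have : y (yi v) = v := by
      have := congrArg (fun e : Module.End (ZMod p) W => e v) hyyi
      simpa using this
    rw [← hiso u (yi v), this]
  have hk : ∀ (k : ℕ) u v, b ((y ^ k) u) v = b u ((yi ^ k) v) := by
    intro k
    induction k with
    | zero => intro u v; simp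
    | succ k ih =>
      intro u v
      rw [pow_succ', pow_succ]
      simp only [Module.End.mul_apply]
      rw [h1, ih]
  induction g using Polynomial.induction_on' with
  | add a c ha hc =>
    intro u v
    simp only [map_add, LinearMap.add_apply]
    rw [hadd₁, hadd₂, ha, hc]
  | monomial n c =>
    intro u v
    simp only [aeval_monomial, Module.End.mul_apply, Module.algebraMap_end_apply]
    rw [hsm₁, hsm₂, hk]

theorem irr_isom (B : V →ₗ[ZMod p] V →ₗ[ZMod p] ZMod p) (halt : ∀ v, B v v = 0) (x : V ≃ₗ[ZMod p] V) (hx : ∀ u v, B (x u) (x v) = B u v) (W : Submodule (ZMod p) V) (hWinv : ∀ w ∈ W, x w ∈ W) (hWne : W ≠ ⊥) (hWmin : ∀ U : Submodule (ZMod p) V, U ≤ W → (∀ u ∈ U, x u ∈ U) → U = ⊥ ∨ U = W) (hWnd : ∀ u ∈ W, (∀ v ∈ W, B u v = 0) → u = 0) : ∃ j : ℕ, ∀ w ∈ W, (x ^ (p ^ j + 1)) w = w := by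
  classical
  have hp : p.Prime := Fact.out
  have : Finite (V ≃ₗ[ZMod p] V) :=
    Finite.of_injective (fun e : V ≃ₗ[ZMod p] V => (e : V → V)) DFunLike.coe_injective
  obtain ⟨N, hNpos, hxN⟩ : ∃ N : ℕ, 0 < N ∧ x ^ N = 1 :=
    ⟨orderOf x, orderOf_pos x, pow_orderOf_eq_one x⟩
  -- the restricted endomorphism
  let y : Module.End (ZMod p) W := (x : V →ₗ[ZMod p] V).restrict (fun w hw => hWinv w hw)
  have hy1 : ∀ w : W, ((y w : W) : V) = x (w : V) := fun w => rfl
  have hyk : ∀ (k : ℕ) (w : W), (((y ^ k) w : W) : V) = (x ^ k) (w : V) := by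
    intro k
    induction k with
    | zero => intro w; simp
    | succ k ih =>
      intro w
      rw [pow_succ, pow_succ]
      simp only [Module.End.mul_apply]
      rw [ih, hy1]
      rfl
  have hyN : y ^ N = 1 := by
    ext w
    rw [hyk, hxN]
    rfl
  let yi : Module.End (ZMod p) W := y ^ (N - 1)
  have hyyi : y * yi = 1 := by
    show y * y ^ (N - 1) = 1
    rw [← pow_succ', Nat.sub_add_cancel hNpos, hyN]
  -- skew symmetry
  have hskew : ∀ u v, B u v = - B v u := by
    intro u v
    have h := halt (u + v)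
    simp only [map_add, LinearMap.add_apply, halt, zero_add, add_zero] at h
    exact eq_neg_of_add_eq_zero_right h
  -- nontrivial
  obtain ⟨w0, hw0W, hw0⟩ : ∃ w0 ∈ W, w0 ≠ 0 := by
    by_contra hcon
    push_neg at hcon
    exact hWne ((Submodule.eq_bot_iff W).2 hcon)
  -- dichotomy
  have hcomm : ∀ g : (ZMod p)[X], aeval y g * y = y * aeval y g := by
    intro g
    have h1 : aeval y (g * X) = aeval y g * y := by rw [map_mul, aeval_X]
    have h2 : aeval y (X * g) = y * aeval y g := by rw [map_mul, aeval_X]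
    rw [← h1, ← h2, mul_comm]
  have hdich : ∀ g : (ZMod p)[X], aeval y g = 0 ∨ Function.Injective (aeval y g) := by
    intro g
    have hU : ∀ u ∈ (LinearMap.ker (aeval y g)).map W.subtype, x u ∈ (LinearMap.ker (aeval y g)).map W.subtype := by
      rintro u ⟨w, hw, rfl⟩
      refine ⟨y w, ?_, rfl⟩
      have hw' : aeval y g w = 0 := hw
      show aeval y g (y w) = 0
      have := congrArg (fun e : Module.End (ZMod p) W => e w) (hcomm g)
      simp only [Module.End.mul_apply] at this
      rw [this, hw', map_zero]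
    rcases hWmin _ (Submodule.map_subtype_le W _) hU with h | h
    · right
      rw [← LinearMap.ker_eq_bot]
      rw [Submodule.eq_bot_iff]
      intro w hw
      have : (w : V) ∈ (LinearMap.ker (aeval y g)).map W.subtype := ⟨w, hw, rfl⟩
      rw [h] at this
      exact Subtype.ext (by simpa using this)
    · left
      ext w
      have : (w : V) ∈ (LinearMap.ker (aeval y g)).map W.subtype := by rw [h]; exact w.2
      obtain ⟨w', hw', hww⟩ := this
      have : w' = w := Subtype.ext hww
      subst this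
      have hw'' : aeval y g w' = 0 := hw'
      rw [hw'']
      rfl
  -- the ideal
  let φ : (ZMod p)[X] →+* Module.End (ZMod p) W := (aeval y : (ZMod p)[X] →ₐ[ZMod p] Module.End (ZMod p) W).toRingHom
  let I : Ideal (ZMod p)[X] := RingHom.ker φ
  have hImem : ∀ g, g ∈ I ↔ aeval y g = 0 := fun g => Iff.rfl
  have hIne_top : I ≠ ⊤ := by
    intro h
    have : (1 : (ZMod p)[X]) ∈ I := by rw [h]; trivial
    rw [hImem] at this
    have h2 := congrArg (fun e : Module.End (ZMod p) W => ((e ⟨w0, hw0W⟩ : W) : V)) this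
    simp at h2
    exact hw0 h2
  have hIprime : I.IsPrime := by
    refine ⟨hIne_top, ?_⟩
    intro a c hac
    rw [hImem] at hac
    rw [hImem, hImem]
    rcases hdich c with hc | hc
    · exact Or.inr hc
    · left
      have hsurj : Function.Surjective (aeval y c) := LinearMap.injective_iff_surjective.1 hc
      ext w
      obtain ⟨w', rfl⟩ := hsurj w
      have := congrArg (fun e : Module.End (ZMod p) W => e w') hac
      simp only [map_mul, Module.End.mul_apply] at this
      rw [this]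
      rfl
  have hXN : (X ^ N - 1 : (ZMod p)[X]) ∈ I := by
    rw [hImem]
    simp [hyN]
  have hIne_bot : I ≠ ⊥ := by
    intro h
    rw [h] at hXN
    have h0 : (X ^ N - 1 : (ZMod p)[X]) = 0 := by simpa using hXN
    have h1 : (X ^ N - C (1 : ZMod p) : (ZMod p)[X]) ≠ 0 := X_pow_sub_C_ne_zero hNpos 1
    apply h1
    rw [map_one]
    exact h0
  have hImax : I.IsMaximal := hIprime.isMaximal hIne_bot
  -- annihilation by inverse
  have hinv : ∀ g ∈ I, aeval yi g = 0 := by
    intro g hg
    rw [hImem] at hg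
    ext v
    have hadj := adj_poly (W := W) (fun u v => B (u : V) (v : V))
      (fun u u' v => by simp) (fun u v v' => by simp) (fun c u v => by simp) (fun c u v => by simp)
      y yi hyyi (fun u v => by rw [hy1, hy1]; exact hx _ _) g
    have hz : ∀ u ∈ W, B ((aeval yi g v : W) : V) u = 0 := by
      intro u hu
      rw [hskew]
      have := hadj ⟨u, hu⟩ v
      simp only at this
      rw [← this, hg]
      simp
    have := hWnd _ (aeval yi g v).2 hz
    simpa using this
  -- the field
  letI : Field ((ZMod p)[X] ⧸ I) := Ideal.Quotient.field I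
  haveI : Finite (Module.End (ZMod p) W) :=
    Finite.of_injective (fun e : Module.End (ZMod p) W => (e : W → W)) DFunLike.coe_injective
  haveI : Finite ((ZMod p)[X] ⧸ I) :=
    Finite.of_injective _ (RingHom.kerLift_injective φ)
  -- the automorphism
  have hσ : ∀ g ∈ I, aeval (Ideal.Quotient.mk I (X ^ (N - 1))) g = 0 := by
    intro g hg
    have h1 : aeval (Ideal.Quotient.mkₐ (ZMod p) I (X ^ (N - 1))) g =
        Ideal.Quotient.mkₐ (ZMod p) I (aeval (X ^ (N - 1) : (ZMod p)[X]) g) :=
      aeval_algHom_apply (Ideal.Quotient.mkₐ (ZMod p) I) (X ^ (N - 1)) g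
    have h2 : aeval (X ^ (N - 1) : (ZMod p)[X]) g ∈ I := by
      rw [hImem]
      have h3 := aeval_algHom_apply (aeval y : (ZMod p)[X] →ₐ[ZMod p] Module.End (ZMod p) W) (X ^ (N - 1)) g
      rw [← h3]
      have h4 : aeval y (X ^ (N - 1) : (ZMod p)[X]) = yi := by simp [yi]
      rw [h4]
      exact hinv g hg
    have h5 : Ideal.Quotient.mkₐ (ZMod p) I (aeval (X ^ (N - 1) : (ZMod p)[X]) g) = 0 :=
      Ideal.Quotient.eq_zero_iff_mem.2 h2
    rw [← h5, ← h1]
    rfl
  let σ : ((ZMod p)[X] ⧸ I) →ₐ[ZMod p] ((ZMod p)[X] ⧸ I) :=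
    Ideal.Quotient.liftₐ I (aeval (Ideal.Quotient.mk I (X ^ (N - 1)))) hσ
  have hσX : σ (Ideal.Quotient.mk I X) = Ideal.Quotient.mk I (X ^ (N - 1)) := by
    show aeval (Ideal.Quotient.mk I (X ^ (N - 1))) (X : (ZMod p)[X]) = _
    rw [aeval_X]
  obtain ⟨n, hn⟩ := (FiniteField.bijective_frobeniusAlgHom_pow (ZMod p) ((ZMod p)[X] ⧸ I)).2 σ
  have hfrob : σ (Ideal.Quotient.mk I X) = (Ideal.Quotient.mk I X) ^ (p ^ n.1) := by
    have h1 := congrArg (fun τ : ((ZMod p)[X] ⧸ I) →ₐ[ZMod p] ((ZMod p)[X] ⧸ I) => τ (Ideal.Quotient.mk I X)) hn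
    simp only at h1
    rw [← h1, AlgHom.coe_pow, FiniteField.coe_frobeniusAlgHom, pow_iterate, ZMod.card]
  refine ⟨n.1, ?_⟩
  have hkey : (X ^ (p ^ n.1 + 1) - 1 : (ZMod p)[X]) ∈ I := by
    rw [← Ideal.Quotient.eq_zero_iff_mem]
    rw [map_sub, map_pow, map_one, pow_succ, ← hfrob, hσX, ← map_mul, ← pow_succ,
      Nat.sub_add_cancel hNpos, ← map_one (Ideal.Quotient.mk I), ← map_sub]
    exact Ideal.Quotient.eq_zero_iff_mem.2 hXN
  rw [hImem] at hkey
  have hypow : y ^ (p ^ n.1 + 1) = 1 := by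
    have : aeval y (X ^ (p ^ n.1 + 1) - 1 : (ZMod p)[X]) = y ^ (p ^ n.1 + 1) - 1 := by simp
    rw [this] at hkey
    exact sub_eq_zero.1 hkey
  intro w hw
  have := hyk (p ^ n.1 + 1) ⟨w, hw⟩
  rw [hypow] at this
  exact this.symm

end Cfsg.Agent.Helper7.ESC
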