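import Mathlib
import Cfsg.Prelude.Def_Transfer

namespace Cfsg.Agent.Helper7.ESE

universe u

theorem pow_comm' {P : Type*} [Group P] (a b c : P) (hab : a * b = c * b * a) (hca : a * c = c * a)
    (k : ℕ) : a ^ k * b = c ^ k * b * a ^ k := by
  induction k with
  | zero => simp
  | succ k ih =>
    have hk : a * c ^ k = c ^ k * a := ((show Commute a c from hca).pow_right k).eq
    calc a ^ (k + 1) * b = a * (a ^ k * b) := by rw [pow_succ', mul_assoc]
      _ = a * (c ^ k * b * a ^ k) := by rw [ih]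
      _ = (a * c ^ k) * b * a ^ k := by simp only [mul_assoc]
      _ = c ^ k * (a * b) * a ^ k := by rw [hk]; simp only [mul_assoc]
      _ = c ^ k * (c * b * a) * a ^ k := by rw [hab]
      _ = c ^ (k + 1) * b * a ^ (k + 1) := by rw [pow_succ, pow_succ']; simp only [mul_assoc]

theorem comm_mul_right {P : Type*} [Group P]
    (hc : ∀ a b g : P, g * (a * b * a⁻¹ * b⁻¹) = (a * b * a⁻¹ * b⁻¹) * g) (a b b' : P) :
    a * (b * b') * a⁻¹ * (b * b')⁻¹ = (a * b * a⁻¹ * b⁻¹) * (a * b' * a⁻¹ * b'⁻¹) := by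
  have h := hc a b' b⁻¹
  calc a * (b * b') * a⁻¹ * (b * b')⁻¹ = a * b * a⁻¹ * ((a * b' * a⁻¹ * b'⁻¹) * b⁻¹) := by group
    _ = a * b * a⁻¹ * (b⁻¹ * (a * b' * a⁻¹ * b'⁻¹)) := by rw [h]
    _ = _ := by group

theorem comm_mul_left {P : Type*} [Group P]
    (hc : ∀ a b g : P, g * (a * b * a⁻¹ * b⁻¹) = (a * b * a⁻¹ * b⁻¹) * g) (a a' b : P) :
    (a * a') * b * (a * a')⁻¹ * b⁻¹ = (a * b * a⁻¹ * b⁻¹) * (a' * b * a'⁻¹ * b⁻¹) := by
  have h := hc a' b (b * a⁻¹ * b⁻¹)
  calc (a * a') * b * (a * a')⁻¹ * b⁻¹ = a * ((a' * b * a'⁻¹ * b⁻¹) * (b * a⁻¹ * b⁻¹)) := by group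
    _ = a * ((b * a⁻¹ * b⁻¹) * (a' * b * a'⁻¹ * b⁻¹)) := by rw [h]
    _ = _ := by group

theorem pack {p : ℕ} [Fact p.Prime] {A : Type u} [CommGroup A] [Finite A]
    [Module (ZMod p) (Additive A)]
    (Ψ : A →* A →* Multiplicative (ZMod p)) (μ : A →* A) (N : ℕ) (hN : 0 < N)
    (h1 : ∀ a, Ψ a a = 1) (h2 : ∀ a, (∀ b, Ψ a b = 1) → a = 1)
    (h3 : ∀ a b, Ψ (μ a) (μ b) = Ψ a b) (h4 : ∀ a, (μ^[N]) a = a)
    (h5 : ∀ i, 0 < i → i < N → ∀ a, (μ^[i]) a = a → a = 1) :
    ∃ (B : Additive A →ₗ[ZMod p] Additive A →ₗ[ZMod p] ZMod p) (x : Additive A ≃ₗ[ZMod p] Additive A),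
      (∀ v, B v v = 0) ∧ (∀ u, (∀ v, B u v = 0) → u = 0) ∧ (∀ u v, B (x u) (x v) = B u v) ∧
      x ^ N = 1 ∧ (∀ i, 0 < i → i < N → ∀ v, (x ^ i) v = v → v = 0) := by
  classical
  let f₀ : Additive A → Additive A → ZMod p := fun u v =>
    Multiplicative.toAdd (Ψ (Additive.toMul u) (Additive.toMul v))
  have f₀_apply : ∀ u v, f₀ u v = Multiplicative.toAdd (Ψ (Additive.toMul u) (Additive.toMul v)) :=
    fun u v => rfl
  have hadd1 : ∀ u u' v, f₀ (u + u') v = f₀ u v + f₀ u' v := by
    intro u u' v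
    rw [f₀_apply, f₀_apply, f₀_apply, toMul_add, map_mul, MonoidHom.mul_apply, toAdd_mul]
  have hadd2 : ∀ u v v', f₀ u (v + v') = f₀ u v + f₀ u v' := by
    intro u v v'
    rw [f₀_apply, f₀_apply, f₀_apply, toMul_add, map_mul, toAdd_mul]
  have hsm1 : ∀ (c : ZMod p) u v, f₀ (c • u) v = c • f₀ u v := by
    intro c u v
    exact ZMod.map_smul (AddMonoidHom.mk' (fun m => f₀ m v) (fun a b => hadd1 a b v) :
      Additive A →+ ZMod p) c u
  have hsm2 : ∀ (c : ZMod p) u v, f₀ u (c • v) = c • f₀ u v := by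
    intro c u v
    exact ZMod.map_smul (AddMonoidHom.mk' (fun m => f₀ u m) (fun a b => hadd2 u a b) :
      Additive A →+ ZMod p) c v
  let B : Additive A →ₗ[ZMod p] Additive A →ₗ[ZMod p] ZMod p :=
    LinearMap.mk₂ (ZMod p) f₀ hadd1 hsm1 hadd2 hsm2
  have B_apply : ∀ u v, B u v = Multiplicative.toAdd (Ψ (Additive.toMul u) (Additive.toMul v)) :=
    fun u v => rfl
  let L : Additive A →ₗ[ZMod p] Additive A :=
    AddMonoidHom.toZModLinearMap p (MonoidHom.toAdditive μ)
  have L_apply : ∀ v, L v = Additive.ofMul (μ (Additive.toMul v)) := fun v => rfl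
  have Lk_apply : ∀ (k : ℕ) v, (L ^ k) v = Additive.ofMul ((μ^[k]) (Additive.toMul v)) := by
    intro k
    induction k with
    | zero => intro v; simp
    | succ k ih =>
      intro v
      rw [pow_succ, Module.End.mul_apply, L_apply, ih, Function.iterate_succ_apply]
      rfl
  have hLN : L ^ N = 1 := by
    ext v
    rw [Lk_apply, h4]
    rfl
  let x : Additive A ≃ₗ[ZMod p] Additive A :=
    LinearEquiv.ofLinearMap L (L ^ (N - 1))
      (by
        show L * L ^ (N - 1) = 1
        rw [← pow_succ', Nat.sub_add_cancel hN, hLN])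
      (by
        show L ^ (N - 1) * L = 1
        rw [← pow_succ, Nat.sub_add_cancel hN, hLN])
  have x_apply : ∀ v, x v = L v := fun v => rfl
  have xk_apply : ∀ (k : ℕ) v, (x ^ k) v = (L ^ k) v := by
    intro k
    induction k with
    | zero => intro v; simp
    | succ k ih =>
      intro v
      rw [pow_succ, pow_succ, LinearEquiv.mul_apply, Module.End.mul_apply, ih, x_apply]
  refine ⟨B, x, ?_, ?_, ?_, ?_, ?_⟩
  · intro v
    rw [B_apply, h1]
    rfl
  · intro u hu
    have : Additive.toMul u = 1 := by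
      apply h2
      intro b
      have := hu (Additive.ofMul b)
      rw [B_apply] at this
      exact this
    exact this
  · intro u v
    rw [x_apply, x_apply, B_apply, B_apply, L_apply, L_apply]
    show Multiplicative.toAdd (Ψ (μ (Additive.toMul u)) (μ (Additive.toMul v))) = _
    rw [h3]
  · ext v
    rw [xk_apply, hLN]
    rfl
  · intro i hi hiN v hv
    rw [xk_apply, Lk_apply] at hv
    have : Additive.toMul v = 1 := h5 i hi hiN _ hv
    exact this

theorem core {P : Type u} [Group P] [Finite P] {p : ℕ} [Fact p.Prime]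
    (hcz : commutator P = Subgroup.center P) (hcard : Nat.card (Subgroup.center P) = p)
    (n : ℕ) (hn : Nat.card P = p ^ (2 * n + 1)) (N : ℕ) (hN : 0 < N) (hNcop : N.Coprime p)
    (ψ : P →* P) (hψN : ∀ a, (ψ^[N]) a = a) (hψc : ∀ c ∈ Subgroup.center P, ψ c = c)
    (hψfix : ∀ i, 0 < i → i < N → ∀ a, (ψ^[i]) a = a → a ∈ Subgroup.center P) :
    ∃ (V : Type u) (_ : AddCommGroup V) (_ : Module (ZMod p) V) (_ : Finite V)
      (B : V →ₗ[ZMod p] V →ₗ[ZMod p] ZMod p) (x : V ≃ₗ[ZMod p] V),
      (∀ v, B v v = 0) ∧ (∀ u, (∀ v, B u v = 0) → u = 0) ∧ (∀ u v, B (x u) (x v) = B u v) ∧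
      x ^ N = 1 ∧ (∀ i, 0 < i → i < N → ∀ v, (x ^ i) v = v → v = 0) ∧ Nat.card V = p ^ (2 * n) := by
  classical
  have hp : p.Prime := Fact.out
  have hmem : ∀ a b : P, a * b * a⁻¹ * b⁻¹ ∈ Subgroup.center P := by
    intro a b
    rw [← hcz, commutator_def]
    have := Subgroup.commutator_mem_commutator (Subgroup.mem_top a) (Subgroup.mem_top b)
    rwa [commutatorElement_def] at this
  have hc : ∀ a b g : P, g * (a * b * a⁻¹ * b⁻¹) = (a * b * a⁻¹ * b⁻¹) * g := fun a b g =>
    Subgroup.mem_center_iff.1 (hmem a b) g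
  have hzp : ∀ c ∈ Subgroup.center P, c ^ p = 1 := by
    intro c hcc
    have h1 : (⟨c, hcc⟩ : Subgroup.center P) ^ Nat.card (Subgroup.center P) = 1 := pow_card_eq_one'
    rw [hcard] at h1
    simpa using congrArg Subtype.val h1
  have hof : ∀ a : P, Abelianization.of a = 1 ↔ a ∈ Subgroup.center P := by
    intro a
    rw [← hcz, ← Abelianization.ker_of, MonoidHom.mem_ker]
  have hpow : ∀ a : P, a ^ p ∈ Subgroup.center P := by
    intro a
    rw [Subgroup.mem_center_iff]
    intro b
    have h1 := pow_comm' a b (a * b * a⁻¹ * b⁻¹) (by group) (hc a b a) p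
    rw [hzp _ (hmem a b), one_mul] at h1
    exact h1.symm
  obtain ⟨e⟩ : Nonempty (Subgroup.center P ≃* Multiplicative (ZMod p)) := by
    have hcyc : IsCyclic (Subgroup.center P) := isCyclic_of_prime_card hcard
    have e := zmodCyclicMulEquiv hcyc
    rw [hcard] at e
    exact ⟨e.symm⟩
  let pair₁ : P → (P →* Multiplicative (ZMod p)) := fun a =>
    { toFun := fun b => e ⟨a * b * a⁻¹ * b⁻¹, hmem a b⟩
      map_one' := by
        have : (⟨a * 1 * a⁻¹ * 1⁻¹, hmem a 1⟩ : Subgroup.center P) = 1 := Subtype.ext (by simp)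
        rw [this, map_one]
      map_mul' := by
        intro b b'
        have hsub : (⟨a * (b * b') * a⁻¹ * (b * b')⁻¹, hmem a (b * b')⟩ : Subgroup.center P) =
            ⟨a * b * a⁻¹ * b⁻¹, hmem a b⟩ * ⟨a * b' * a⁻¹ * b'⁻¹, hmem a b'⟩ :=
          Subtype.ext (comm_mul_right hc a b b')
        show e ⟨a * (b * b') * a⁻¹ * (b * b')⁻¹, hmem a (b * b')⟩ =
          e ⟨a * b * a⁻¹ * b⁻¹, hmem a b⟩ * e ⟨a * b' * a⁻¹ * b'⁻¹, hmem a b'⟩
        rw [hsub, map_mul] }
  have pair₁_apply : ∀ a b, pair₁ a b = e ⟨a * b * a⁻¹ * b⁻¹, hmem a b⟩ := fun a b => rfl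
  let pair₂ : P →* (P →* Multiplicative (ZMod p)) :=
    { toFun := pair₁
      map_one' := by
        ext b
        rw [pair₁_apply]
        have : (⟨1 * b * 1⁻¹ * b⁻¹, hmem 1 b⟩ : Subgroup.center P) = 1 := Subtype.ext (by simp)
        rw [this, map_one]
        rfl
      map_mul' := by
        intro a a'
        ext b
        have hsub : (⟨(a * a') * b * (a * a')⁻¹ * b⁻¹, hmem (a * a') b⟩ : Subgroup.center P) =
            ⟨a * b * a⁻¹ * b⁻¹, hmem a b⟩ * ⟨a' * b * a'⁻¹ * b⁻¹, hmem a' b⟩ :=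
          Subtype.ext (comm_mul_left hc a a' b)
        rw [MonoidHom.mul_apply, pair₁_apply, pair₁_apply, pair₁_apply, hsub, map_mul] }
  have pair₂_apply : ∀ a b, pair₂ a b = e ⟨a * b * a⁻¹ * b⁻¹, hmem a b⟩ := fun a b => rfl
  let Ψ₁ : P →* (Abelianization P →* Multiplicative (ZMod p)) :=
    { toFun := fun a => Abelianization.lift (pair₂ a)
      map_one' := by
        apply Abelianization.hom_ext
        ext b
        simp
      map_mul' := by
        intro a a'
        apply Abelianization.hom_ext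
        ext b
        simp }
  let Ψ : Abelianization P →* (Abelianization P →* Multiplicative (ZMod p)) := Abelianization.lift Ψ₁
  have Ψ_apply : ∀ a b, Ψ (Abelianization.of a) (Abelianization.of b) =
      e ⟨a * b * a⁻¹ * b⁻¹, hmem a b⟩ := by
    intro a b
    show Abelianization.lift Ψ₁ (Abelianization.of a) (Abelianization.of b) = _
    rw [Abelianization.lift_apply_of]
    show Abelianization.lift (pair₂ a) (Abelianization.of b) = _
    rw [Abelianization.lift_apply_of]
    rfl
  have hsurj : ∀ v : Abelianization P, ∃ a : P, v = Abelianization.of a := by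
    intro v
    obtain ⟨a, ha⟩ := QuotientGroup.mk_surjective v
    exact ⟨a, ha.symm⟩
  have hexp : ∀ v : Additive (Abelianization P), p • v = 0 := by
    intro v
    obtain ⟨a, ha⟩ := hsurj (Additive.toMul v)
    have h1 : (Abelianization.of a) ^ p = 1 := by
      rw [← map_pow, hof]
      exact hpow a
    have h3 : v = Additive.ofMul (Abelianization.of a) := by rw [← ha]; rfl
    rw [h3, ← ofMul_pow, h1]
    rfl
  letI : Module (ZMod p) (Additive (Abelianization P)) := AddCommGroup.zmodModule hexp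
  have mapk : ∀ (k : ℕ) (a : P), ((Abelianization.map ψ)^[k]) (Abelianization.of a) =
      Abelianization.of ((ψ^[k]) a) := by
    intro k
    induction k with
    | zero => intro a; rfl
    | succ k ih =>
      intro a
      rw [Function.iterate_succ_apply, Abelianization.map_of, ih, Function.iterate_succ_apply]
  obtain ⟨B, x, hB1, hB2, hB3, hB4, hB5⟩ := pack (p := p) Ψ (Abelianization.map ψ) N hN
    (by
      intro v
      obtain ⟨a, rfl⟩ := hsurj v
      rw [Ψ_apply]
      have : (⟨a * a * a⁻¹ * a⁻¹, hmem a a⟩ : Subgroup.center P) = 1 := Subtype.ext (by simp)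
      rw [this, map_one])
    (by
      intro u hu
      obtain ⟨a, rfl⟩ := hsurj u
      have hac : a ∈ Subgroup.center P := by
        rw [Subgroup.mem_center_iff]
        intro b
        have h1 := hu (Abelianization.of b)
        rw [Ψ_apply] at h1
        have h3 : (⟨a * b * a⁻¹ * b⁻¹, hmem a b⟩ : Subgroup.center P) = 1 := by
          rw [← e.map_one] at h1
          exact e.injective h1
        have h4 : a * b * a⁻¹ * b⁻¹ = 1 := congrArg Subtype.val h3
        calc b * a = (a * b * a⁻¹ * b⁻¹) * (b * a) := by rw [h4, one_mul]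
          _ = a * b := by group
      exact (hof a).2 hac)
    (by
      intro u v
      obtain ⟨a, rfl⟩ := hsurj u
      obtain ⟨b, rfl⟩ := hsurj v
      rw [Abelianization.map_of, Abelianization.map_of, Ψ_apply, Ψ_apply]
      congr 1
      apply Subtype.ext
      show ψ a * ψ b * (ψ a)⁻¹ * (ψ b)⁻¹ = a * b * a⁻¹ * b⁻¹
      rw [← map_inv, ← map_inv, ← map_mul, ← map_mul, ← map_mul]
      exact hψc _ (hmem a b))
    (by
      intro v
      obtain ⟨a, rfl⟩ := hsurj v
      rw [mapk, hψN])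
    (by
      intro i hi hiN v hv
      obtain ⟨a, rfl⟩ := hsurj v
      rw [mapk] at hv
      have hcc : a⁻¹ * (ψ^[i]) a ∈ Subgroup.center P := by
        rw [← hof, map_mul, map_inv, hv, inv_mul_cancel]
      have hψkc : ∀ (k : ℕ), ∀ c ∈ Subgroup.center P, (ψ^[k]) c = c := by
        intro k
        induction k with
        | zero => intro c _; rfl
        | succ k ih => intro c hc'; rw [Function.iterate_succ_apply, hψc c hc', ih c hc']
      have hψkmul : ∀ (k : ℕ) (a b : P), (ψ^[k]) (a * b) = (ψ^[k]) a * (ψ^[k]) b := by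
        intro k
        induction k with
        | zero => intro a b; rfl
        | succ k ih =>
          intro a b
          rw [Function.iterate_succ_apply, Function.iterate_succ_apply,
            Function.iterate_succ_apply, map_mul, ih]
      have hθ : ∀ k : ℕ, (ψ^[i * k]) a = a * (a⁻¹ * (ψ^[i]) a) ^ k := by
        intro k
        induction k with
        | zero => simp
        | succ k ih =>
          rw [Nat.mul_succ, Nat.add_comm, Function.iterate_add_apply, ih, hψkmul,
            hψkc i _ (Subgroup.pow_mem _ hcc k), pow_succ', ← mul_assoc, mul_inv_cancel_left]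
      have hN1 : (ψ^[i * N]) a = a := by
        rw [Nat.mul_comm]
        have : ∀ m : ℕ, (ψ^[N * m]) a = a := by
          intro m
          induction m with
          | zero => rfl
          | succ m ih => rw [Nat.mul_succ, Function.iterate_add_apply, hψN, ih]
        exact this i
      have hcN : (a⁻¹ * (ψ^[i]) a) ^ N = 1 := by
        have := hθ N
        rw [hN1] at this
        exact (mul_eq_left.1 this.symm)
      have hcp : (a⁻¹ * (ψ^[i]) a) ^ p = 1 := hzp _ hcc
      have hc1 : a⁻¹ * (ψ^[i]) a = 1 := by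
        have h1 : orderOf (a⁻¹ * (ψ^[i]) a) ∣ N := orderOf_dvd_of_pow_eq_one hcN
        have h2 : orderOf (a⁻¹ * (ψ^[i]) a) ∣ p := orderOf_dvd_of_pow_eq_one hcp
        have h3 : orderOf (a⁻¹ * (ψ^[i]) a) = 1 := Nat.eq_one_of_dvd_coprimes hNcop h1 h2
        exact orderOf_eq_one_iff.1 h3
      have hfixa : (ψ^[i]) a = a := by
        have := congrArg (fun t => a * t) hc1
        simpa using this
      exact (hof a).2 (hψfix i hi hiN a hfixa))
  refine ⟨Additive (Abelianization P), inferInstance, this, inferInstance, B, x, hB1, hB2, hB3, hB4, hB5, ?_⟩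
  have h1 := Subgroup.card_eq_card_quotient_mul_card_subgroup (commutator P)
  rw [hcz, hcard, hn, pow_succ] at h1
  have h2 : Nat.card (P ⧸ Subgroup.center P) = p ^ (2 * n) :=
    (Nat.eq_of_mul_eq_mul_right hp.pos h1).symm
  rw [← hcz] at h2
  exact h2

theorem transl {G : Type u} [Group G] [Finite G] {p : ℕ} [Fact p.Prime] (P H : Subgroup G) (hP : Cfsg.IsExtraspecial p ↥P) (n : ℕ) (hn : Nat.card P = p ^ (2 * n + 1)) (hH : IsCyclic H) (hcop : (Nat.card H).Coprime p) (hHP : H ≤ Subgroup.normalizer (P : Set G)) (hfix : ∀ x ∈ H, x ≠ 1 → P ⊓ Subgroup.centralizer {x} = (Subgroup.center ↥P).map P.subtype) : ∃ (V : Type u) (_ : AddCommGroup V) (_ : Module (ZMod p) V) (_ : Finite V) (B : V →ₗ[ZMod p] V →ₗ[ZMod p] ZMod p) (x : V ≃ₗ[ZMod p] V), (∀ v, B v v = 0) ∧ (∀ u, (∀ v, B u v = 0) → u = 0) ∧ (∀ u v, B (x u) (x v) = B u v) ∧ x ^ (Nat.card H) = 1 ∧ (∀ i, 0 < i → i < Nat.card H → ∀ v, (x ^ i) v = v → v = 0) ∧ Nat.card V = p ^ (2 * n) := by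
  classical
  have hcz : commutator ↥P = Subgroup.center ↥P := hP.1.2.2
  have hcard : Nat.card (Subgroup.center ↥P) = p := hP.2
  obtain ⟨g, hg⟩ := hH.exists_generator
  have hord : orderOf g = Nat.card H := orderOf_eq_card_of_forall_mem_zpowers hg
  have hordG : orderOf (g : G) = Nat.card H := by rw [← hord, Subgroup.orderOf_coe]
  have hNpos : 0 < Nat.card H := Nat.card_pos
  have hgN : (g : G) ^ Nat.card H = 1 := by rw [← hordG]; exact pow_orderOf_eq_one _
  have hnorm : ∀ (t : G), t ∈ H → ∀ a : G, a ∈ P → t * a * t⁻¹ ∈ P := by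
    intro t ht a ha
    exact ((Subgroup.mem_normalizer_iff.1 (hHP ht)) a).1 ha
  -- H centralizes the centre of P
  have hcent : ∀ (t : G), t ∈ H → ∀ c : ↥P, c ∈ Subgroup.center ↥P → t * (c : G) * t⁻¹ = c := by
    intro t ht c hc
    by_cases h1 : t = 1
    · subst h1; simp
    · have h2 := hfix t ht h1
      have h3 : (c : G) ∈ (Subgroup.center ↥P).map P.subtype := ⟨c, hc, rfl⟩
      rw [← h2] at h3
      have h4 := Subgroup.mem_centralizer_iff.1 h3.2 t (Set.mem_singleton t)
      rw [h4, mul_inv_cancel_right]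
  let ψ : ↥P →* ↥P :=
    { toFun := fun a => ⟨(g : G) * a * (g : G)⁻¹, hnorm g g.2 a a.2⟩
      map_one' := Subtype.ext (by simp)
      map_mul' := fun a b => Subtype.ext (by simp) }
  have ψ_apply : ∀ a : ↥P, ((ψ a : ↥P) : G) = (g : G) * a * (g : G)⁻¹ := fun a => rfl
  have ψk_apply : ∀ (k : ℕ) (a : ↥P), (((ψ^[k]) a : ↥P) : G) = (g : G) ^ k * a * ((g : G) ^ k)⁻¹ := by
    intro k
    induction k with
    | zero => intro a; simp
    | succ k ih =>
      intro a
      rw [Function.iterate_succ_apply', ψ_apply, ih, pow_succ']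
      group
  obtain ⟨V, i1, i2, i3, B, x, h1, h2, h3, h4, h5, h6⟩ := core (P := ↥P) (p := p) hcz hcard n hn
    (Nat.card H) hNpos hcop ψ
    (by
      intro a
      apply Subtype.ext
      rw [ψk_apply, hgN]
      simp)
    (by
      intro c hc
      apply Subtype.ext
      rw [ψ_apply]
      exact hcent g g.2 c hc)
    (by
      intro i hi hiN a ha
      have hti : (g : G) ^ i ≠ 1 := by
        apply pow_ne_one_of_lt_orderOf (Nat.pos_iff_ne_zero.1 hi)
        rw [hordG]; exact hiN
      have htH : (g : G) ^ i ∈ H := H.pow_mem g.2 i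
      have h2 := hfix _ htH hti
      have h3 : (g : G) ^ i * (a : G) * ((g : G) ^ i)⁻¹ = a := by
        rw [← ψk_apply, ha]
      have h4 : (a : G) ∈ P ⊓ Subgroup.centralizer {(g : G) ^ i} := by
        refine Subgroup.mem_inf.2 ⟨a.2, ?_⟩
        rw [Subgroup.mem_centralizer_iff]
        intro t ht
        rw [Set.mem_singleton_iff.1 ht]
        calc (g : G) ^ i * (a : G) = ((g : G) ^ i * (a : G) * ((g : G) ^ i)⁻¹) * (g : G) ^ i := by group
          _ = (a : G) * (g : G) ^ i := by rw [h3]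
      rw [h2] at h4
      obtain ⟨c, hc, hca⟩ := h4
      have : c = a := Subtype.ext hca
      rw [← this]
      exact hc)
  exact ⟨V, i1, i2, i3, B, x, h1, h2, h3, h4, h5, h6⟩

end Cfsg.Agent.Helper7.ESE
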