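import Mathlib
import Cfsg.Agent.Helper21.Thompson
import Cfsg.Agent.Helper7.FrobA
import Cfsg.Agent.Helper7.FrobB

/-!
helper7: the fixed point formula for a Frobenius group `U ⋊ E` acting coprimely on a finite
abelian group `A`:  `|C_A(UE)|^|E| * |A| = |C_A(E)|^|E| * |C_A(U)|`.
-/

set_option autoImplicit false

namespace Cfsg.Agent.Helper7.Frob

variable {Γ : Type*} [Group Γ] {A : Type*} [AddCommGroup A] [DistribMulAction Γ A]

/-- If `U` (nilpotent) has no nonzero fixed vector on `K`, then `K` is "free" over `E`. -/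
theorem free_aux [Finite Γ] [Finite A] (U E : Subgroup Γ)
    (hUn : ∀ e ∈ E, ∀ u ∈ U, e * u * e⁻¹ ∈ U)
    (hfpf : ∀ e ∈ E, e ≠ 1 → ∀ u ∈ U, e * u = u * e → u = 1)
    (hnil : Group.IsNilpotent U)
    (hcU : (Nat.card A).Coprime (Nat.card U))
    (hcE : (Nat.card A).Coprime (Nat.card E)) :
    ∀ (n : ℕ) (K : AddSubgroup A), Nat.card K = n →
      (∀ u ∈ U, ∀ v ∈ K, u • v ∈ K) → (∀ e ∈ E, ∀ v ∈ K, e • v ∈ K) →
      (∀ v ∈ K, (∀ u ∈ U, u • v = v) → v = 0) →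
      Nat.card K = Nat.card (fixIn E K) ^ Nat.card E := by
  classical
  intro n
  induction n using Nat.strong_induction_on with
  | _ n IH =>
  intro K hKn hUK hEK hfree
  by_cases hK0 : K = ⊥
  · have h1 : fixIn E K = ⊥ := by
      rw [eq_bot_iff, ← hK0]; exact fixIn_le E K
    rw [h1, hK0, AddSubgroup.card_bot, one_pow]
  have hKne : ∃ w ∈ K, w ≠ 0 := by
    by_contra hcon
    push_neg at hcon
    exact hK0 ((AddSubgroup.eq_bot_iff_forall K).mpr hcon)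
  haveI : Group.IsNilpotent U := hnil
  haveI : Finite (Subgroup Γ) :=
    Finite.of_injective (fun H : Subgroup Γ => (H : Set Γ)) SetLike.coe_injective
  -- Step 1: an element acting nontrivially and centrally on `K`
  have hz : ∃ z : U, (∃ v ∈ K, (z : Γ) • v ≠ v) ∧
      ∀ u : U, ∀ v ∈ K, (z : Γ) • (u : Γ) • v = (u : Γ) • (z : Γ) • v := by
    by_contra hcon
    have hQ : ∀ z : U, (∀ u : U, ∀ v ∈ K, (z : Γ) • (u : Γ) • v = (u : Γ) • (z : Γ) • v) →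
        ∀ v ∈ K, (z : Γ) • v = v := by
      intro z hzc v hv
      by_contra hne
      exact hcon ⟨z, ⟨v, hv, hne⟩, hzc⟩
    have key : ∀ m, ∀ z ∈ Subgroup.upperCentralSeries U m, ∀ v ∈ K, (z : Γ) • v = v := by
      intro m
      induction m with
      | zero =>
        intro z hz v hv
        rw [Subgroup.upperCentralSeries_zero, Subgroup.mem_bot] at hz
        rw [hz, Subgroup.coe_one, one_smul]
      | succ m ih =>
        intro z hz
        apply hQ z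
        intro u v' hv'
        have h1 : ((z * u * z⁻¹ * u⁻¹ : U) : Γ) • ((u : Γ) • (z : Γ) • v')
            = (u : Γ) • (z : Γ) • v' :=
          ih _ ((Subgroup.mem_upperCentralSeries_succ_iff).mp hz u) ((u : Γ) • (z : Γ) • v')
            (hUK _ u.2 _ (hUK _ z.2 _ hv'))
        have h2 : ((z * u * z⁻¹ * u⁻¹ : U) : Γ) • ((u : Γ) • (z : Γ) • v')
            = (z : Γ) • (u : Γ) • v' := by
          simp only [Subgroup.coe_mul, Subgroup.coe_inv, ← mul_smul]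
          congr 1
          group
        rw [← h2, h1]
    obtain ⟨m, hm⟩ := Group.IsNilpotent.nilpotent U
    obtain ⟨w, hwK, hw0⟩ := hKne
    apply hw0
    apply hfree w hwK
    intro u hu
    exact key m ⟨u, hu⟩ (by rw [hm]; exact Subgroup.mem_top _) w hwK
  obtain ⟨⟨z, hzU⟩, ⟨v₀, hv₀K, hv₀'⟩, hz3'⟩ := hz
  have hv₀ : z • v₀ ≠ v₀ := hv₀'
  have hz3 : ∀ u ∈ U, ∀ v ∈ K, z • u • v = u • z • v := fun u hu v hv => hz3' ⟨u, hu⟩ v hv
  -- Step 2: the subgroups `Z'` and `N`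
  obtain ⟨Z', hZ'⟩ : ∃ Z' : Subgroup Γ, ∀ x, x ∈ Z' ↔
      (x ∈ U ∧ ∀ u ∈ U, ∀ v ∈ K, x • u • v = u • x • v) :=
    ⟨{ carrier := {x | x ∈ U ∧ ∀ u ∈ U, ∀ v ∈ K, x • u • v = u • x • v}
       one_mem' := ⟨U.one_mem, fun u _ v _ => by rw [one_smul, one_smul]⟩
       mul_mem' := by
         rintro a b ⟨ha, ha'⟩ ⟨hb, hb'⟩
         exact ⟨U.mul_mem ha hb, fun u hu v hv => by
           rw [mul_smul, mul_smul, hb' u hu v hv, ha' u hu _ (hUK b hb v hv)]⟩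
       inv_mem' := by
         rintro a ⟨ha, ha'⟩
         exact ⟨U.inv_mem ha, fun u hu v hv => by
           rw [inv_smul_eq_iff, ha' u hu _ (hUK _ (U.inv_mem ha) v hv), smul_inv_smul]⟩ },
      fun x => Iff.rfl⟩
  obtain ⟨N, hN⟩ : ∃ N : Subgroup Γ, ∀ x, x ∈ N ↔ ∀ e ∈ E, e * x * e⁻¹ ∈ Z' :=
    ⟨{ carrier := {x | ∀ e ∈ E, e * x * e⁻¹ ∈ Z'}
       one_mem' := by
         intro e _
         rw [mul_one, mul_inv_cancel]; exact Z'.one_mem
       mul_mem' := by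
         intro a b ha hb e he
         have h : e * (a * b) * e⁻¹ = (e * a * e⁻¹) * (e * b * e⁻¹) := by group
         rw [h]; exact Z'.mul_mem (ha e he) (hb e he)
       inv_mem' := by
         intro a ha e he
         have h : e * a⁻¹ * e⁻¹ = (e * a * e⁻¹)⁻¹ := by group
         rw [h]; exact Z'.inv_mem (ha e he) }, fun x => Iff.rfl⟩
  have hNZ : ∀ x ∈ N, x ∈ Z' := fun x hx => by
    have h := (hN x).mp hx 1 E.one_mem
    rwa [one_mul, inv_one, mul_one] at h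
  have hNU : N ≤ U := fun x hx => ((hZ' x).mp (hNZ x hx)).1
  have hNc : ∀ x ∈ N, ∀ u ∈ U, ∀ v ∈ K, x • u • v = u • x • v :=
    fun x hx => ((hZ' x).mp (hNZ x hx)).2
  have hNE : ∀ e ∈ E, ∀ x ∈ N, e * x * e⁻¹ ∈ N := by
    intro e he x hx
    rw [hN]
    intro e' he'
    have h : e' * (e * x * e⁻¹) * e'⁻¹ = (e' * e) * x * (e' * e)⁻¹ := by group
    rw [h]
    exact (hN x).mp hx _ (E.mul_mem he' he)
  have hzN : z ∈ N := by
    rw [hN]
    intro e he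
    rw [hZ']
    refine ⟨hUn e he z hzU, fun u hu v hv => ?_⟩
    have h1 := hz3 (e⁻¹ * u * e) (by
      have h := hUn e⁻¹ (E.inv_mem he) u hu
      rwa [inv_inv] at h) (e⁻¹ • v) (hEK _ (E.inv_mem he) v hv)
    calc (e * z * e⁻¹) • u • v = e • (z • (e⁻¹ * u * e) • e⁻¹ • v) := by
          simp only [← mul_smul]; congr 1; group
      _ = e • ((e⁻¹ * u * e) • z • e⁻¹ • v) := by rw [h1]
      _ = u • (e * z * e⁻¹) • v := by
          simp only [← mul_smul]; congr 1; group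
  -- Step 3: a maximal subgroup of `N` with a nonzero fixed vector
  obtain ⟨𝒮, h𝒮⟩ : ∃ 𝒮 : Set (Subgroup Γ), ∀ B, B ∈ 𝒮 ↔
      (B ≤ N ∧ ∃ w ∈ K, w ≠ 0 ∧ ∀ b ∈ B, b • w = w) :=
    ⟨{B | B ≤ N ∧ ∃ w ∈ K, w ≠ 0 ∧ ∀ b ∈ B, b • w = w}, fun B => Iff.rfl⟩
  have h𝒮ne : 𝒮.Nonempty := by
    obtain ⟨w, hwK, hw0⟩ := hKne
    refine ⟨⊥, (h𝒮 ⊥).mpr ⟨bot_le, w, hwK, hw0, fun b hb => ?_⟩⟩
    rw [Subgroup.mem_bot] at hb
    rw [hb, one_smul]
  obtain ⟨A₀, hA₀⟩ := Set.Finite.exists_maximal (Set.toFinite 𝒮) h𝒮ne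
  obtain ⟨hA₀N, w₀, hw₀K, hw₀0, hw₀A⟩ := (h𝒮 A₀).mp hA₀.prop
  have hA₀U : A₀ ≤ U := hA₀N.trans hNU
  have M1 : ∀ x ∈ N, ∀ w ∈ K, w ≠ 0 → (∀ a ∈ A₀, a • w = w) → x • w = w → x ∈ A₀ := by
    intro x hx w hw hw0 hAw hxw
    have hB : A₀ ⊔ Subgroup.zpowers x ∈ 𝒮 := by
      refine (h𝒮 _).mpr ⟨sup_le hA₀N ((Subgroup.zpowers_le).mpr hx), w, hw, hw0, ?_⟩
      have hle : A₀ ⊔ Subgroup.zpowers x ≤ MulAction.stabilizer Γ w :=
        sup_le (fun a ha => MulAction.mem_stabilizer_iff.mpr (hAw a ha))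
          ((Subgroup.zpowers_le).mpr (MulAction.mem_stabilizer_iff.mpr hxw))
      exact fun b hb => MulAction.mem_stabilizer_iff.mp (hle hb)
    have hle2 : A₀ ⊔ Subgroup.zpowers x ≤ A₀ := hA₀.le_of_ge hB le_sup_left
    exact hle2 (Subgroup.mem_sup_right (Subgroup.mem_zpowers x))
  -- Step 4: the trace over `A₀`
  haveI : Fintype A₀ := Fintype.ofFinite A₀
  obtain ⟨S, hS⟩ : ∃ S : Subgroup Γ, ∀ g, g ∈ S ↔
      (g ∈ E ∧ ∀ a, a ∈ A₀ ↔ g * a * g⁻¹ ∈ A₀) :=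
    ⟨{ carrier := {g | g ∈ E ∧ ∀ a, a ∈ A₀ ↔ g * a * g⁻¹ ∈ A₀}
       one_mem' := ⟨E.one_mem, fun a => by rw [one_mul, inv_one, mul_one]⟩
       mul_mem' := by
         rintro g h ⟨hg, hg'⟩ ⟨hh, hh'⟩
         refine ⟨E.mul_mem hg hh, fun a => ?_⟩
         have e : g * h * a * (g * h)⁻¹ = g * (h * a * h⁻¹) * g⁻¹ := by group
         rw [e, ← hg', ← hh']
       inv_mem' := by
         rintro g ⟨hg, hg'⟩
         refine ⟨E.inv_mem hg, fun a => ?_⟩
         have e : g * (g⁻¹ * a * g⁻¹⁻¹) * g⁻¹ = a := by group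
         rw [hg' (g⁻¹ * a * g⁻¹⁻¹), e] }, fun g => Iff.rfl⟩
  have hSE : S ≤ E := fun g hg => ((hS g).mp hg).1
  have hSn : ∀ g ∈ S, ∀ a, a ∈ A₀ ↔ g * a * g⁻¹ ∈ A₀ := fun g hg => ((hS g).mp hg).2
  obtain ⟨q, hq⟩ : ∃ q : A →+ A, q = tr A₀ := ⟨_, rfl⟩
  have hcA₀ : (Nat.card A).Coprime (Nat.card A₀) :=
    Nat.Coprime.coprime_dvd_right (Subgroup.card_dvd_of_le hA₀U) hcU
  have hqfix : ∀ v, ∀ a ∈ A₀, a • q v = q v := fun v a ha => by
    rw [hq]; exact tr_fixed A₀ v a ha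
  have hqK : ∀ v ∈ K, q v ∈ K := fun v hv => by
    rw [hq, tr_apply]
    exact K.sum_mem (fun b _ => hUK _ (hA₀U b.2) v hv)
  have hqfixed : ∀ v, (∀ a ∈ A₀, a • v = v) → q v = Nat.card A₀ • v := fun v hv => by
    rw [hq]; exact tr_of_fixed A₀ v hv
  have hqa : ∀ v ∈ K, q (q v) = Nat.card A₀ • q v := fun v _ => hqfixed (q v) (hqfix v)
  have hUq : ∀ u ∈ U, ∀ v ∈ K, u • q v = q (u • v) := fun u hu v hv => by
    rw [hq]
    exact tr_comm A₀ v u (fun b hb => (hNc b (hA₀N hb) u hu v hv).symm)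
  have hqb : ∀ g ∈ S, ∀ v ∈ K, q (g • v) = g • q v := fun g hg v _ => by
    rw [hq]
    exact (tr_conj A₀ v g (hSn g hg)).symm
  have hqc : ∀ e ∈ E, e ∉ S → ∀ v ∈ K, q (e • q v) = 0 := by
    intro e he heS v hv
    by_contra hx
    apply heS
    rw [hS]
    refine ⟨he, conj_mem_iff A₀ e (fun a ha => ?_)⟩
    have hxK : q (e • q v) ∈ K := hqK _ (hEK e he _ (hqK v hv))
    apply M1 (e * a * e⁻¹) (hNE e he a (hA₀N ha)) (q (e • q v)) hxK hx (hqfix _)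
    have h1 : (e * a * e⁻¹) • q (e • q v) = q ((e * a * e⁻¹) • e • q v) :=
      hUq _ (hNU (hNE e he a (hA₀N ha))) _ (hEK e he _ (hqK v hv))
    rw [h1, ← mul_smul]
    have h2 : e * a * e⁻¹ * e = e * a := by group
    rw [h2, mul_smul, hqfix v a ha]
  have hKq_le : K.map q ≤ K := by
    rintro w ⟨k, hk, rfl⟩
    exact hqK k hk
  have hKqfix : ∀ w ∈ K.map q, ∀ a ∈ A₀, a • w = w := by
    rintro w ⟨k, hk, rfl⟩ a ha
    exact hqfix k a ha
  have hUKq : ∀ u ∈ U, ∀ w ∈ K.map q, u • w ∈ K.map q := by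
    rintro u hu w ⟨k, hk, rfl⟩
    exact AddSubgroup.mem_map.mpr ⟨u • k, hUK u hu k hk, (hUq u hu k hk).symm⟩
  have hSKq : ∀ g ∈ S, ∀ w ∈ K.map q, g • w ∈ K.map q := by
    rintro g hg w ⟨k, hk, rfl⟩
    exact AddSubgroup.mem_map.mpr ⟨g • k, hEK g (hSE hg) k hk, hqb g hg k hk⟩
  have hd : Nat.card (K.map q) = Nat.card (fixIn S (K.map q)) ^ Nat.card S := by
    by_cases hAN : A₀ = N
    · have hSeq : S = E := by
        apply le_antisymm hSE
        intro e he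
        rw [hS]
        refine ⟨he, conj_mem_iff A₀ e (fun a ha => ?_)⟩
        rw [hAN] at ha ⊢
        exact hNE e he a ha
      have hlt : Nat.card (K.map q) < n := by
        by_contra hge
        push_neg at hge
        have heq : K.map q = K :=
          AddSubgroup.eq_of_le_of_card_ge hKq_le (by rw [hKn]; exact hge)
        apply hv₀
        exact hKqfix v₀ (by rw [heq]; exact hv₀K) z (by rw [hAN]; exact hzN)
      rw [hSeq]
      refine IH _ hlt (K.map q) rfl hUKq ?_ ?_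
      · intro e he w hw
        exact hSKq e (by rw [hSeq]; exact he) w hw
      · intro w hw hwU
        exact hfree w (hKq_le hw) hwU
    · obtain ⟨y₀, hy₀N, hy₀A⟩ := SetLike.exists_of_lt (lt_of_le_of_ne hA₀N hAN)
      have hyN : ∀ g ∈ S, g * y₀ * g⁻¹ ∈ N := fun g hg => hNE g (hSE hg) y₀ hy₀N
      apply vb S (K.map q) y₀ hSKq
      · intro g hg w hw
        exact hUKq _ (hNU (hyN g hg)) w hw
      · intro g hg h hh w hw
        exact hNc _ (hyN g hg) _ (hNU (hyN h hh)) w (hKq_le hw)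
      · intro g hg h hh hgh w hw heq
        by_contra hw0
        apply hy₀A
        have hn : ((h * y₀ * h⁻¹)⁻¹ * (g * y₀ * g⁻¹)) ∈ A₀ := by
          apply M1 _ (N.mul_mem (N.inv_mem (hyN h hh)) (hyN g hg)) w (hKq_le hw) hw0
            (hKqfix w hw)
          rw [mul_smul, heq, inv_smul_smul]
        have hn' := (hSn h⁻¹ (S.inv_mem hh) _).mp hn
        have e1 : h⁻¹ * ((h * y₀ * h⁻¹)⁻¹ * (g * y₀ * g⁻¹)) * h⁻¹⁻¹
            = y₀⁻¹ * ((h⁻¹ * g) * y₀ * (h⁻¹ * g)⁻¹) := by group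
        rw [e1] at hn'
        have he' : h⁻¹ * g ∈ S := S.mul_mem (S.inv_mem hh) hg
        have hne : h⁻¹ * g ≠ 1 := fun h1 => hgh (inv_mul_eq_one.mp h1).symm
        exact fpf_mem U A₀ (h⁻¹ * g) (hfpf _ (hSE he') hne) hA₀U
          (fun b hb => (hSn _ he' b).mp hb) y₀ (hNU hy₀N) hn'
  have he : Nat.card (compl E K q) = Nat.card (fixIn E (compl E K q)) ^ Nat.card E := by
    have hle : compl E K q ≤ K := fun v hv => (mem_compl.mp hv).1
    have hlt : Nat.card (compl E K q) < n := by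
      by_contra hge
      push_neg at hge
      have heq : compl E K q = K :=
        AddSubgroup.eq_of_le_of_card_ge hle (by rw [hKn]; exact hge)
      have hw₀ : w₀ ∈ compl E K q := by rw [heq]; exact hw₀K
      have h1 := (mem_compl.mp hw₀).2 1 E.one_mem
      rw [inv_one, one_smul, hqfixed w₀ hw₀A] at h1
      exact hw₀0 (nsmul_inj_A _ hcA₀ h1)
    refine IH _ hlt (compl E K q) rfl ?_ ?_ ?_
    · intro u hu v hv
      obtain ⟨hvK, hvq⟩ := mem_compl.mp hv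
      refine mem_compl.mpr ⟨hUK u hu v hvK, fun e he => ?_⟩
      have hu' : e⁻¹ * u * e ∈ U := by
        have h := hUn e⁻¹ (E.inv_mem he) u hu
        rwa [inv_inv] at h
      have e1 : e⁻¹ • u • v = (e⁻¹ * u * e) • e⁻¹ • v := by
        simp only [← mul_smul]; congr 1; group
      rw [e1, ← hUq _ hu' _ (hEK _ (E.inv_mem he) v hvK), hvq e he, smul_zero]
    · intro g hg v hv
      obtain ⟨hvK, hvq⟩ := mem_compl.mp hv
      refine mem_compl.mpr ⟨hEK g hg v hvK, fun e he => ?_⟩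
      have e1 : e⁻¹ • g • v = (g⁻¹ * e)⁻¹ • v := by
        rw [← mul_smul]; congr 1; group
      rw [e1]
      exact hvq _ (E.mul_mem (E.inv_mem hg) he)
    · intro v hv hvU
      exact hfree v (hle hv) hvU
  exact ind E S hSE K q (Nat.card A₀) hEK hqK hcA₀ hcE hqa hqb hqc hd he

/-- Fixed point formula for a Frobenius group acting coprimely on a finite abelian group. -/
theorem abf [Finite Γ] [Finite A] (U E : Subgroup Γ)
    (hUn : ∀ e ∈ E, ∀ u ∈ U, e * u * e⁻¹ ∈ U)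
    (hfpf : ∀ e ∈ E, e ≠ 1 → ∀ u ∈ U, e * u = u * e → u = 1)
    (hcU : (Nat.card A).Coprime (Nat.card U))
    (hcE : (Nat.card A).Coprime (Nat.card E)) :
    Nat.card (fixIn E (fixIn U (⊤ : AddSubgroup A))) ^ Nat.card E * Nat.card A =
      Nat.card (fixIn E (⊤ : AddSubgroup A)) ^ Nat.card E
        * Nat.card (fixIn U (⊤ : AddSubgroup A)) := by
  classical
  by_cases hE1 : E = ⊥
  · rw [hE1, fixIn_bot, fixIn_bot, Subgroup.card_bot, pow_one, pow_one, AddSubgroup.card_top]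
    exact mul_comm _ _
  have hcard1 : Nat.card E ≠ 1 := fun h => hE1 (Subgroup.eq_bot_of_card_eq E h)
  obtain ⟨r, hr, hrdvd⟩ := Nat.exists_prime_and_dvd hcard1
  haveI : Fact r.Prime := ⟨hr⟩
  obtain ⟨x, hx⟩ := exists_prime_orderOf_dvd_card' r hrdvd
  obtain ⟨e₀, he₀E, he₀ord⟩ : ∃ e₀ ∈ E, orderOf e₀ = r :=
    ⟨x, x.2, by rw [Subgroup.orderOf_coe, hx]⟩
  have he₀1 : e₀ ≠ 1 := by
    intro h
    rw [h, orderOf_one] at he₀ord
    exact hr.ne_one he₀ord.symm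
  obtain ⟨φ, hφ⟩ : ∃ φ : U ≃* U, ∀ u : U, ((φ u : U) : Γ) = e₀ * (u : Γ) * e₀⁻¹ :=
    ⟨{ toFun := fun u => ⟨e₀ * (u : Γ) * e₀⁻¹, hUn e₀ he₀E u u.2⟩
       invFun := fun u => ⟨e₀⁻¹ * (u : Γ) * e₀, by
         have h := hUn e₀⁻¹ (E.inv_mem he₀E) u u.2
         rwa [inv_inv] at h⟩
       left_inv := fun u => Subtype.ext (by
         show e₀⁻¹ * (e₀ * (u : Γ) * e₀⁻¹) * e₀ = u
         group)
       right_inv := fun u => Subtype.ext (by
         show e₀ * (e₀⁻¹ * (u : Γ) * e₀) * e₀⁻¹ = u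
         group)
       map_mul' := fun u v => Subtype.ext (by
         show e₀ * ((u : Γ) * (v : Γ)) * e₀⁻¹ = (e₀ * u * e₀⁻¹) * (e₀ * v * e₀⁻¹)
         group) }, fun u => rfl⟩
  have hφfpf : ∀ g : U, φ g = g → g = 1 := by
    intro g hg
    have h1 : e₀ * (g : Γ) * e₀⁻¹ = g := by rw [← hφ, hg]
    have h2 : e₀ * (g : Γ) = g * e₀ := by
      calc e₀ * (g : Γ) = (e₀ * (g : Γ) * e₀⁻¹) * e₀ := by group
        _ = g * e₀ := by rw [h1]
    exact Subtype.ext (hfpf e₀ he₀E he₀1 g g.2 h2)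
  have hiter : ∀ (k : ℕ) (g : U),
      (((⇑φ)^[k] g : U) : Γ) = e₀ ^ k * (g : Γ) * (e₀ ^ k)⁻¹ := by
    intro k
    induction k with
    | zero => intro g; simp
    | succ k ih =>
      intro g
      rw [Function.iterate_succ_apply', hφ, ih, pow_succ']
      generalize e₀ ^ k = a
      group
  have hφr : ∀ g : U, (⇑φ)^[r] g = g := by
    intro g
    apply Subtype.ext
    rw [hiter, ← he₀ord, pow_orderOf_eq_one]
    simp
  have hnil : Group.IsNilpotent U :=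
    Cfsg.Agent.Helper21.thompson_nilpotent φ hφfpf r hr hφr
  haveI : Fintype U := Fintype.ofFinite U
  obtain ⟨K₂, hK₂⟩ : ∃ K₂ : AddSubgroup A, ∀ v, v ∈ K₂ ↔ tr U v = 0 :=
    ⟨(tr U).ker, fun v => AddMonoidHom.mem_ker⟩
  have hEU : ∀ e ∈ E, ∀ a, a ∈ U ↔ e * a * e⁻¹ ∈ U := fun e he => conj_mem_iff U e (hUn e he)
  have hK₂U : ∀ u ∈ U, ∀ v ∈ K₂, u • v ∈ K₂ := fun u hu v hv => by
    rw [hK₂] at hv ⊢
    rw [tr_smul_of_mem U v u hu, hv]
  have hK₂E : ∀ e ∈ E, ∀ v ∈ K₂, e • v ∈ K₂ := fun e he v hv => by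
    rw [hK₂] at hv ⊢
    rw [← tr_conj U v e (hEU e he), hv, smul_zero]
  have hK₂free : ∀ v ∈ K₂, (∀ u ∈ U, u • v = v) → v = 0 := fun v hv hvU => by
    rw [hK₂, tr_of_fixed U v hvU] at hv
    exact nsmul_inj_A _ hcU hv
  have hfree := free_aux U E hUn hfpf hnil hcU hcE _ K₂ rfl hK₂U hK₂E hK₂free
  obtain ⟨τ₁, hτ₁⟩ : ∃ τ₁ : A →+ fixIn U (⊤ : AddSubgroup A),
      ∀ v, ((τ₁ v : fixIn U (⊤ : AddSubgroup A)) : A) = tr U v :=
    ⟨{ toFun := fun v => ⟨tr U v, mem_fixIn.mpr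
          ⟨AddSubgroup.mem_top _, fun u hu => tr_fixed U v u hu⟩⟩
       map_zero' := Subtype.ext (by simp)
       map_add' := fun v w => Subtype.ext (by simp) }, fun v => rfl⟩
  have hτ₁surj : Function.Surjective τ₁ := by
    intro w
    obtain ⟨w', hw'⟩ := nsmul_surj (fixIn U (⊤ : AddSubgroup A)) _ hcU w
    refine ⟨(w' : A), ?_⟩
    apply Subtype.ext
    rw [hτ₁, tr_of_fixed U _ (mem_fixIn.mp w'.2).2, hw']
  have hτ₁ker : Nat.card τ₁.ker = Nat.card K₂ := by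
    have hk : τ₁.ker = K₂ := by
      ext v
      rw [AddMonoidHom.mem_ker, hK₂, ← hτ₁]
      constructor
      · intro h; exact congrArg Subtype.val h
      · intro h; exact Subtype.ext h
    rw [hk]
  obtain ⟨τ₂, hτ₂⟩ : ∃ τ₂ : fixIn E (⊤ : AddSubgroup A) →+
      fixIn E (fixIn U (⊤ : AddSubgroup A)),
      ∀ v, ((τ₂ v : fixIn E (fixIn U (⊤ : AddSubgroup A))) : A) = tr U (v : A) :=
    ⟨{ toFun := fun v => ⟨tr U (v : A), mem_fixIn.mpr
          ⟨mem_fixIn.mpr ⟨AddSubgroup.mem_top _, fun u hu => tr_fixed U _ u hu⟩,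
            fun e he => by
              rw [tr_conj U _ e (hEU e he), (mem_fixIn.mp v.2).2 e he]⟩⟩
       map_zero' := Subtype.ext (by simp)
       map_add' := fun v w => Subtype.ext (by simp) }, fun v => rfl⟩
  have hτ₂surj : Function.Surjective τ₂ := by
    intro w
    obtain ⟨w', hw'⟩ := nsmul_surj (fixIn E (fixIn U (⊤ : AddSubgroup A))) _ hcU w
    obtain ⟨hw'U, hw'E⟩ := mem_fixIn.mp w'.2
    refine ⟨⟨(w' : A), mem_fixIn.mpr ⟨AddSubgroup.mem_top _, hw'E⟩⟩, ?_⟩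
    apply Subtype.ext
    rw [hτ₂]
    show tr U (w' : A) = (w : A)
    rw [tr_of_fixed U _ (mem_fixIn.mp hw'U).2, hw']
  have hτ₂ker : Nat.card τ₂.ker = Nat.card (fixIn E K₂) := by
    apply card_sub_eq (fixIn E (⊤ : AddSubgroup A)) τ₂.ker (fixIn E K₂)
      (fun v hv => mem_fixIn.mpr ⟨AddSubgroup.mem_top _, (mem_fixIn.mp hv).2⟩)
    intro v
    rw [AddMonoidHom.mem_ker, mem_fixIn, hK₂, ← hτ₂]
    constructor
    · intro h
      exact ⟨congrArg Subtype.val h, (mem_fixIn.mp v.2).2⟩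
    · intro h
      exact Subtype.ext h.1
  have h1 := card_eq_ker_mul τ₁ hτ₁surj
  have h2 := card_eq_ker_mul τ₂ hτ₂surj
  rw [hτ₁ker, hfree] at h1
  rw [hτ₂ker] at h2
  rw [h1, h2]
  ring

end Cfsg.Agent.Helper7.Frob
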