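import Mathlib
import Cfsg.Agent.Helper5.Glaub
import Cfsg.Agent.Helper7.FrobC

/-!
helper7: the fixed point formula `|C_H(UE)|^|E| * |H| = |C_H(E)|^|E| * |C_H(U)|` for a Frobenius
group `U ⋊ E` acting coprimely on a solvable group `H` (reduction to the abelian case through the
derived series, lifting fixed points with Glauberman's lemma).
-/

set_option autoImplicit false

namespace Cfsg.Agent.Helper7.Frob

/-- Coprime action: a coset of `N` in `H` which is `Y`-invariant contains a `Y`-fixed element. -/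
theorem glaub_coset {X : Type*} [Group X] [Finite X] (H N Y : Subgroup X) (hNH : N ≤ H)
    (hHN : ∀ h ∈ H, ∀ n ∈ N, h * n * h⁻¹ ∈ N)
    (hYN : ∀ y ∈ Y, ∀ n ∈ N, y * n * y⁻¹ ∈ N)
    (hYH : ∀ y ∈ Y, ∀ h ∈ H, y * h * y⁻¹ ∈ H)
    (hcop : (Nat.card H).Coprime (Nat.card Y))
    (hsolv : Group.IsSolvable N)
    (h : X) (hh : h ∈ H) (hcomm : ∀ y ∈ Y, y * h * y⁻¹ * h⁻¹ ∈ N) :
    ∃ n ∈ N, ∀ y ∈ Y, y * (h * n) * y⁻¹ = h * n := by
  classical
  obtain ⟨L, hL⟩ : ∃ L : Subgroup X, L = Subgroup.normalizer (N : Set X) := ⟨_, rfl⟩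
  have hmemL : ∀ x, (∀ n ∈ N, x * n * x⁻¹ ∈ N) → x ∈ L := by
    intro x hx
    rw [hL, Subgroup.mem_normalizer_iff]
    exact conj_mem_iff N x hx
  have hHL : H ≤ L := fun x hx => hmemL x (hHN x hx)
  have hYL : Y ≤ L := fun x hx => hmemL x (hYN x hx)
  have hNL : N ≤ L := hNH.trans hHL
  haveI hKn : (N.subgroupOf L).Normal := by
    rw [hL]; exact Subgroup.normal_in_normalizer
  obtain ⟨t, ht⟩ : ∃ t : L, (t : X) = h := ⟨⟨h, hHL hh⟩, rfl⟩
  obtain ⟨S, hS⟩ : ∃ S : Subgroup L,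
      S = (Y.subgroupOf L).map (MulAut.conj t⁻¹).toMonoidHom := ⟨_, rfl⟩
  have hinj : Function.Injective ((MulAut.conj t⁻¹).toMonoidHom : L →* L) :=
    (MulAut.conj t⁻¹).injective
  have hcardS : Nat.card S = Nat.card Y := by
    rw [hS, Subgroup.card_map_of_injective hinj]
    exact Nat.card_congr (Subgroup.subgroupOfEquivOfLe hYL).toEquiv
  have hcardK : Nat.card (N.subgroupOf L) = Nat.card N :=
    Nat.card_congr (Subgroup.subgroupOfEquivOfLe hNL).toEquiv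
  have hcop' : (Nat.card S).Coprime (Nat.card (N.subgroupOf L)) := by
    rw [hcardS, hcardK]
    exact (Nat.Coprime.coprime_dvd_left (Subgroup.card_dvd_of_le hNH) hcop).symm
  have hsolvK : Group.IsSolvable (N.subgroupOf L) :=
    Group.isSolvable_of_isSolvable_injective
      (f := (Subgroup.subgroupOfEquivOfLe hNL).toMonoidHom)
      (Subgroup.subgroupOfEquivOfLe hNL).injective
  have hc2 : ∀ y ∈ Y, y⁻¹ * h⁻¹ * y * h ∈ N := by
    intro y hy
    have h1 := hcomm y⁻¹ (Y.inv_mem hy)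
    have h2 := hHN h⁻¹ (H.inv_mem hh) _ h1
    have h3 := N.inv_mem h2
    have e : (h⁻¹ * (y⁻¹ * h * y⁻¹⁻¹ * h⁻¹) * h⁻¹⁻¹)⁻¹ = y⁻¹ * h⁻¹ * y * h := by group
    rw [e] at h3
    exact h3
  have hSA : S ≤ Y.subgroupOf L ⊔ N.subgroupOf L := by
    intro x hx
    rw [hS] at hx
    obtain ⟨a, ha, rfl⟩ := Subgroup.mem_map.mp hx
    have haY : (a : X) ∈ Y := Subgroup.mem_subgroupOf.mp ha
    have e : (MulAut.conj t⁻¹).toMonoidHom a = a * (a⁻¹ * t⁻¹ * a * t) := by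
      show t⁻¹ * a * t⁻¹⁻¹ = _
      group
    rw [e]
    refine Subgroup.mul_mem_sup ha ?_
    rw [Subgroup.mem_subgroupOf]
    have h1 := hc2 (a : X) haY
    rw [← ht] at h1
    exact h1
  obtain ⟨k, hk, hks⟩ := Cfsg.Agent.Helper5.glauberman_quot (N.subgroupOf L)
    (Y.subgroupOf L) S hcop' (Or.inr hsolvK) hSA
  have hkN : (k : X) ∈ N := Subgroup.mem_subgroupOf.mp hk
  have hbot : H ⊓ Y = ⊥ := Subgroup.inf_eq_bot_of_coprime hcop
  refine ⟨(k : X)⁻¹, N.inv_mem hkN, fun y hy => ?_⟩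
  have hs : (MulAut.conj t⁻¹).toMonoidHom ⟨y, hYL hy⟩ ∈ S := by
    rw [hS]
    exact Subgroup.mem_map.mpr ⟨⟨y, hYL hy⟩, Subgroup.mem_subgroupOf.mpr hy, rfl⟩
  have h1 : (k : X) * ((t : X)⁻¹ * y * (t : X)⁻¹⁻¹) * (k : X)⁻¹ ∈ Y :=
    Subgroup.mem_subgroupOf.mp (hks _ hs)
  rw [ht] at h1
  have hh' : h * (k : X)⁻¹ ∈ H := H.mul_mem hh (H.inv_mem (hNH hkN))
  have hc : ((k : X) * (h⁻¹ * y * h⁻¹⁻¹) * (k : X)⁻¹) * y⁻¹ ∈ H ⊓ Y := by
    refine Subgroup.mem_inf.mpr ⟨?_, Y.mul_mem h1 (Y.inv_mem hy)⟩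
    have e : ((k : X) * (h⁻¹ * y * h⁻¹⁻¹) * (k : X)⁻¹) * y⁻¹
        = (h * (k : X)⁻¹)⁻¹ * (y * (h * (k : X)⁻¹) * y⁻¹) := by group
    rw [e]
    exact H.mul_mem (H.inv_mem hh') (hYH y hy _ hh')
  rw [hbot, Subgroup.mem_bot] at hc
  calc y * (h * (k : X)⁻¹) * y⁻¹
      = (h * (k : X)⁻¹) * (((k : X) * (h⁻¹ * y * h⁻¹⁻¹) * (k : X)⁻¹) * y⁻¹) := by group
    _ = h * (k : X)⁻¹ := by rw [hc, mul_one]

/-- Gluing: fixed points of `Y` on `H` are counted through `N` and the quotient module `A`. -/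
theorem glue_card {X : Type*} [Group X] [Finite X] (H N Γ₀ Y : Subgroup X)
    {A : Type*} [AddCommGroup A] [DistribMulAction Γ₀ A] (π : H → A)
    (hπmul : ∀ a b : H, π (a * b) = π a + π b)
    (hπsurj : Function.Surjective π)
    (hπker : ∀ a : H, π a = 0 ↔ (a : X) ∈ N)
    (hπeq : ∀ (g : Γ₀) (a : H) (hm : (g : X) * a * (g : X)⁻¹ ∈ H),
      π ⟨(g : X) * a * (g : X)⁻¹, hm⟩ = g • π a)
    (hNH : N ≤ H)
    (hΓH : ∀ y ∈ Γ₀, ∀ h ∈ H, y * h * y⁻¹ ∈ H)
    (hYΓ : Y ≤ Γ₀)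
    (hcop : (Nat.card H).Coprime (Nat.card Γ₀))
    (hsolv : Group.IsSolvable N) :
    Nat.card ↥(H ⊓ Subgroup.centralizer (Y : Set X)) =
      Nat.card ↥(N ⊓ Subgroup.centralizer (Y : Set X)) *
        Nat.card ↥(fixIn (Y.subgroupOf Γ₀) (⊤ : AddSubgroup A)) := by
  classical
  have hπ1 : π 1 = 0 := by
    have h := hπmul 1 1
    rw [mul_one] at h
    have h' : π 1 + π 1 = π 1 + 0 := by rw [add_zero]; exact h.symm
    exact add_left_cancel h'
  have hπinv : ∀ a : H, π a⁻¹ = -π a := by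
    intro a
    have h := hπmul a a⁻¹
    rw [mul_inv_cancel, hπ1] at h
    exact eq_neg_of_add_eq_zero_right h.symm
  have hHN : ∀ h ∈ H, ∀ n ∈ N, h * n * h⁻¹ ∈ N := by
    intro h hh n hn
    have h1 : π ((⟨h, hh⟩ : H) * ⟨n, hNH hn⟩ * (⟨h, hh⟩ : H)⁻¹) = 0 := by
      rw [hπmul, hπmul, hπinv, (hπker ⟨n, hNH hn⟩).mpr hn, add_zero, add_neg_cancel]
    exact (hπker _).mp h1
  have hΓN : ∀ y ∈ Γ₀, ∀ n ∈ N, y * n * y⁻¹ ∈ N := by
    intro y hy n hn
    have h2 : π ⟨y * n * y⁻¹, hΓH y hy n (hNH hn)⟩ = (⟨y, hy⟩ : Γ₀) • π ⟨n, hNH hn⟩ :=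
      hπeq ⟨y, hy⟩ ⟨n, hNH hn⟩ (hΓH y hy n (hNH hn))
    rw [(hπker ⟨n, hNH hn⟩).mpr hn, smul_zero] at h2
    exact (hπker _).mp h2
  have hcopY : (Nat.card H).Coprime (Nat.card Y) :=
    Nat.Coprime.coprime_dvd_right (Subgroup.card_dvd_of_le hYΓ) hcop
  obtain ⟨C, hC⟩ : ∃ C : Subgroup X, C = H ⊓ Subgroup.centralizer (Y : Set X) := ⟨_, rfl⟩
  have hCmem : ∀ x : X, x ∈ C ↔ x ∈ H ∧ x ∈ Subgroup.centralizer (Y : Set X) := fun x => by
    rw [hC, Subgroup.mem_inf]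
  have hCH : C ≤ H := fun x hx => ((hCmem x).mp hx).1
  have hCY : ∀ c ∈ C, ∀ y ∈ Y, y * c * y⁻¹ = c := by
    intro c hc y hy
    have h1 := Subgroup.mem_centralizer_iff.mp ((hCmem c).mp hc).2 y hy
    rw [h1, mul_inv_cancel_right]
  have hmemC : ∀ c ∈ H, (∀ y ∈ Y, y * c * y⁻¹ = c) → c ∈ C := by
    intro c hc hcy
    refine (hCmem c).mpr ⟨hc, Subgroup.mem_centralizer_iff.mpr (fun y hy => ?_)⟩
    have h1 := hcy y hy
    calc y * c = (y * c * y⁻¹) * y := by group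
      _ = c * y := by rw [h1]
  obtain ⟨f, hf⟩ : ∃ f : C →* Multiplicative A,
      ∀ c : C, f c = Multiplicative.ofAdd (π ⟨(c : X), hCH c.2⟩) :=
    ⟨{ toFun := fun c => Multiplicative.ofAdd (π ⟨(c : X), hCH c.2⟩)
       map_one' := congrArg Multiplicative.ofAdd
         (show π ⟨((1 : C) : X), hCH (1 : C).2⟩ = 0 from hπ1)
       map_mul' := fun a b => congrArg Multiplicative.ofAdd
         (show π ⟨((a * b : C) : X), hCH (a * b).2⟩
            = π ⟨(a : X), hCH a.2⟩ + π ⟨(b : X), hCH b.2⟩ from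
          hπmul ⟨(a : X), hCH a.2⟩ ⟨(b : X), hCH b.2⟩) }, fun c => rfl⟩
  have hkermem : ∀ c : C, c ∈ f.ker ↔ (c : X) ∈ N := by
    intro c
    rw [MonoidHom.mem_ker, hf, ofAdd_eq_one]
    exact hπker _
  have hker : Nat.card f.ker = Nat.card ↥(N ⊓ Subgroup.centralizer (Y : Set X)) :=
    Nat.card_congr
      { toFun := fun c => ⟨((c : C) : X), Subgroup.mem_inf.mpr
          ⟨(hkermem c).mp c.2, ((hCmem _).mp (c : C).2).2⟩⟩
        invFun := fun x => ⟨⟨(x : X), (hCmem _).mpr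
          ⟨hNH (Subgroup.mem_inf.mp x.2).1, (Subgroup.mem_inf.mp x.2).2⟩⟩,
          (hkermem _).mpr (Subgroup.mem_inf.mp x.2).1⟩
        left_inv := fun _ => Subtype.ext (Subtype.ext rfl)
        right_inv := fun _ => Subtype.ext rfl }
  have hrange : Nat.card f.range =
      Nat.card ↥(fixIn (Y.subgroupOf Γ₀) (⊤ : AddSubgroup A)) := by
    apply Nat.card_congr
    refine Equiv.subtypeEquiv Multiplicative.toAdd (fun a => ?_)
    rw [MonoidHom.mem_range, mem_fixIn]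
    constructor
    · rintro ⟨c, rfl⟩
      refine ⟨AddSubgroup.mem_top _, fun g hg => ?_⟩
      rw [hf]
      show g • π ⟨(c : X), hCH c.2⟩ = π ⟨(c : X), hCH c.2⟩
      rw [← hπeq g ⟨(c : X), hCH c.2⟩ (hΓH g g.2 _ (hCH c.2))]
      congr 1
      exact Subtype.ext (hCY c c.2 g (Subgroup.mem_subgroupOf.mp hg))
    · rintro ⟨-, hfix⟩
      obtain ⟨h, hh⟩ := hπsurj (Multiplicative.toAdd a)
      have hcomm : ∀ y ∈ Y, y * (h : X) * y⁻¹ * (h : X)⁻¹ ∈ N := by
        intro y hy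
        have hyΓ : y ∈ Γ₀ := hYΓ hy
        have h2 : π ⟨y * (h : X) * y⁻¹, hΓH y hyΓ _ h.2⟩ = (⟨y, hyΓ⟩ : Γ₀) • π h :=
          hπeq ⟨y, hyΓ⟩ h (hΓH y hyΓ _ h.2)
        have h3 := hfix ⟨y, hyΓ⟩ (Subgroup.mem_subgroupOf.mpr hy)
        rw [← hh] at h3
        rw [h3] at h2
        have h1 : π (⟨y * (h : X) * y⁻¹, hΓH y hyΓ _ h.2⟩ * h⁻¹) = 0 := by
          rw [hπmul, hπinv, h2, add_neg_cancel]
        exact (hπker _).mp h1
      obtain ⟨n, hn, hnY⟩ := glaub_coset H N Y hNH hHN (fun y hy => hΓN y (hYΓ hy))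
        (fun y hy => hΓH y (hYΓ hy)) hcopY hsolv (h : X) h.2 hcomm
      have hcC : (h : X) * n ∈ C := hmemC _ (H.mul_mem h.2 (hNH hn)) hnY
      refine ⟨⟨(h : X) * n, hcC⟩, ?_⟩
      have h4 : π ⟨(h : X) * n, hCH hcC⟩ = Multiplicative.toAdd a := by
        have h5 : (⟨(h : X) * n, hCH hcC⟩ : H) = h * ⟨n, hNH hn⟩ := rfl
        rw [h5, hπmul, (hπker ⟨n, hNH hn⟩).mpr hn, add_zero, hh]
      exact (hf _).trans (congrArg Multiplicative.ofAdd h4)
  have h1 := Subgroup.card_eq_card_quotient_mul_card_subgroup f.ker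
  rw [Nat.card_congr (QuotientGroup.quotientKerEquivRange f).toEquiv, hrange, hker,
    mul_comm] at h1
  rw [← hC]
  exact h1

theorem arith (a b c d f g n m k : ℕ) (h1 : a ^ k * n = c ^ k * d)
    (h2 : b ^ k * m = f ^ k * g) :
    (a * b) ^ k * (n * m) = (c * f) ^ k * (d * g) := by
  calc (a * b) ^ k * (n * m) = (a ^ k * n) * (b ^ k * m) := by ring
    _ = (c ^ k * d) * (f ^ k * g) := by rw [h1, h2]
    _ = (c * f) ^ k * (d * g) := by ring

/-- One step of the induction along the derived series. -/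
theorem step {X : Type*} [Group X] [Finite X] (U E H N Γ₀ : Subgroup X)
    (hΓ₀ : Γ₀ = U ⊔ E)
    (hUn : ∀ e ∈ E, ∀ u ∈ U, e * u * e⁻¹ ∈ U)
    (hfpf : ∀ e ∈ E, e ≠ 1 → ∀ u ∈ U, e * u = u * e → u = 1)
    {A : Type*} [AddCommGroup A] [DistribMulAction Γ₀ A] (π : H → A)
    (hπmul : ∀ a b : H, π (a * b) = π a + π b)
    (hπsurj : Function.Surjective π)
    (hπker : ∀ a : H, π a = 0 ↔ (a : X) ∈ N)
    (hπeq : ∀ (g : Γ₀) (a : H) (hm : (g : X) * a * (g : X)⁻¹ ∈ H),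
      π ⟨(g : X) * a * (g : X)⁻¹, hm⟩ = g • π a)
    (hNH : N ≤ H)
    (hΓH : ∀ y ∈ Γ₀, ∀ h ∈ H, y * h * y⁻¹ ∈ H)
    (hcop : (Nat.card H).Coprime (Nat.card Γ₀))
    (hsolv : Group.IsSolvable N)
    (hcard : Nat.card H = Nat.card N * Nat.card A)
    (hIH : Nat.card ↥(N ⊓ Subgroup.centralizer (Γ₀ : Set X)) ^ Nat.card E * Nat.card N =
        Nat.card ↥(N ⊓ Subgroup.centralizer (E : Set X)) ^ Nat.card E *
          Nat.card ↥(N ⊓ Subgroup.centralizer (U : Set X))) :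
    Nat.card ↥(H ⊓ Subgroup.centralizer (Γ₀ : Set X)) ^ Nat.card E * Nat.card H =
        Nat.card ↥(H ⊓ Subgroup.centralizer (E : Set X)) ^ Nat.card E *
          Nat.card ↥(H ⊓ Subgroup.centralizer (U : Set X)) := by
  classical
  haveI : Finite A := Finite.of_surjective π hπsurj
  have hUΓ : U ≤ Γ₀ := by rw [hΓ₀]; exact le_sup_left
  have hEΓ : E ≤ Γ₀ := by rw [hΓ₀]; exact le_sup_right
  have hAdvd : Nat.card A ∣ Nat.card H := Dvd.intro_left _ hcard.symm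
  have hcA : ∀ Y : Subgroup X, (Nat.card A).Coprime (Nat.card (Y.subgroupOf Γ₀)) := by
    intro Y
    exact Nat.Coprime.coprime_dvd_left hAdvd
      (Nat.Coprime.coprime_dvd_right (Subgroup.card_subgroup_dvd_card (Y.subgroupOf Γ₀)) hcop)
  have habf := abf (Γ := Γ₀) (A := A) (U.subgroupOf Γ₀) (E.subgroupOf Γ₀)
    (fun e he u hu => Subgroup.mem_subgroupOf.mpr
      (hUn e (Subgroup.mem_subgroupOf.mp he) u (Subgroup.mem_subgroupOf.mp hu)))
    (fun e he he1 u hu hc => Subtype.ext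
      (hfpf e (Subgroup.mem_subgroupOf.mp he) (fun h => he1 (Subtype.ext h)) u
        (Subgroup.mem_subgroupOf.mp hu) (congrArg Subtype.val hc)))
    (hcA U) (hcA E)
  have hcardE : Nat.card (E.subgroupOf Γ₀) = Nat.card E :=
    Nat.card_congr (Subgroup.subgroupOfEquivOfLe hEΓ).toEquiv
  rw [hcardE] at habf
  have hgU := glue_card H N Γ₀ U π hπmul hπsurj hπker hπeq hNH hΓH hUΓ hcop hsolv
  have hgE := glue_card H N Γ₀ E π hπmul hπsurj hπker hπeq hNH hΓH hEΓ hcop hsolv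
  have hgΓ := glue_card H N Γ₀ Γ₀ π hπmul hπsurj hπker hπeq hNH hΓH le_rfl hcop hsolv
  have hfixΓ : fixIn (Γ₀.subgroupOf Γ₀) (⊤ : AddSubgroup A) =
      fixIn (E.subgroupOf Γ₀) (fixIn (U.subgroupOf Γ₀) (⊤ : AddSubgroup A)) := by
    ext v
    constructor
    · intro h
      obtain ⟨-, h⟩ := mem_fixIn.mp h
      exact mem_fixIn.mpr ⟨mem_fixIn.mpr ⟨AddSubgroup.mem_top _,
        fun u _ => h u (Subgroup.mem_subgroupOf.mpr u.2)⟩,
        fun e _ => h e (Subgroup.mem_subgroupOf.mpr e.2)⟩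
    · intro h
      obtain ⟨hU', hE⟩ := mem_fixIn.mp h
      obtain ⟨-, hU⟩ := mem_fixIn.mp hU'
      refine mem_fixIn.mpr ⟨AddSubgroup.mem_top _, fun g _ => ?_⟩
      have hle : (⊤ : Subgroup Γ₀) ≤ MulAction.stabilizer Γ₀ v := by
        have h1 : U.subgroupOf Γ₀ ⊔ E.subgroupOf Γ₀ = ⊤ := by
          rw [← Subgroup.subgroupOf_sup hUΓ hEΓ, ← hΓ₀, Subgroup.subgroupOf_self]
        rw [← h1]
        exact sup_le (fun u hu => MulAction.mem_stabilizer_iff.mpr (hU u hu))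
          (fun e he => MulAction.mem_stabilizer_iff.mpr (hE e he))
      exact MulAction.mem_stabilizer_iff.mp (hle (Subgroup.mem_top g))
  rw [hfixΓ] at hgΓ
  rw [hgΓ, hgE, hgU, hcard]
  exact arith _ _ _ _ _ _ _ _ _ hIH habf

section ab

variable {X : Type*} [Group X] (H Γ₀ : Subgroup X)
  (hΓH : ∀ g ∈ Γ₀, ∀ h ∈ H, g * h * g⁻¹ ∈ H)

/-- Conjugation by an element of `Γ₀` as an endomorphism of `H`. -/
def conjHom (g : Γ₀) : H →* H where
  toFun h := ⟨(g : X) * h * (g : X)⁻¹, hΓH g g.2 h h.2⟩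
  map_one' := Subtype.ext (by
    show (g : X) * ((1 : H) : X) * (g : X)⁻¹ = ((1 : H) : X)
    simp)
  map_mul' a b := Subtype.ext (by
    show (g : X) * ((a : X) * (b : X)) * (g : X)⁻¹
      = ((g : X) * a * (g : X)⁻¹) * ((g : X) * b * (g : X)⁻¹)
    group)

theorem conjHom_apply (g : Γ₀) (h : H) :
    ((conjHom H Γ₀ hΓH g h : H) : X) = (g : X) * h * (g : X)⁻¹ := rfl

theorem conjHom_one : conjHom H Γ₀ hΓH 1 = MonoidHom.id H :=
  MonoidHom.ext (fun x => Subtype.ext (by rw [conjHom_apply]; simp))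

theorem conjHom_mul (g h : Γ₀) :
    conjHom H Γ₀ hΓH (g * h) = (conjHom H Γ₀ hΓH g).comp (conjHom H Γ₀ hΓH h) :=
  MonoidHom.ext (fun x => Subtype.ext (by
    rw [MonoidHom.comp_apply, conjHom_apply, conjHom_apply, conjHom_apply, Subgroup.coe_mul]
    group))

/-- The induced action on the abelianization, written additively. -/
noncomputable def abFun (g : Γ₀) (a : Additive (Abelianization H)) :
    Additive (Abelianization H) :=
  Additive.ofMul (Abelianization.map (conjHom H Γ₀ hΓH g) (Additive.toMul a))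

theorem abFun_one (a : Additive (Abelianization H)) : abFun H Γ₀ hΓH 1 a = a := by
  have h : Abelianization.map (conjHom H Γ₀ hΓH 1) = MonoidHom.id _ := by
    rw [conjHom_one, Abelianization.map_id]
  calc abFun H Γ₀ hΓH 1 a
      = Additive.ofMul ((MonoidHom.id (Abelianization H)) (Additive.toMul a)) := by
        unfold abFun; rw [h]
    _ = a := rfl

theorem abFun_mul (g h' : Γ₀) (a : Additive (Abelianization H)) :
    abFun H Γ₀ hΓH (g * h') a = abFun H Γ₀ hΓH g (abFun H Γ₀ hΓH h' a) := by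
  have h : Abelianization.map (conjHom H Γ₀ hΓH (g * h'))
      = (Abelianization.map (conjHom H Γ₀ hΓH g)).comp
          (Abelianization.map (conjHom H Γ₀ hΓH h')) := by
    rw [conjHom_mul, Abelianization.map_comp]
  calc abFun H Γ₀ hΓH (g * h') a
      = Additive.ofMul (((Abelianization.map (conjHom H Γ₀ hΓH g)).comp
          (Abelianization.map (conjHom H Γ₀ hΓH h'))) (Additive.toMul a)) := by
        unfold abFun; rw [h]
    _ = abFun H Γ₀ hΓH g (abFun H Γ₀ hΓH h' a) := rfl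

theorem abFun_zero (g : Γ₀) : abFun H Γ₀ hΓH g 0 = 0 :=
  congrArg Additive.ofMul (map_one (Abelianization.map (conjHom H Γ₀ hΓH g)))

theorem abFun_add (g : Γ₀) (a b : Additive (Abelianization H)) :
    abFun H Γ₀ hΓH g (a + b) = abFun H Γ₀ hΓH g a + abFun H Γ₀ hΓH g b :=
  congrArg Additive.ofMul (map_mul (Abelianization.map (conjHom H Γ₀ hΓH g))
    (Additive.toMul a) (Additive.toMul b))

/-- The module structure of the abelianization of `H` over `Γ₀`. -/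
noncomputable def abAct : DistribMulAction Γ₀ (Additive (Abelianization H)) where
  smul := abFun H Γ₀ hΓH
  one_smul := abFun_one H Γ₀ hΓH
  mul_smul := abFun_mul H Γ₀ hΓH
  smul_zero := abFun_zero H Γ₀ hΓH
  smul_add := abFun_add H Γ₀ hΓH

/-- The projection onto the abelianization, written additively. -/
noncomputable def abPi (a : H) : Additive (Abelianization H) :=
  Additive.ofMul (Abelianization.of a)

theorem abPi_mul (a b : H) : abPi H (a * b) = abPi H a + abPi H b :=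
  congrArg Additive.ofMul (map_mul (Abelianization.of : H →* Abelianization H) a b)

theorem abPi_surj : Function.Surjective (abPi H) := by
  intro x
  obtain ⟨a, ha⟩ := QuotientGroup.mk_surjective (Additive.toMul x)
  exact ⟨a, congrArg Additive.ofMul ha⟩

/-- The derived subgroup of `H`, as a subgroup of the ambient group. -/
def abN : Subgroup X :=
  (MonoidHom.ker (Abelianization.of : H →* Abelianization H)).map H.subtype

theorem abN_le : abN H ≤ H := by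
  rintro x ⟨a, _, rfl⟩
  exact a.2

theorem abPi_ker (a : H) : abPi H a = 0 ↔ (a : X) ∈ abN H := by
  have h1 : abPi H a = 0 ↔ a ∈ MonoidHom.ker (Abelianization.of : H →* Abelianization H) := by
    rw [MonoidHom.mem_ker]
    exact ofMul_eq_zero
  rw [h1]
  exact (Subgroup.mem_map_iff_mem H.subtype_injective).symm

theorem abPi_conj (g : Γ₀) (a : H) (hm : (g : X) * a * (g : X)⁻¹ ∈ H) :
    abPi H ⟨(g : X) * a * (g : X)⁻¹, hm⟩ = abFun H Γ₀ hΓH g (abPi H a) :=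
  congrArg Additive.ofMul (Abelianization.map_of (conjHom H Γ₀ hΓH g) a).symm

include hΓH in
theorem abN_conj (g : X) (hg : g ∈ Γ₀) (n : X) (hn : n ∈ abN H) : g * n * g⁻¹ ∈ abN H := by
  have hnH : n ∈ H := abN_le H hn
  have h1 : abPi H ⟨n, hnH⟩ = 0 := (abPi_ker H ⟨n, hnH⟩).mpr hn
  have h2 : abPi H ⟨g * n * g⁻¹, hΓH g hg n hnH⟩
      = abFun H Γ₀ hΓH ⟨g, hg⟩ (abPi H ⟨n, hnH⟩) :=
    abPi_conj H Γ₀ hΓH ⟨g, hg⟩ ⟨n, hnH⟩ (hΓH g hg n hnH)
  rw [h1, abFun_zero] at h2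
  exact (abPi_ker H _).mp h2

theorem abN_lt (hsolv : Group.IsSolvable H) (hH : H ≠ ⊥) : abN H < H := by
  refine lt_of_le_of_ne (abN_le H) (fun heq => ?_)
  haveI : Nontrivial H := (Subgroup.nontrivial_iff_ne_bot H).mpr hH
  have hlt := Group.IsSolvable.commutator_lt_top_of_nontrivial (G := H)
  obtain ⟨a, -, ha⟩ := SetLike.exists_of_lt hlt
  apply ha
  rw [← Abelianization.ker_of]
  have h1 : (a : X) ∈ abN H := by rw [heq]; exact a.2
  exact (Subgroup.mem_map_iff_mem H.subtype_injective).mp h1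

theorem abN_card : Nat.card H = Nat.card (abN H) * Nat.card (Additive (Abelianization H)) := by
  have hsurj : Function.Surjective (Abelianization.of : H →* Abelianization H) := by
    intro x
    obtain ⟨a, ha⟩ := abPi_surj H (Additive.ofMul x)
    exact ⟨a, ha⟩
  have h1 := Subgroup.card_eq_card_quotient_mul_card_subgroup
    (MonoidHom.ker (Abelianization.of : H →* Abelianization H))
  have h2 : Nat.card (abN H)
      = Nat.card (MonoidHom.ker (Abelianization.of : H →* Abelianization H)) :=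
    Subgroup.card_map_of_injective H.subtype_injective
  have h3 : Nat.card (H ⧸ MonoidHom.ker (Abelianization.of : H →* Abelianization H))
      = Nat.card (Additive (Abelianization H)) :=
    Nat.card_congr (QuotientGroup.quotientKerEquivOfSurjective _ hsurj).toEquiv
  rw [h1, h2, h3, mul_comm]

end ab

/-- The fixed point formula, by induction on `|H|`. -/
theorem main_aux {X : Type*} [Group X] [Finite X] (U E : Subgroup X)
    (hUn : ∀ e ∈ E, ∀ u ∈ U, e * u * e⁻¹ ∈ U)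
    (hfpf : ∀ e ∈ E, e ≠ 1 → ∀ u ∈ U, e * u = u * e → u = 1) :
    ∀ (n : ℕ) (H : Subgroup X), Nat.card H = n →
      (∀ x ∈ U ⊔ E, ∀ h ∈ H, x * h * x⁻¹ ∈ H) → Group.IsSolvable H →
      Nat.Coprime (Nat.card H) (Nat.card ↥(U ⊔ E)) →
      Nat.card ↥(H ⊓ Subgroup.centralizer ((U ⊔ E : Subgroup X) : Set X)) ^ Nat.card E
          * Nat.card H =
        Nat.card ↥(H ⊓ Subgroup.centralizer (E : Set X)) ^ Nat.card E *
          Nat.card ↥(H ⊓ Subgroup.centralizer (U : Set X)) := by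
  intro n
  induction n using Nat.strong_induction_on with
  | _ n IH =>
  intro H hHn hHnorm hsolv hcop
  by_cases hH : H = ⊥
  · subst hH
    simp only [bot_inf_eq, Subgroup.card_bot, one_pow, mul_one]
  obtain ⟨Γ₀, hΓ₀⟩ : ∃ Γ₀ : Subgroup X, Γ₀ = U ⊔ E := ⟨_, rfl⟩
  have hHnorm' : ∀ x ∈ Γ₀, ∀ h ∈ H, x * h * x⁻¹ ∈ H := by rw [hΓ₀]; exact hHnorm
  have hcop' : (Nat.card H).Coprime (Nat.card Γ₀) := by rw [hΓ₀]; exact hcop
  obtain ⟨N, hN⟩ : ∃ N : Subgroup X, N = abN H := ⟨_, rfl⟩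
  have hNH : N ≤ H := by rw [hN]; exact abN_le H
  have hNlt : N < H := by rw [hN]; exact abN_lt H hsolv hH
  have hNnorm : ∀ x ∈ U ⊔ E, ∀ n ∈ N, x * n * x⁻¹ ∈ N := by
    intro x hx n hn
    rw [hN] at hn ⊢
    exact abN_conj H (U ⊔ E) hHnorm x hx n hn
  haveI := hsolv
  have hNsolv : Group.IsSolvable N :=
    Group.isSolvable_of_isSolvable_injective (Subgroup.inclusion_injective hNH)
  have hNcard : Nat.card N < n := by
    rw [← hHn]
    exact lt_of_le_of_ne (Subgroup.card_le_of_le hNH)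
      (fun h => hNlt.ne (Subgroup.eq_of_le_of_card_ge hNH h.ge))
  have hNcop : Nat.Coprime (Nat.card N) (Nat.card ↥(U ⊔ E)) :=
    Nat.Coprime.coprime_dvd_left (Subgroup.card_dvd_of_le hNH) hcop
  have hIH := IH (Nat.card N) hNcard N rfl hNnorm hNsolv hNcop
  rw [← hΓ₀] at hIH ⊢
  have hker : ∀ a : H, abPi H a = 0 ↔ (a : X) ∈ N := fun a => by
    rw [hN]; exact abPi_ker H a
  have hcardHN : Nat.card H = Nat.card N * Nat.card (Additive (Abelianization H)) := by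
    rw [hN]; exact abN_card H
  exact @step X _ _ U E H N Γ₀ hΓ₀ hUn hfpf (Additive (Abelianization H)) _
    (abAct H Γ₀ hHnorm') (abPi H) (abPi_mul H) (abPi_surj H) hker
    (fun g a hm => abPi_conj H Γ₀ hHnorm' g a hm) hNH hHnorm' hcop' hNsolv hcardHN hIH

end Cfsg.Agent.Helper7.Frob
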