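import Mathlib
import Cfsg.Agent.Helper21.Thompson
import Cfsg.Agent.Helper7.FrobC

/-!
helper7: a Frobenius group `U ⋊ E` acting on an abelian group `K` with `C_K(U) = 0` and `C_K(E)`
cyclic induces an abelian group of automorphisms `U / C_U(K)`.
-/

set_option autoImplicit false

namespace Cfsg.Agent.Helper7.Frob

variable {Γ : Type*} [Group Γ] {A : Type*} [AddCommGroup A] [DistribMulAction Γ A]

/-- A Frobenius kernel is nilpotent (Thompson). -/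
theorem frob_nil [Finite Γ] (U E : Subgroup Γ) (hE1 : E ≠ ⊥)
    (hUn : ∀ e ∈ E, ∀ u ∈ U, e * u * e⁻¹ ∈ U)
    (hfpf : ∀ e ∈ E, e ≠ 1 → ∀ u ∈ U, e * u = u * e → u = 1) : Group.IsNilpotent U := by
  classical
  have hcard1 : Nat.card E ≠ 1 := fun h => hE1 (Subgroup.eq_bot_of_card_eq E h)
  obtain ⟨r, hr, hrdvd⟩ := Nat.exists_prime_and_dvd hcard1
  haveI : Fact r.Prime := ⟨hr⟩
  obtain ⟨x, hx⟩ := exists_prime_orderOf_dvd_card' r hrdvd
  obtain ⟨e₀, he₀E, he₀ord⟩ : ∃ e₀ ∈ E, orderOf e₀ = r :=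
    ⟨x, x.2, by rw [Subgroup.orderOf_coe, hx]⟩
  have he₀1 : e₀ ≠ 1 := by
    intro h
    rw [h, orderOf_one] at he₀ord
    exact hr.ne_one he₀ord.symm
  obtain ⟨φ, hφ⟩ : ∃ φ : U ≃* U, ∀ u : U, ((φ u : U) : Γ) = e₀ * (u : Γ) * e₀⁻¹ :=
    ⟨{ toFun := fun u => ⟨e₀ * (u : Γ) * e₀⁻¹, hUn e₀ he₀E u u.2⟩
       invFun := fun u => ⟨e₀⁻¹ * (u : Γ) * e₀, by
         have h := hUn e₀⁻¹ (E.inv_mem he₀E) u u.2
         rwa [inv_inv] at h⟩
       left_inv := fun u => Subtype.ext (by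
         show e₀⁻¹ * (e₀ * (u : Γ) * e₀⁻¹) * e₀ = u
         group)
       right_inv := fun u => Subtype.ext (by
         show e₀ * (e₀⁻¹ * (u : Γ) * e₀) * e₀⁻¹ = u
         group)
       map_mul' := fun u v => Subtype.ext (by
         show e₀ * ((u : Γ) * (v : Γ)) * e₀⁻¹ = (e₀ * u * e₀⁻¹) * (e₀ * v * e₀⁻¹)
         group) }, fun u => rfl⟩
  have hφfpf : ∀ g : U, φ g = g → g = 1 := by
    intro g hg
    have h1 : e₀ * (g : Γ) * e₀⁻¹ = g := by rw [← hφ, hg]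
    have h2 : e₀ * (g : Γ) = g * e₀ := by
      calc e₀ * (g : Γ) = (e₀ * (g : Γ) * e₀⁻¹) * e₀ := by group
        _ = g * e₀ := by rw [h1]
    exact Subtype.ext (hfpf e₀ he₀E he₀1 g g.2 h2)
  have hiter : ∀ (k : ℕ) (g : U),
      (((⇑φ)^[k] g : U) : Γ) = e₀ ^ k * (g : Γ) * (e₀ ^ k)⁻¹ := by
    intro k
    induction k with
    | zero => intro g; simp
    | succ k ih =>
      intro g
      rw [Function.iterate_succ_apply', hφ, ih, pow_succ']
      generalize e₀ ^ k = a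
      group
  have hφr : ∀ g : U, (⇑φ)^[r] g = g := by
    intro g
    apply Subtype.ext
    rw [hiter, ← he₀ord, pow_orderOf_eq_one]
    simp
  have hnil : Group.IsNilpotent U :=
    Cfsg.Agent.Helper21.thompson_nilpotent φ hφfpf r hr hφr
  exact hnil

theorem decomp_aux [Finite A] {ι : Type*} [Fintype ι] [DecidableEq ι] (rep : ι → Γ)
    (E S : Subgroup Γ)
    (hrepE : ∀ x, rep x ∈ E)
    (hrep1 : ∀ x x', x ≠ x' → (rep x')⁻¹ * rep x ∉ S)
    (hrep2 : ∀ e ∈ E, ∃ x, (rep x)⁻¹ * e ∈ S)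
    (K : AddSubgroup A) (q : A →+ A) (c : ℕ)
    (hEK : ∀ e ∈ E, ∀ v ∈ K, e • v ∈ K)
    (hqK : ∀ v ∈ K, q v ∈ K)
    (hc : (Nat.card A).Coprime c)
    (ha : ∀ v ∈ K, q (q v) = c • q v)
    (hb : ∀ g ∈ S, ∀ v ∈ K, q (g • v) = g • q v)
    (hcc : ∀ e ∈ E, e ∉ S → ∀ v ∈ K, q (e • q v) = 0)
    (w : A) (hw : w ∈ K) :
    ∃ f' : ι → A, (∀ x, f' x ∈ K.map q) ∧ w - ∑ x, rep x • f' x ∈ compl E K q := by
  have hfmem : ∀ x, q ((rep x)⁻¹ • w) ∈ K.map q := fun x =>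
    AddSubgroup.mem_map.mpr ⟨_, hEK _ (E.inv_mem (hrepE x)) w hw, rfl⟩
  choose f'' hf'' using fun x => nsmul_surj (K.map q) c hc ⟨_, hfmem x⟩
  have hf' : ∀ x, c • ((f'' x : K.map q) : A) = q ((rep x)⁻¹ • w) := fun x => hf'' x
  have hfK : ∀ x, ((f'' x : K.map q) : A) ∈ K := fun x => by
    obtain ⟨k, hk, hk'⟩ := AddSubgroup.mem_map.mp (f'' x).2
    rw [← hk']; exact hqK k hk
  have hqf : ∀ x, q ((f'' x : K.map q) : A) = c • ((f'' x : K.map q) : A) := fun x => by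
    obtain ⟨k, hk, hk'⟩ := AddSubgroup.mem_map.mp (f'' x).2
    rw [← hk']; exact ha k hk
  have hvK : (∑ x, rep x • ((f'' x : K.map q) : A)) ∈ K :=
    K.sum_mem (fun x _ => hEK _ (hrepE x) _ (hfK x))
  have hq0 : ∀ x', q ((rep x')⁻¹ • (w - ∑ x, rep x • ((f'' x : K.map q) : A))) = 0 := by
    intro x'
    rw [smul_sub, map_sub, Finset.smul_sum, map_sum, Finset.sum_eq_single x']
    · rw [← mul_smul, inv_mul_cancel, one_smul, hqf, hf', sub_self]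
    · intro x _ hx
      obtain ⟨k, hk, hk'⟩ := AddSubgroup.mem_map.mp (f'' x).2
      rw [← mul_smul, ← hk']
      exact hcc _ (E.mul_mem (E.inv_mem (hrepE x')) (hrepE x)) (hrep1 x x' hx) k hk
    · intro h; exact absurd (Finset.mem_univ x') h
  refine ⟨fun x => ((f'' x : K.map q) : A), fun x => (f'' x).2, ?_⟩
  refine mem_compl.mpr ⟨K.sub_mem hw hvK, fun e he => ?_⟩
  obtain ⟨x, hx⟩ := hrep2 e he
  have h2 : e⁻¹ = ((rep x)⁻¹ * e)⁻¹ * (rep x)⁻¹ := by group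
  show q (e⁻¹ • (w - ∑ x, rep x • ((f'' x : K.map q) : A))) = 0
  rw [h2, mul_smul, hb _ (S.inv_mem hx) _ (hEK _ (E.inv_mem (hrepE x)) _ (K.sub_mem hw hvK)),
    hq0 x, smul_zero]

/-- Induction principle: `K` is generated by `compl E K q` and the `E`-translates of `q K`. -/
theorem decomp [Finite Γ] [Finite A] (E S : Subgroup Γ) (hSE : S ≤ E)
    (K : AddSubgroup A) (q : A →+ A) (c : ℕ)
    (hEK : ∀ e ∈ E, ∀ v ∈ K, e • v ∈ K)
    (hqK : ∀ v ∈ K, q v ∈ K)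
    (hc : (Nat.card A).Coprime c)
    (ha : ∀ v ∈ K, q (q v) = c • q v)
    (hb : ∀ g ∈ S, ∀ v ∈ K, q (g • v) = g • q v)
    (hcc : ∀ e ∈ E, e ∉ S → ∀ v ∈ K, q (e • q v) = 0)
    (P : A → Prop) (hadd : ∀ a b, P a → P b → P (a + b))
    (hcompl : ∀ v ∈ compl E K q, P v)
    (hgen : ∀ x ∈ E, ∀ y ∈ K.map q, P (x • y)) : ∀ w ∈ K, P w := by
  classical
  intro w hw
  haveI : Fintype (E ⧸ S.subgroupOf E) := Fintype.ofFinite _
  have key : ∃ f' : (E ⧸ S.subgroupOf E) → A, (∀ x, f' x ∈ K.map q) ∧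
      w - ∑ x, ((Quotient.out x : E) : Γ) • f' x ∈ compl E K q := by
    refine decomp_aux (ι := E ⧸ S.subgroupOf E) (fun x => ((Quotient.out x : E) : Γ)) E S
      ?_ ?_ ?_ K q c hEK hqK hc ha hb hcc w hw
    · intro x; exact (Quotient.out x : E).2
    · intro x x' hx hmem
      apply hx
      have h1 : (Quotient.out x' : E)⁻¹ * (Quotient.out x : E) ∈ S.subgroupOf E := by
        rw [Subgroup.mem_subgroupOf]
        simpa using hmem
      have h2 : ((Quotient.out x' : E) : E ⧸ S.subgroupOf E)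
          = ((Quotient.out x : E) : E ⧸ S.subgroupOf E) := QuotientGroup.eq.mpr h1
      rw [QuotientGroup.out_eq', QuotientGroup.out_eq'] at h2
      exact h2.symm
    · intro e he
      refine ⟨((⟨e, he⟩ : E) : E ⧸ S.subgroupOf E), ?_⟩
      have h1 := QuotientGroup.eq.mp
        (QuotientGroup.out_eq' (((⟨e, he⟩ : E) : E ⧸ S.subgroupOf E)))
      rw [Subgroup.mem_subgroupOf] at h1
      simpa using h1
  obtain ⟨f', hf', hmem⟩ := key
  have h1 : P (∑ x, ((Quotient.out x : E) : Γ) • f' x) :=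
    Finset.sum_induction _ P hadd (hcompl 0 (zero_mem _))
      (fun x _ => hgen _ (Quotient.out x : E).2 _ (hf' x))
  have h2 := hadd _ _ (hcompl _ hmem) h1
  rwa [sub_add_cancel] at h2

theorem thetaE_cyc [Finite Γ] [Finite A] (E S : Subgroup Γ) (hSE : S ≤ E)
    (K : AddSubgroup A) (q : A →+ A) (c : ℕ)
    (hEK : ∀ e ∈ E, ∀ v ∈ K, e • v ∈ K)
    (hqK : ∀ v ∈ K, q v ∈ K)
    (hc : (Nat.card A).Coprime c)
    (hcE : (Nat.card A).Coprime (Nat.card E))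
    (ha : ∀ v ∈ K, q (q v) = c • q v)
    (hb : ∀ g ∈ S, ∀ v ∈ K, q (g • v) = g • q v)
    (hcc : ∀ e ∈ E, e ∉ S → ∀ v ∈ K, q (e • q v) = 0)
    (hcyc : IsAddCyclic ↥(fixIn E K)) : IsAddCyclic ↥(fixIn S (K.map q)) := by
  classical
  haveI : Fintype E := Fintype.ofFinite E
  obtain ⟨ΘE, hΘE⟩ : ∃ ΘE : (fixIn E K) →+ (fixIn S (K.map q)),
      ∀ v, ((ΘE v : fixIn S (K.map q)) : A) = q (v : A) :=
    ⟨{ toFun := fun v => ⟨q (v : A), mem_fixIn.mpr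
          ⟨AddSubgroup.mem_map.mpr ⟨_, (mem_fixIn.mp v.2).1, rfl⟩, fun g hg => by
            rw [← hb g hg _ (mem_fixIn.mp v.2).1, (mem_fixIn.mp v.2).2 g (hSE hg)]⟩⟩
       map_zero' := Subtype.ext (by simp)
       map_add' := fun v w => Subtype.ext (by simp) }, fun v => rfl⟩
  have hN0 : (Finset.univ.filter (fun e : E => (e : Γ) ∈ S)).card
      = Nat.card (S.subgroupOf E) := by
    rw [← Fintype.card_subtype, ← Nat.card_eq_fintype_card]
    exact Nat.card_congr (Equiv.subtypeEquivRight (fun x => Subgroup.mem_subgroupOf.symm))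
  have hcN : (Nat.card A).Coprime
      ((Finset.univ.filter (fun e : E => (e : Γ) ∈ S)).card * c) := by
    rw [hN0]
    exact Nat.Coprime.mul_right
      (Nat.Coprime.coprime_dvd_right (Subgroup.card_subgroup_dvd_card (S.subgroupOf E)) hcE) hc
  have hΘEsurj : Function.Surjective ΘE := by
    intro w
    obtain ⟨w', hw'⟩ := nsmul_surj (fixIn S (K.map q)) _ hcN w
    obtain ⟨hw'Q, hw'S⟩ := mem_fixIn.mp w'.2
    obtain ⟨k, hk, hk'⟩ := AddSubgroup.mem_map.mp hw'Q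
    have hw'K : (w' : A) ∈ K := by rw [← hk']; exact hqK k hk
    have hqw' : q (w' : A) = c • (w' : A) := by rw [← hk']; exact ha k hk
    have hvK : tr E (w' : A) ∈ K := by
      rw [tr_apply]
      exact K.sum_mem (fun e _ => hEK _ e.2 _ hw'K)
    have h1 : q (tr E (w' : A)) = ∑ e : E, if (e : Γ) ∈ S then c • (w' : A) else 0 := by
      rw [tr_apply, map_sum]
      refine Finset.sum_congr rfl (fun e _ => ?_)
      split_ifs with h
      · rw [hw'S _ h, hqw']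
      · rw [← hk']; exact hcc _ e.2 h k hk
    rw [Finset.sum_ite, Finset.sum_const_zero, add_zero, Finset.sum_const] at h1
    refine ⟨⟨tr E (w' : A), mem_fixIn.mpr ⟨hvK, fun e he => tr_fixed E _ e he⟩⟩, ?_⟩
    apply Subtype.ext
    rw [hΘE, ← hw']
    exact h1.trans (mul_smul _ _ _).symm
  exact isAddCyclic_of_surjective ΘE hΘEsurj

/-- If `K` is a cyclic module over (the group ring of) a subgroup `N` central in `U` on `K`,
generated by a generator of `C_K(E)`, then `U` acts on `K` as an abelian group. -/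
theorem sub_case [Finite Γ] [Finite A] (U E N : Subgroup Γ) (W : AddSubgroup A)
    (hNU : N ≤ U)
    (hNE : ∀ e ∈ E, ∀ x ∈ N, e * x * e⁻¹ ∈ N)
    (hUW : ∀ u ∈ U, ∀ v ∈ W, u • v ∈ W)
    (hNc : ∀ x ∈ N, ∀ u ∈ U, ∀ v ∈ W, x • u • v = u • x • v)
    (hcardW : Nat.card W = Nat.card (fixIn E W) ^ Nat.card E)
    (hfreeN : ∀ (W₁ : AddSubgroup A), W₁ ≤ W → (∀ n ∈ N, ∀ v ∈ W₁, n • v ∈ W₁) →
      (∀ e ∈ E, ∀ v ∈ W₁, e • v ∈ W₁) →
      Nat.card W₁ = Nat.card (fixIn E W₁) ^ Nat.card E)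
    (hcyc : IsAddCyclic ↥(fixIn E W)) :
    ∀ u ∈ U, ∀ u' ∈ U, ∀ w ∈ W, u • u' • w = u' • u • w := by
  classical
  haveI : Fintype N := Fintype.ofFinite N
  obtain ⟨g, hg⟩ := IsAddCyclic.exists_generator (α := ↥(fixIn E W))
  obtain ⟨w₀, hw₀⟩ : ∃ w₀ : A, w₀ = (g : A) := ⟨_, rfl⟩
  have hw₀fix : w₀ ∈ fixIn E W := by rw [hw₀]; exact g.2
  have hw₀W : w₀ ∈ W := (mem_fixIn.mp hw₀fix).1
  have hw₀E : ∀ e ∈ E, e • w₀ = w₀ := (mem_fixIn.mp hw₀fix).2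
  have hgen : ∀ w ∈ fixIn E W, ∃ k : ℤ, k • w₀ = w := by
    intro w hw
    obtain ⟨k, hk⟩ := AddSubgroup.mem_zmultiples_iff.mp (hg ⟨w, hw⟩)
    refine ⟨k, ?_⟩
    have h : ((k • g : ↥(fixIn E W)) : A) = w := congrArg Subtype.val hk
    push_cast at h
    rw [hw₀]
    exact h
  obtain ⟨evv, hevv⟩ : ∃ evv : (N → ℤ) → A → A,
      ∀ c v, evv c v = ∑ n : N, c n • ((n : Γ) • v) :=
    ⟨fun c v => ∑ n : N, c n • ((n : Γ) • v), fun c v => rfl⟩
  obtain ⟨W₁, hW₁⟩ : ∃ W₁ : AddSubgroup A, ∀ v, v ∈ W₁ ↔ ∃ c : N → ℤ, evv c w₀ = v := by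
    refine ⟨{ carrier := {v | ∃ c : N → ℤ, evv c w₀ = v}
              zero_mem' := ⟨0, by rw [hevv]; simp⟩
              add_mem' := ?_
              neg_mem' := ?_ }, fun v => Iff.rfl⟩
    · rintro a b ⟨c, rfl⟩ ⟨c', rfl⟩
      refine ⟨c + c', ?_⟩
      rw [hevv, hevv, hevv, ← Finset.sum_add_distrib]
      refine Finset.sum_congr rfl (fun n _ => ?_)
      rw [Pi.add_apply, add_smul]
    · rintro a ⟨c, rfl⟩
      refine ⟨-c, ?_⟩
      rw [hevv, hevv, ← Finset.sum_neg_distrib]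
      refine Finset.sum_congr rfl (fun n _ => ?_)
      rw [Pi.neg_apply, neg_smul]
  have hevvW : ∀ c, ∀ v ∈ W, evv c v ∈ W := by
    intro c v hv
    rw [hevv]
    exact W.sum_mem (fun n _ => W.zsmul_mem (hUW _ (hNU n.2) _ hv) _)
  have hW₁W : W₁ ≤ W := by
    intro v hv
    obtain ⟨c, rfl⟩ := (hW₁ v).mp hv
    exact hevvW c w₀ hw₀W
  have hN₁ : ∀ n ∈ N, ∀ v ∈ W₁, n • v ∈ W₁ := by
    intro n' hn' v hv
    obtain ⟨c, rfl⟩ := (hW₁ v).mp hv
    refine (hW₁ _).mpr ⟨fun m => c ((⟨n', hn'⟩ : N)⁻¹ * m), ?_⟩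
    rw [hevv, hevv, Finset.smul_sum]
    refine Fintype.sum_equiv (Equiv.mulLeft (⟨n', hn'⟩ : N)⁻¹) _ _ (fun m => ?_)
    show c ((⟨n', hn'⟩ : N)⁻¹ * m) • ((m : Γ) • w₀)
      = n' • (c ((⟨n', hn'⟩ : N)⁻¹ * m) • ((((⟨n', hn'⟩ : N)⁻¹ * m : N) : Γ) • w₀))
    rw [smul_comm n' (c _) _, ← mul_smul]
    congr 2
    simp [Subgroup.coe_mul]
  have hE₁ : ∀ e ∈ E, ∀ v ∈ W₁, e • v ∈ W₁ := by
    intro e he v hv
    obtain ⟨c, rfl⟩ := (hW₁ v).mp hv
    obtain ⟨σ, hσ⟩ : ∃ σ : N ≃ N, ∀ n, ((σ n : N) : Γ) = e * n * e⁻¹ :=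
      ⟨{ toFun := fun n => ⟨e * n * e⁻¹, hNE e he n n.2⟩
         invFun := fun n => ⟨e⁻¹ * n * e, by
           have h := hNE e⁻¹ (E.inv_mem he) n n.2
           rwa [inv_inv] at h⟩
         left_inv := fun n => Subtype.ext (by
           show e⁻¹ * (e * (n : Γ) * e⁻¹) * e = n
           group)
         right_inv := fun n => Subtype.ext (by
           show e * (e⁻¹ * (n : Γ) * e) * e⁻¹ = n
           group) }, fun n => rfl⟩
    refine (hW₁ _).mpr ⟨fun m => c (σ.symm m), ?_⟩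
    rw [hevv, hevv, Finset.smul_sum]
    refine (Fintype.sum_equiv σ _ _ (fun n => ?_)).symm
    show e • (c n • ((n : Γ) • w₀)) = c (σ.symm (σ n)) • (((σ n : N) : Γ) • w₀)
    rw [Equiv.symm_apply_apply, smul_comm e (c n) _, hσ]
    congr 1
    have h1 : (e * (n : Γ) * e⁻¹) • w₀ = (e * (n : Γ) * e⁻¹) • e • w₀ := by rw [hw₀E e he]
    rw [h1, ← mul_smul, ← mul_smul]
    congr 1
    group
  have hfixW₁ : ∀ w ∈ fixIn E W, w ∈ W₁ := by
    intro w hw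
    obtain ⟨k, rfl⟩ := hgen w hw
    refine (hW₁ _).mpr ⟨Pi.single 1 k, ?_⟩
    rw [hevv, Finset.sum_eq_single (1 : N)]
    · rw [Pi.single_eq_same, Subgroup.coe_one, one_smul]
    · intro n _ hn
      rw [Pi.single_eq_of_ne hn, zero_smul]
    · intro h; exact absurd (Finset.mem_univ _) h
  have hfixeq : fixIn E W₁ = fixIn E W := by
    ext v
    constructor
    · intro h
      exact mem_fixIn.mpr ⟨hW₁W (mem_fixIn.mp h).1, (mem_fixIn.mp h).2⟩
    · intro h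
      exact mem_fixIn.mpr ⟨hfixW₁ v h, (mem_fixIn.mp h).2⟩
  have hW₁eq : W₁ = W := by
    apply AddSubgroup.eq_of_le_of_card_ge hW₁W
    exact le_of_eq (by rw [hcardW, hfreeN W₁ hW₁W hN₁ hE₁, hfixeq])
  have hrep : ∀ w ∈ W, ∃ c : N → ℤ, evv c w₀ = w := fun w hw =>
    (hW₁ w).mp (by rw [hW₁eq]; exact hw)
  have L1 : ∀ u ∈ U, ∀ v ∈ W, ∀ c, u • evv c v = evv c (u • v) := by
    intro u hu v hv c
    rw [hevv, hevv, Finset.smul_sum]
    refine Finset.sum_congr rfl (fun n _ => ?_)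
    rw [smul_comm u (c n) _, hNc n n.2 u hu v hv]
  have L2 : ∀ a b : N → ℤ, evv b (evv a w₀) = evv a (evv b w₀) := by
    have hexp : ∀ a b : N → ℤ, evv b (evv a w₀)
        = ∑ m : N, ∑ n : N, b m • a n • ((m : Γ) • (n : Γ) • w₀) := by
      intro a b
      rw [hevv b, hevv a]
      refine Finset.sum_congr rfl (fun m _ => ?_)
      rw [Finset.smul_sum, Finset.smul_sum]
      refine Finset.sum_congr rfl (fun n _ => ?_)
      rw [smul_comm (m : Γ) (a n) _]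
    intro a b
    rw [hexp a b, hexp b a, Finset.sum_comm]
    refine Finset.sum_congr rfl (fun n _ => Finset.sum_congr rfl (fun m _ => ?_))
    rw [smul_comm (b m) (a n) _, hNc m m.2 n (hNU n.2) w₀ hw₀W]
  intro u hu u' hu' w hw
  obtain ⟨c, rfl⟩ := hrep w hw
  obtain ⟨a, ha⟩ := hrep (u • w₀) (hUW u hu w₀ hw₀W)
  obtain ⟨b, hb⟩ := hrep (u' • w₀) (hUW u' hu' w₀ hw₀W)
  have key : u • u' • w₀ = u' • u • w₀ := by
    calc u • u' • w₀ = u • evv b w₀ := by rw [hb]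
      _ = evv b (u • w₀) := L1 u hu w₀ hw₀W b
      _ = evv b (evv a w₀) := by rw [ha]
      _ = evv a (evv b w₀) := L2 a b
      _ = evv a (u' • w₀) := by rw [hb]
      _ = u' • evv a w₀ := (L1 u' hu' w₀ hw₀W a).symm
      _ = u' • u • w₀ := by rw [ha]
  calc u • u' • evv c w₀ = u • evv c (u' • w₀) := by rw [L1 u' hu' w₀ hw₀W c]
    _ = evv c (u • u' • w₀) := L1 u hu _ (hUW u' hu' w₀ hw₀W) c
    _ = evv c (u' • u • w₀) := by rw [key]
    _ = u' • evv c (u • w₀) := (L1 u' hu' _ (hUW u hu w₀ hw₀W) c).symm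
    _ = u' • u • evv c w₀ := by rw [L1 u hu w₀ hw₀W c]

/-- `U` acts as an abelian group on `K` when `C_K(U) = 0` and `C_K(E)` is cyclic. -/
theorem ab_comm [Finite Γ] [Finite A] (U E₀ : Subgroup Γ)
    (hUn₀ : ∀ e ∈ E₀, ∀ u ∈ U, e * u * e⁻¹ ∈ U)
    (hfpf₀ : ∀ e ∈ E₀, e ≠ 1 → ∀ u ∈ U, e * u = u * e → u = 1)
    (hnil : Group.IsNilpotent U)
    (hcU : (Nat.card A).Coprime (Nat.card U))
    (hcE₀ : (Nat.card A).Coprime (Nat.card E₀)) :
    ∀ (n : ℕ) (E : Subgroup Γ), E ≤ E₀ → ∀ (K : AddSubgroup A), Nat.card K = n →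
      (∀ u ∈ U, ∀ v ∈ K, u • v ∈ K) → (∀ e ∈ E, ∀ v ∈ K, e • v ∈ K) →
      (∀ v ∈ K, (∀ u ∈ U, u • v = v) → v = 0) →
      IsAddCyclic ↥(fixIn E K) →
      ∀ u ∈ U, ∀ u' ∈ U, ∀ w ∈ K, u • u' • w = u' • u • w := by
  classical
  intro n
  induction n using Nat.strong_induction_on with
  | _ n IH =>
  intro E hEE₀ K hKn hUK hEK hfree hcyc
  have hUn : ∀ e ∈ E, ∀ u ∈ U, e * u * e⁻¹ ∈ U := fun e he => hUn₀ e (hEE₀ he)
  have hfpf : ∀ e ∈ E, e ≠ 1 → ∀ u ∈ U, e * u = u * e → u = 1 :=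
    fun e he => hfpf₀ e (hEE₀ he)
  have hcE : (Nat.card A).Coprime (Nat.card E) :=
    Nat.Coprime.coprime_dvd_right (Subgroup.card_dvd_of_le hEE₀) hcE₀
  by_cases hK0 : K = ⊥
  · intro u _ u' _ w hw
    rw [hK0, AddSubgroup.mem_bot] at hw
    rw [hw]
    simp
  have hKne : ∃ w ∈ K, w ≠ 0 := by
    by_contra hcon
    push_neg at hcon
    exact hK0 ((AddSubgroup.eq_bot_iff_forall K).mpr hcon)
  haveI : Group.IsNilpotent U := hnil
  haveI : Finite (Subgroup Γ) :=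
    Finite.of_injective (fun H : Subgroup Γ => (H : Set Γ)) SetLike.coe_injective
  -- Step 1: an element acting nontrivially and centrally on `K`
  have hz : ∃ z : U, (∃ v ∈ K, (z : Γ) • v ≠ v) ∧
      ∀ u : U, ∀ v ∈ K, (z : Γ) • (u : Γ) • v = (u : Γ) • (z : Γ) • v := by
    by_contra hcon
    have hQ : ∀ z : U, (∀ u : U, ∀ v ∈ K, (z : Γ) • (u : Γ) • v = (u : Γ) • (z : Γ) • v) →
        ∀ v ∈ K, (z : Γ) • v = v := by
      intro z hzc v hv
      by_contra hne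
      exact hcon ⟨z, ⟨v, hv, hne⟩, hzc⟩
    have key : ∀ m, ∀ z ∈ Subgroup.upperCentralSeries U m, ∀ v ∈ K, (z : Γ) • v = v := by
      intro m
      induction m with
      | zero =>
        intro z hz v hv
        rw [Subgroup.upperCentralSeries_zero, Subgroup.mem_bot] at hz
        rw [hz, Subgroup.coe_one, one_smul]
      | succ m ih =>
        intro z hz
        apply hQ z
        intro u v' hv'
        have h1 : ((z * u * z⁻¹ * u⁻¹ : U) : Γ) • ((u : Γ) • (z : Γ) • v')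
            = (u : Γ) • (z : Γ) • v' :=
          ih _ ((Subgroup.mem_upperCentralSeries_succ_iff).mp hz u) ((u : Γ) • (z : Γ) • v')
            (hUK _ u.2 _ (hUK _ z.2 _ hv'))
        have h2 : ((z * u * z⁻¹ * u⁻¹ : U) : Γ) • ((u : Γ) • (z : Γ) • v')
            = (z : Γ) • (u : Γ) • v' := by
          simp only [Subgroup.coe_mul, Subgroup.coe_inv, ← mul_smul]
          congr 1
          group
        rw [← h2, h1]
    obtain ⟨m, hm⟩ := Group.IsNilpotent.nilpotent U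
    obtain ⟨w, hwK, hw0⟩ := hKne
    apply hw0
    apply hfree w hwK
    intro u hu
    exact key m ⟨u, hu⟩ (by rw [hm]; exact Subgroup.mem_top _) w hwK
  obtain ⟨⟨z, hzU⟩, ⟨v₀, hv₀K, hv₀'⟩, hz3'⟩ := hz
  have hv₀ : z • v₀ ≠ v₀ := hv₀'
  have hz3 : ∀ u ∈ U, ∀ v ∈ K, z • u • v = u • z • v := fun u hu v hv => hz3' ⟨u, hu⟩ v hv
  -- Step 2: the subgroups `Z'` and `N`
  obtain ⟨Z', hZ'⟩ : ∃ Z' : Subgroup Γ, ∀ x, x ∈ Z' ↔
      (x ∈ U ∧ ∀ u ∈ U, ∀ v ∈ K, x • u • v = u • x • v) :=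
    ⟨{ carrier := {x | x ∈ U ∧ ∀ u ∈ U, ∀ v ∈ K, x • u • v = u • x • v}
       one_mem' := ⟨U.one_mem, fun u _ v _ => by rw [one_smul, one_smul]⟩
       mul_mem' := by
         rintro a b ⟨ha, ha'⟩ ⟨hb, hb'⟩
         exact ⟨U.mul_mem ha hb, fun u hu v hv => by
           rw [mul_smul, mul_smul, hb' u hu v hv, ha' u hu _ (hUK b hb v hv)]⟩
       inv_mem' := by
         rintro a ⟨ha, ha'⟩
         exact ⟨U.inv_mem ha, fun u hu v hv => by
           rw [inv_smul_eq_iff, ha' u hu _ (hUK _ (U.inv_mem ha) v hv), smul_inv_smul]⟩ },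
      fun x => Iff.rfl⟩
  obtain ⟨N, hN⟩ : ∃ N : Subgroup Γ, ∀ x, x ∈ N ↔ ∀ e ∈ E, e * x * e⁻¹ ∈ Z' :=
    ⟨{ carrier := {x | ∀ e ∈ E, e * x * e⁻¹ ∈ Z'}
       one_mem' := by
         intro e _
         rw [mul_one, mul_inv_cancel]; exact Z'.one_mem
       mul_mem' := by
         intro a b ha hb e he
         have h : e * (a * b) * e⁻¹ = (e * a * e⁻¹) * (e * b * e⁻¹) := by group
         rw [h]; exact Z'.mul_mem (ha e he) (hb e he)
       inv_mem' := by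
         intro a ha e he
         have h : e * a⁻¹ * e⁻¹ = (e * a * e⁻¹)⁻¹ := by group
         rw [h]; exact Z'.inv_mem (ha e he) }, fun x => Iff.rfl⟩
  have hNZ : ∀ x ∈ N, x ∈ Z' := fun x hx => by
    have h := (hN x).mp hx 1 E.one_mem
    rwa [one_mul, inv_one, mul_one] at h
  have hNU : N ≤ U := fun x hx => ((hZ' x).mp (hNZ x hx)).1
  have hNc : ∀ x ∈ N, ∀ u ∈ U, ∀ v ∈ K, x • u • v = u • x • v :=
    fun x hx => ((hZ' x).mp (hNZ x hx)).2
  have hNE : ∀ e ∈ E, ∀ x ∈ N, e * x * e⁻¹ ∈ N := by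
    intro e he x hx
    rw [hN]
    intro e' he'
    have h : e' * (e * x * e⁻¹) * e'⁻¹ = (e' * e) * x * (e' * e)⁻¹ := by group
    rw [h]
    exact (hN x).mp hx _ (E.mul_mem he' he)
  have hzN : z ∈ N := by
    rw [hN]
    intro e he
    rw [hZ']
    refine ⟨hUn e he z hzU, fun u hu v hv => ?_⟩
    have h1 := hz3 (e⁻¹ * u * e) (by
      have h := hUn e⁻¹ (E.inv_mem he) u hu
      rwa [inv_inv] at h) (e⁻¹ • v) (hEK _ (E.inv_mem he) v hv)
    calc (e * z * e⁻¹) • u • v = e • (z • (e⁻¹ * u * e) • e⁻¹ • v) := by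
          simp only [← mul_smul]; congr 1; group
      _ = e • ((e⁻¹ * u * e) • z • e⁻¹ • v) := by rw [h1]
      _ = u • (e * z * e⁻¹) • v := by
          simp only [← mul_smul]; congr 1; group
  -- Step 3: a maximal subgroup of `N` with a nonzero fixed vector
  obtain ⟨𝒮, h𝒮⟩ : ∃ 𝒮 : Set (Subgroup Γ), ∀ B, B ∈ 𝒮 ↔
      (B ≤ N ∧ ∃ w ∈ K, w ≠ 0 ∧ ∀ b ∈ B, b • w = w) :=
    ⟨{B | B ≤ N ∧ ∃ w ∈ K, w ≠ 0 ∧ ∀ b ∈ B, b • w = w}, fun B => Iff.rfl⟩
  have h𝒮ne : 𝒮.Nonempty := by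
    obtain ⟨w, hwK, hw0⟩ := hKne
    refine ⟨⊥, (h𝒮 ⊥).mpr ⟨bot_le, w, hwK, hw0, fun b hb => ?_⟩⟩
    rw [Subgroup.mem_bot] at hb
    rw [hb, one_smul]
  obtain ⟨A₀, hA₀⟩ := Set.Finite.exists_maximal (Set.toFinite 𝒮) h𝒮ne
  obtain ⟨hA₀N, w₀, hw₀K, hw₀0, hw₀A⟩ := (h𝒮 A₀).mp hA₀.prop
  have hA₀U : A₀ ≤ U := hA₀N.trans hNU
  have M1 : ∀ x ∈ N, ∀ w ∈ K, w ≠ 0 → (∀ a ∈ A₀, a • w = w) → x • w = w → x ∈ A₀ := by
    intro x hx w hw hw0 hAw hxw
    have hB : A₀ ⊔ Subgroup.zpowers x ∈ 𝒮 := by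
      refine (h𝒮 _).mpr ⟨sup_le hA₀N ((Subgroup.zpowers_le).mpr hx), w, hw, hw0, ?_⟩
      have hle : A₀ ⊔ Subgroup.zpowers x ≤ MulAction.stabilizer Γ w :=
        sup_le (fun a ha => MulAction.mem_stabilizer_iff.mpr (hAw a ha))
          ((Subgroup.zpowers_le).mpr (MulAction.mem_stabilizer_iff.mpr hxw))
      exact fun b hb => MulAction.mem_stabilizer_iff.mp (hle hb)
    have hle2 : A₀ ⊔ Subgroup.zpowers x ≤ A₀ := hA₀.le_of_ge hB le_sup_left
    exact hle2 (Subgroup.mem_sup_right (Subgroup.mem_zpowers x))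
  -- Step 4: the trace over `A₀`
  haveI : Fintype A₀ := Fintype.ofFinite A₀
  obtain ⟨S, hS⟩ : ∃ S : Subgroup Γ, ∀ g, g ∈ S ↔
      (g ∈ E ∧ ∀ a, a ∈ A₀ ↔ g * a * g⁻¹ ∈ A₀) :=
    ⟨{ carrier := {g | g ∈ E ∧ ∀ a, a ∈ A₀ ↔ g * a * g⁻¹ ∈ A₀}
       one_mem' := ⟨E.one_mem, fun a => by rw [one_mul, inv_one, mul_one]⟩
       mul_mem' := by
         rintro g h ⟨hg, hg'⟩ ⟨hh, hh'⟩
         refine ⟨E.mul_mem hg hh, fun a => ?_⟩
         have e : g * h * a * (g * h)⁻¹ = g * (h * a * h⁻¹) * g⁻¹ := by group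
         rw [e, ← hg', ← hh']
       inv_mem' := by
         rintro g ⟨hg, hg'⟩
         refine ⟨E.inv_mem hg, fun a => ?_⟩
         have e : g * (g⁻¹ * a * g⁻¹⁻¹) * g⁻¹ = a := by group
         rw [hg' (g⁻¹ * a * g⁻¹⁻¹), e] }, fun g => Iff.rfl⟩
  have hSE : S ≤ E := fun g hg => ((hS g).mp hg).1
  have hSn : ∀ g ∈ S, ∀ a, a ∈ A₀ ↔ g * a * g⁻¹ ∈ A₀ := fun g hg => ((hS g).mp hg).2
  obtain ⟨q, hq⟩ : ∃ q : A →+ A, q = tr A₀ := ⟨_, rfl⟩
  have hcA₀ : (Nat.card A).Coprime (Nat.card A₀) :=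
    Nat.Coprime.coprime_dvd_right (Subgroup.card_dvd_of_le hA₀U) hcU
  have hqfix : ∀ v, ∀ a ∈ A₀, a • q v = q v := fun v a ha => by
    rw [hq]; exact tr_fixed A₀ v a ha
  have hqK : ∀ v ∈ K, q v ∈ K := fun v hv => by
    rw [hq, tr_apply]
    exact K.sum_mem (fun b _ => hUK _ (hA₀U b.2) v hv)
  have hqfixed : ∀ v, (∀ a ∈ A₀, a • v = v) → q v = Nat.card A₀ • v := fun v hv => by
    rw [hq]; exact tr_of_fixed A₀ v hv
  have hqa : ∀ v ∈ K, q (q v) = Nat.card A₀ • q v := fun v _ => hqfixed (q v) (hqfix v)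
  have hUq : ∀ u ∈ U, ∀ v ∈ K, u • q v = q (u • v) := fun u hu v hv => by
    rw [hq]
    exact tr_comm A₀ v u (fun b hb => (hNc b (hA₀N hb) u hu v hv).symm)
  have hqb : ∀ g ∈ S, ∀ v ∈ K, q (g • v) = g • q v := fun g hg v _ => by
    rw [hq]
    exact (tr_conj A₀ v g (hSn g hg)).symm
  have hqc : ∀ e ∈ E, e ∉ S → ∀ v ∈ K, q (e • q v) = 0 := by
    intro e he heS v hv
    by_contra hx
    apply heS
    rw [hS]
    refine ⟨he, conj_mem_iff A₀ e (fun a ha => ?_)⟩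
    have hxK : q (e • q v) ∈ K := hqK _ (hEK e he _ (hqK v hv))
    apply M1 (e * a * e⁻¹) (hNE e he a (hA₀N ha)) (q (e • q v)) hxK hx (hqfix _)
    have h1 : (e * a * e⁻¹) • q (e • q v) = q ((e * a * e⁻¹) • e • q v) :=
      hUq _ (hNU (hNE e he a (hA₀N ha))) _ (hEK e he _ (hqK v hv))
    rw [h1, ← mul_smul]
    have h2 : e * a * e⁻¹ * e = e * a := by group
    rw [h2, mul_smul, hqfix v a ha]
  have hKq_le : K.map q ≤ K := by
    rintro w ⟨k, hk, rfl⟩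
    exact hqK k hk
  have hKqfix : ∀ w ∈ K.map q, ∀ a ∈ A₀, a • w = w := by
    rintro w ⟨k, hk, rfl⟩ a ha
    exact hqfix k a ha
  have hUKq : ∀ u ∈ U, ∀ w ∈ K.map q, u • w ∈ K.map q := by
    rintro u hu w ⟨k, hk, rfl⟩
    exact AddSubgroup.mem_map.mpr ⟨u • k, hUK u hu k hk, (hUq u hu k hk).symm⟩
  have hSKq : ∀ g ∈ S, ∀ w ∈ K.map q, g • w ∈ K.map q := by
    rintro g hg w ⟨k, hk, rfl⟩
    exact AddSubgroup.mem_map.mpr ⟨g • k, hEK g (hSE hg) k hk, hqb g hg k hk⟩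
  have hle : compl E K q ≤ K := fun v hv => (mem_compl.mp hv).1
  have hlt : Nat.card (compl E K q) < n := by
    by_contra hge
    push_neg at hge
    have heq : compl E K q = K :=
      AddSubgroup.eq_of_le_of_card_ge hle (by rw [hKn]; exact hge)
    have hw₀ : w₀ ∈ compl E K q := by rw [heq]; exact hw₀K
    have h1 := (mem_compl.mp hw₀).2 1 E.one_mem
    rw [inv_one, one_smul, hqfixed w₀ hw₀A] at h1
    exact hw₀0 (nsmul_inj_A _ hcA₀ h1)
  have hcomplU : ∀ u ∈ U, ∀ v ∈ compl E K q, u • v ∈ compl E K q := by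
    intro u hu v hv
    obtain ⟨hvK, hvq⟩ := mem_compl.mp hv
    refine mem_compl.mpr ⟨hUK u hu v hvK, fun e he => ?_⟩
    have hu' : e⁻¹ * u * e ∈ U := by
      have h := hUn e⁻¹ (E.inv_mem he) u hu
      rwa [inv_inv] at h
    have e1 : e⁻¹ • u • v = (e⁻¹ * u * e) • e⁻¹ • v := by
      simp only [← mul_smul]; congr 1; group
    rw [e1, ← hUq _ hu' _ (hEK _ (E.inv_mem he) v hvK), hvq e he, smul_zero]
  have hcomplE : ∀ g ∈ E, ∀ v ∈ compl E K q, g • v ∈ compl E K q := by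
    intro g hg v hv
    obtain ⟨hvK, hvq⟩ := mem_compl.mp hv
    refine mem_compl.mpr ⟨hEK g hg v hvK, fun e he => ?_⟩
    have e1 : e⁻¹ • g • v = (g⁻¹ * e)⁻¹ • v := by
      rw [← mul_smul]; congr 1; group
    rw [e1]
    exact hvq _ (E.mul_mem (E.inv_mem hg) he)
  haveI : IsAddCyclic ↥(fixIn E K) := hcyc
  have hcomplcyc : IsAddCyclic ↥(fixIn E (compl E K q)) :=
    AddSubgroup.isAddCyclic_of_le (H' := fixIn E K)
      (fun v hv => mem_fixIn.mpr ⟨hle (mem_fixIn.mp hv).1, (mem_fixIn.mp hv).2⟩)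
  have hcomp := IH _ hlt E hEE₀ (compl E K q) rfl hcomplU hcomplE
    (fun v hv hvU => hfree v (hle hv) hvU) hcomplcyc
  by_cases hqW : K.map q = K
  · have hAtriv : ∀ a ∈ A₀, ∀ w ∈ K, a • w = w := fun a ha w hw =>
      hKqfix w (by rw [hqW]; exact hw) a ha
    have hAN : A₀ ≠ N := by
      intro h
      exact hv₀ (hAtriv z (by rw [h]; exact hzN) v₀ hv₀K)
    obtain ⟨y₀, hy₀N, hy₀A⟩ := SetLike.exists_of_lt (lt_of_le_of_ne hA₀N hAN)
    have hNfree : ∀ v ∈ K, (∀ x ∈ N, x • v = v) → v = 0 := by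
      intro v hv hvN
      by_contra hv0
      exact hy₀A (M1 y₀ hy₀N v hv hv0 (fun a ha => hvN a (hA₀N ha)) (hvN y₀ hy₀N))
    have hNnil : Group.IsNilpotent N :=
      Group.nilpotent_of_mulEquiv (Subgroup.subgroupOfEquivOfLe hNU)
    have hcN : (Nat.card A).Coprime (Nat.card N) :=
      Nat.Coprime.coprime_dvd_right (Subgroup.card_dvd_of_le hNU) hcU
    have hcardK := free_aux U E hUn hfpf hnil hcU hcE _ K rfl hUK hEK hfree
    have hfreeN : ∀ (W₁ : AddSubgroup A), W₁ ≤ K → (∀ x ∈ N, ∀ v ∈ W₁, x • v ∈ W₁) →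
        (∀ e ∈ E, ∀ v ∈ W₁, e • v ∈ W₁) →
        Nat.card W₁ = Nat.card (fixIn E W₁) ^ Nat.card E :=
      fun W₁ hle₁ hN₁ hE₁ => free_aux N E hNE
        (fun e he he1 u hu => hfpf e he he1 u (hNU hu)) hNnil hcN hcE _ W₁ rfl hN₁ hE₁
        (fun v hv hvN => hNfree v (hle₁ hv) hvN)
    exact sub_case U E N K hNU hNE hUK hNc hcardK hfreeN hcyc
  · have hlt2 : Nat.card (K.map q) < n := by
      by_contra hge
      push_neg at hge
      exact hqW (AddSubgroup.eq_of_le_of_card_ge hKq_le (by rw [hKn]; exact hge))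
    have hcyc2 : IsAddCyclic ↥(fixIn S (K.map q)) :=
      thetaE_cyc E S hSE K q (Nat.card A₀) hEK hqK hcA₀ hcE hqa hqb hqc hcyc
    have hq_comm := IH _ hlt2 S (hSE.trans hEE₀) (K.map q) rfl hUKq hSKq
      (fun w hw hwU => hfree w (hKq_le hw) hwU) hcyc2
    intro u hu u' hu' w hw
    refine decomp E S hSE K q (Nat.card A₀) hEK hqK hcA₀ hqa hqb hqc
      (fun w => u • u' • w = u' • u • w) ?_ ?_ ?_ w hw
    · intro a b ha hb
      have ha' : u • u' • a = u' • u • a := ha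
      have hb' : u • u' • b = u' • u • b := hb
      show u • u' • (a + b) = u' • u • (a + b)
      rw [smul_add, smul_add, smul_add, smul_add, ha', hb']
    · intro v hv
      exact hcomp u hu u' hu' v hv
    · intro x hx y hy
      have hux : x⁻¹ * u * x ∈ U := by
        have h := hUn x⁻¹ (E.inv_mem hx) u hu
        rwa [inv_inv] at h
      have hu'x : x⁻¹ * u' * x ∈ U := by
        have h := hUn x⁻¹ (E.inv_mem hx) u' hu'
        rwa [inv_inv] at h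
      have h1 := hq_comm _ hux _ hu'x y hy
      show u • u' • x • y = u' • u • x • y
      calc u • u' • x • y = x • ((x⁻¹ * u * x) • (x⁻¹ * u' * x) • y) := by
            simp only [← mul_smul]; congr 1; group
        _ = x • ((x⁻¹ * u' * x) • (x⁻¹ * u * x) • y) := by rw [h1]
        _ = u' • u • x • y := by
            simp only [← mul_smul]; congr 1; group

end Cfsg.Agent.Helper7.Frob
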