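import Mathlib
import Cfsg.Agent.Helper7.FrobD
import Cfsg.Agent.Helper7.FrobE

/-!
helper7: a Frobenius group `U ⋊ E` acting coprimely on a solvable group `H` with `C_H(U) = 1` and
`C_H(E)` cyclic: the derived subgroup of `U` centralizes `H`.
-/

set_option autoImplicit false

namespace Cfsg.Agent.Helper7.Frob

/-- Coprime action: fixed points on the quotient module are images of fixed points, hence
cyclic if `C_H(Y)` is. -/
theorem glue_cyc {X : Type*} [Group X] [Finite X] (H N Γ₀ Y : Subgroup X)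
    {A : Type*} [AddCommGroup A] [DistribMulAction Γ₀ A] (π : H → A)
    (hπmul : ∀ a b : H, π (a * b) = π a + π b)
    (hπsurj : Function.Surjective π)
    (hπker : ∀ a : H, π a = 0 ↔ (a : X) ∈ N)
    (hπeq : ∀ (g : Γ₀) (a : H) (hm : (g : X) * a * (g : X)⁻¹ ∈ H),
      π ⟨(g : X) * a * (g : X)⁻¹, hm⟩ = g • π a)
    (hNH : N ≤ H)
    (hΓH : ∀ y ∈ Γ₀, ∀ h ∈ H, y * h * y⁻¹ ∈ H)
    (hYΓ : Y ≤ Γ₀)
    (hcop : (Nat.card H).Coprime (Nat.card Γ₀))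
    (hsolv : Group.IsSolvable N)
    (hcyc : IsCyclic ↥(H ⊓ Subgroup.centralizer (Y : Set X))) :
    IsAddCyclic ↥(fixIn (Y.subgroupOf Γ₀) (⊤ : AddSubgroup A)) := by
  classical
  have hπ1 : π 1 = 0 := by
    have h := hπmul 1 1
    rw [mul_one] at h
    have h' : π 1 + π 1 = π 1 + 0 := by rw [add_zero]; exact h.symm
    exact add_left_cancel h'
  have hπinv : ∀ a : H, π a⁻¹ = -π a := by
    intro a
    have h := hπmul a a⁻¹
    rw [mul_inv_cancel, hπ1] at h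
    exact eq_neg_of_add_eq_zero_right h.symm
  have hHN : ∀ h ∈ H, ∀ n ∈ N, h * n * h⁻¹ ∈ N := by
    intro h hh n hn
    have h1 : π ((⟨h, hh⟩ : H) * ⟨n, hNH hn⟩ * (⟨h, hh⟩ : H)⁻¹) = 0 := by
      rw [hπmul, hπmul, hπinv, (hπker ⟨n, hNH hn⟩).mpr hn, add_zero, add_neg_cancel]
    exact (hπker _).mp h1
  have hΓN : ∀ y ∈ Γ₀, ∀ n ∈ N, y * n * y⁻¹ ∈ N := by
    intro y hy n hn
    have h2 : π ⟨y * n * y⁻¹, hΓH y hy n (hNH hn)⟩ = (⟨y, hy⟩ : Γ₀) • π ⟨n, hNH hn⟩ :=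
      hπeq ⟨y, hy⟩ ⟨n, hNH hn⟩ (hΓH y hy n (hNH hn))
    rw [(hπker ⟨n, hNH hn⟩).mpr hn, smul_zero] at h2
    exact (hπker _).mp h2
  have hcopY : (Nat.card H).Coprime (Nat.card Y) :=
    Nat.Coprime.coprime_dvd_right (Subgroup.card_dvd_of_le hYΓ) hcop
  obtain ⟨C, hC⟩ : ∃ C : Subgroup X, C = H ⊓ Subgroup.centralizer (Y : Set X) := ⟨_, rfl⟩
  have hCmem : ∀ x : X, x ∈ C ↔ x ∈ H ∧ x ∈ Subgroup.centralizer (Y : Set X) := fun x => by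
    rw [hC, Subgroup.mem_inf]
  have hCH : C ≤ H := fun x hx => ((hCmem x).mp hx).1
  have hCY : ∀ c ∈ C, ∀ y ∈ Y, y * c * y⁻¹ = c := by
    intro c hc y hy
    have h1 := Subgroup.mem_centralizer_iff.mp ((hCmem c).mp hc).2 y hy
    rw [h1, mul_inv_cancel_right]
  have hmemC : ∀ c ∈ H, (∀ y ∈ Y, y * c * y⁻¹ = c) → c ∈ C := by
    intro c hc hcy
    refine (hCmem c).mpr ⟨hc, Subgroup.mem_centralizer_iff.mpr (fun y hy => ?_)⟩
    have h1 := hcy y hy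
    calc y * c = (y * c * y⁻¹) * y := by group
      _ = c * y := by rw [h1]
  haveI : IsCyclic ↥C := by rw [hC]; exact hcyc
  have hfixmem : ∀ c : C,
      π ⟨(c : X), hCH c.2⟩ ∈ fixIn (Y.subgroupOf Γ₀) (⊤ : AddSubgroup A) := by
    intro c
    refine mem_fixIn.mpr ⟨AddSubgroup.mem_top _, fun g hg => ?_⟩
    rw [← hπeq g ⟨(c : X), hCH c.2⟩ (hΓH g g.2 _ (hCH c.2))]
    congr 1
    exact Subtype.ext (hCY c c.2 g (Subgroup.mem_subgroupOf.mp hg))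
  obtain ⟨f, hf⟩ : ∃ f : C →* Multiplicative ↥(fixIn (Y.subgroupOf Γ₀) (⊤ : AddSubgroup A)),
      ∀ c : C, ((Multiplicative.toAdd (f c) :
        ↥(fixIn (Y.subgroupOf Γ₀) (⊤ : AddSubgroup A))) : A) = π ⟨(c : X), hCH c.2⟩ :=
    ⟨{ toFun := fun c => Multiplicative.ofAdd ⟨π ⟨(c : X), hCH c.2⟩, hfixmem c⟩
       map_one' := congrArg Multiplicative.ofAdd (Subtype.ext
         (show π ⟨((1 : C) : X), hCH (1 : C).2⟩ = 0 from hπ1))
       map_mul' := fun a b => congrArg Multiplicative.ofAdd (Subtype.ext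
         (show π ⟨((a * b : C) : X), hCH (a * b).2⟩
            = π ⟨(a : X), hCH a.2⟩ + π ⟨(b : X), hCH b.2⟩ from
          hπmul ⟨(a : X), hCH a.2⟩ ⟨(b : X), hCH b.2⟩)) }, fun c => rfl⟩
  have hsurj : Function.Surjective f := by
    intro b
    obtain ⟨bb, hbb⟩ : ∃ bb : ↥(fixIn (Y.subgroupOf Γ₀) (⊤ : AddSubgroup A)),
        bb = Multiplicative.toAdd b := ⟨_, rfl⟩
    have hfix : ∀ g ∈ Y.subgroupOf Γ₀, g • (bb : A) = (bb : A) := (mem_fixIn.mp bb.2).2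
    obtain ⟨h, hh⟩ := hπsurj ((bb : A))
    have hcomm : ∀ y ∈ Y, y * (h : X) * y⁻¹ * (h : X)⁻¹ ∈ N := by
      intro y hy
      have hyΓ : y ∈ Γ₀ := hYΓ hy
      have h2 : π ⟨y * (h : X) * y⁻¹, hΓH y hyΓ _ h.2⟩ = (⟨y, hyΓ⟩ : Γ₀) • π h :=
        hπeq ⟨y, hyΓ⟩ h (hΓH y hyΓ _ h.2)
      have h3 := hfix ⟨y, hyΓ⟩ (Subgroup.mem_subgroupOf.mpr hy)
      rw [← hh] at h3
      rw [h3] at h2
      have h1 : π (⟨y * (h : X) * y⁻¹, hΓH y hyΓ _ h.2⟩ * h⁻¹) = 0 := by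
        rw [hπmul, hπinv, h2, add_neg_cancel]
      exact (hπker _).mp h1
    obtain ⟨n, hn, hnY⟩ := glaub_coset H N Y hNH hHN (fun y hy => hΓN y (hYΓ hy))
      (fun y hy => hΓH y (hYΓ hy)) hcopY hsolv (h : X) h.2 hcomm
    have hcC : (h : X) * n ∈ C := hmemC _ (H.mul_mem h.2 (hNH hn)) hnY
    refine ⟨⟨(h : X) * n, hcC⟩, ?_⟩
    have h4 : π ⟨(h : X) * n, hCH hcC⟩ = (bb : A) := by
      have h5 : (⟨(h : X) * n, hCH hcC⟩ : H) = h * ⟨n, hNH hn⟩ := rfl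
      rw [h5, hπmul, (hπker ⟨n, hNH hn⟩).mpr hn, add_zero, hh]
    apply Multiplicative.toAdd.injective
    apply Subtype.ext
    rw [hf, ← hbb]
    exact h4
  haveI : IsCyclic (Multiplicative ↥(fixIn (Y.subgroupOf Γ₀) (⊤ : AddSubgroup A))) :=
    isCyclic_of_surjective f hsurj
  exact isCyclic_multiplicative_iff.mp inferInstance

/-- One step of the induction along the derived series. -/
theorem comm_step {X : Type*} [Group X] [Finite X] (U E H N Γ₀ : Subgroup X)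
    (hΓ₀ : Γ₀ = U ⊔ E) (hE1 : E ≠ ⊥)
    (hUn : ∀ e ∈ E, ∀ u ∈ U, e * u * e⁻¹ ∈ U)
    (hfpf : ∀ e ∈ E, e ≠ 1 → ∀ u ∈ U, e * u = u * e → u = 1)
    {A : Type*} [AddCommGroup A] [DistribMulAction Γ₀ A] (π : H → A)
    (hπmul : ∀ a b : H, π (a * b) = π a + π b)
    (hπsurj : Function.Surjective π)
    (hπker : ∀ a : H, π a = 0 ↔ (a : X) ∈ N)
    (hπeq : ∀ (g : Γ₀) (a : H) (hm : (g : X) * a * (g : X)⁻¹ ∈ H),
      π ⟨(g : X) * a * (g : X)⁻¹, hm⟩ = g • π a)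
    (hNH : N ≤ H)
    (hΓH : ∀ y ∈ Γ₀, ∀ h ∈ H, y * h * y⁻¹ ∈ H)
    (hcop : (Nat.card H).Coprime (Nat.card Γ₀))
    (hsolv : Group.IsSolvable N)
    (hcard : Nat.card H = Nat.card N * Nat.card A)
    (hCU : H ⊓ Subgroup.centralizer (U : Set X) = ⊥)
    (hcyc : IsCyclic ↥(H ⊓ Subgroup.centralizer (E : Set X)))
    (hIH : ∀ u ∈ U, ∀ u' ∈ U, ∀ n ∈ N,
      (u * u' * u⁻¹ * u'⁻¹) * n = n * (u * u' * u⁻¹ * u'⁻¹)) :
    ∀ u ∈ U, ∀ u' ∈ U, ∀ h ∈ H,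
      (u * u' * u⁻¹ * u'⁻¹) * h = h * (u * u' * u⁻¹ * u'⁻¹) := by
  classical
  haveI : Finite A := Finite.of_surjective π hπsurj
  have hUΓ : U ≤ Γ₀ := by rw [hΓ₀]; exact le_sup_left
  have hEΓ : E ≤ Γ₀ := by rw [hΓ₀]; exact le_sup_right
  have hAdvd : Nat.card A ∣ Nat.card H := Dvd.intro_left _ hcard.symm
  have hcA : ∀ Y : Subgroup X, (Nat.card A).Coprime (Nat.card (Y.subgroupOf Γ₀)) := by
    intro Y
    exact Nat.Coprime.coprime_dvd_left hAdvd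
      (Nat.Coprime.coprime_dvd_right (Subgroup.card_subgroup_dvd_card (Y.subgroupOf Γ₀)) hcop)
  have hUn' : ∀ e ∈ E.subgroupOf Γ₀, ∀ u ∈ U.subgroupOf Γ₀,
      e * u * e⁻¹ ∈ U.subgroupOf Γ₀ :=
    fun e he u hu => Subgroup.mem_subgroupOf.mpr
      (hUn e (Subgroup.mem_subgroupOf.mp he) u (Subgroup.mem_subgroupOf.mp hu))
  have hfpf' : ∀ e ∈ E.subgroupOf Γ₀, e ≠ 1 → ∀ u ∈ U.subgroupOf Γ₀,
      e * u = u * e → u = 1 :=
    fun e he he1 u hu hc => Subtype.ext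
      (hfpf e (Subgroup.mem_subgroupOf.mp he) (fun h => he1 (Subtype.ext h)) u
        (Subgroup.mem_subgroupOf.mp hu) (congrArg Subtype.val hc))
  have hE1' : E.subgroupOf Γ₀ ≠ ⊥ := by
    intro hbot
    obtain ⟨e, he, he1⟩ : ∃ e ∈ E, e ≠ 1 := by
      by_contra hcon
      push_neg at hcon
      exact hE1 ((Subgroup.eq_bot_iff_forall E).mpr hcon)
    have h1 : (⟨e, hEΓ he⟩ : Γ₀) ∈ E.subgroupOf Γ₀ := Subgroup.mem_subgroupOf.mpr he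
    rw [hbot, Subgroup.mem_bot] at h1
    exact he1 (congrArg Subtype.val h1)
  have hnil' : Group.IsNilpotent ↥(U.subgroupOf Γ₀) :=
    frob_nil (U.subgroupOf Γ₀) (E.subgroupOf Γ₀) hE1' hUn' hfpf'
  have hgU := glue_card H N Γ₀ U π hπmul hπsurj hπker hπeq hNH hΓH hUΓ hcop hsolv
  have hfixU : fixIn (U.subgroupOf Γ₀) (⊤ : AddSubgroup A) = ⊥ := by
    apply AddSubgroup.eq_bot_of_card_eq
    rw [hCU, Subgroup.card_bot] at hgU
    exact Nat.dvd_one.mp (Dvd.intro_left _ hgU.symm)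
  have hfreeU : ∀ v ∈ (⊤ : AddSubgroup A), (∀ u ∈ U.subgroupOf Γ₀, u • v = v) → v = 0 := by
    intro v _ hv
    have h1 : v ∈ fixIn (U.subgroupOf Γ₀) (⊤ : AddSubgroup A) :=
      mem_fixIn.mpr ⟨AddSubgroup.mem_top _, hv⟩
    rw [hfixU, AddSubgroup.mem_bot] at h1
    exact h1
  have hcycA := glue_cyc H N Γ₀ E π hπmul hπsurj hπker hπeq hNH hΓH hEΓ hcop hsolv hcyc
  have hab := ab_comm (U.subgroupOf Γ₀) (E.subgroupOf Γ₀) hUn' hfpf' hnil' (hcA U) (hcA E) _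
    (E.subgroupOf Γ₀) le_rfl (⊤ : AddSubgroup A) rfl (fun _ _ _ _ => AddSubgroup.mem_top _)
    (fun _ _ _ _ => AddSubgroup.mem_top _) hfreeU hcycA
  have hπ1 : π 1 = 0 := by
    have h := hπmul 1 1
    rw [mul_one] at h
    have h' : π 1 + π 1 = π 1 + 0 := by rw [add_zero]; exact h.symm
    exact add_left_cancel h'
  have hπinv : ∀ a : H, π a⁻¹ = -π a := by
    intro a
    have h := hπmul a a⁻¹
    rw [mul_inv_cancel, hπ1] at h
    exact eq_neg_of_add_eq_zero_right h.symm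
  intro u hu u' hu' h hh
  obtain ⟨c, hc⟩ : ∃ c : X, c = u * u' * u⁻¹ * u'⁻¹ := ⟨_, rfl⟩
  rw [← hc]
  have hcΓ : c ∈ Γ₀ := by
    rw [hc]
    exact Γ₀.mul_mem (Γ₀.mul_mem (Γ₀.mul_mem (hUΓ hu) (hUΓ hu')) (Γ₀.inv_mem (hUΓ hu)))
      (Γ₀.inv_mem (hUΓ hu'))
  have hcA' : ∀ a : A, (⟨c, hcΓ⟩ : Γ₀) • a = a := by
    intro a
    have h1 := hab ⟨u, hUΓ hu⟩ (Subgroup.mem_subgroupOf.mpr hu) ⟨u', hUΓ hu'⟩
      (Subgroup.mem_subgroupOf.mpr hu')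
      ((⟨u, hUΓ hu⟩ : Γ₀)⁻¹ • (⟨u', hUΓ hu'⟩ : Γ₀)⁻¹ • a) (AddSubgroup.mem_top _)
    rw [smul_inv_smul, smul_inv_smul] at h1
    have h2 : (⟨c, hcΓ⟩ : Γ₀) = (⟨u, hUΓ hu⟩ : Γ₀) * ⟨u', hUΓ hu'⟩ * (⟨u, hUΓ hu⟩ : Γ₀)⁻¹
        * (⟨u', hUΓ hu'⟩ : Γ₀)⁻¹ := Subtype.ext hc
    rw [h2, mul_smul, mul_smul, mul_smul]
    exact h1
  have hIH' : ∀ n ∈ N, c * n = n * c := by
    intro n hn
    rw [hc]
    exact hIH u hu u' hu' n hn
  have hchH : c * h * c⁻¹ ∈ H := hΓH c hcΓ h hh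
  obtain ⟨d, hd'⟩ : ∃ d : X, d = c * h * c⁻¹ * h⁻¹ := ⟨_, rfl⟩
  have hd : d ∈ N := by
    have h2 : π ⟨c * h * c⁻¹, hchH⟩ = (⟨c, hcΓ⟩ : Γ₀) • π ⟨h, hh⟩ :=
      hπeq ⟨c, hcΓ⟩ ⟨h, hh⟩ hchH
    rw [hcA'] at h2
    have h1 : π (⟨c * h * c⁻¹, hchH⟩ * (⟨h, hh⟩ : H)⁻¹) = 0 := by
      rw [hπmul, hπinv, h2, add_neg_cancel]
    rw [hd']
    exact (hπker _).mp h1
  have hcd : c * d = d * c := hIH' d hd
  have hpow : ∀ k : ℕ, c ^ k * h * (c ^ k)⁻¹ = d ^ k * h := by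
    intro k
    induction k with
    | zero => simp
    | succ k ih =>
      have hcdk : c * d ^ k = d ^ k * c :=
        (Commute.pow_right (show Commute c d from hcd) k).eq
      have e1 : c ^ (k + 1) * h * (c ^ (k + 1))⁻¹ = c * (c ^ k * h * (c ^ k)⁻¹) * c⁻¹ := by
        rw [pow_succ']
        generalize c ^ k = a
        group
      have e2 : c * (d ^ k * h) * c⁻¹ = (c * d ^ k) * (h * c⁻¹) := by
        generalize d ^ k = D
        group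
      have e3 : (d ^ k * c) * (h * c⁻¹) = d ^ k * (c * h * c⁻¹ * h⁻¹) * h := by
        generalize d ^ k = D
        group
      rw [e1, ih, e2, hcdk, e3, ← hd', pow_succ]
  have hk := hpow (orderOf c)
  rw [pow_orderOf_eq_one, one_mul, inv_one, mul_one] at hk
  have hdk : d ^ orderOf c = 1 :=
    mul_right_cancel (show d ^ orderOf c * h = 1 * h by rw [one_mul]; exact hk.symm)
  have hd1 : orderOf d ∣ orderOf c := orderOf_dvd_of_pow_eq_one hdk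
  have hcΓord : orderOf c ∣ Nat.card Γ₀ := by
    have h1 := orderOf_dvd_natCard (⟨c, hcΓ⟩ : Γ₀)
    rwa [← Subgroup.orderOf_coe] at h1
  have hdH : orderOf d ∣ Nat.card H := by
    have h1 := orderOf_dvd_natCard (⟨d, hNH hd⟩ : H)
    rwa [← Subgroup.orderOf_coe] at h1
  have hd2 : orderOf d = 1 :=
    (Nat.Coprime.coprime_dvd_left hdH hcop).eq_one_of_dvd (hd1.trans hcΓord)
  have hd3 : d = 1 := orderOf_eq_one_iff.mp hd2
  have h5 : c * h = (c * h * c⁻¹ * h⁻¹) * h * c := by group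
  rw [← hd', hd3, one_mul] at h5
  exact h5

/-- `[U, U]` centralizes `H`, by induction on `|H|`. -/
theorem comm_main {X : Type*} [Group X] [Finite X] (U E : Subgroup X) (hE1 : E ≠ ⊥)
    (hUn : ∀ e ∈ E, ∀ u ∈ U, e * u * e⁻¹ ∈ U)
    (hfpf : ∀ e ∈ E, e ≠ 1 → ∀ u ∈ U, e * u = u * e → u = 1) :
    ∀ (n : ℕ) (H : Subgroup X), Nat.card H = n →
      (∀ x ∈ U ⊔ E, ∀ h ∈ H, x * h * x⁻¹ ∈ H) → Group.IsSolvable H →
      Nat.Coprime (Nat.card H) (Nat.card ↥(U ⊔ E)) →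
      H ⊓ Subgroup.centralizer (U : Set X) = ⊥ →
      IsCyclic ↥(H ⊓ Subgroup.centralizer (E : Set X)) →
      ∀ u ∈ U, ∀ u' ∈ U, ∀ h ∈ H,
        (u * u' * u⁻¹ * u'⁻¹) * h = h * (u * u' * u⁻¹ * u'⁻¹) := by
  intro n
  induction n using Nat.strong_induction_on with
  | _ n IH =>
  intro H hHn hHnorm hsolv hcop hCU hcyc
  by_cases hH : H = ⊥
  · intro u _ u' _ h hh
    rw [hH, Subgroup.mem_bot] at hh
    rw [hh, mul_one, one_mul]
  obtain ⟨Γ₀, hΓ₀⟩ : ∃ Γ₀ : Subgroup X, Γ₀ = U ⊔ E := ⟨_, rfl⟩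
  have hHnorm' : ∀ x ∈ Γ₀, ∀ h ∈ H, x * h * x⁻¹ ∈ H := by rw [hΓ₀]; exact hHnorm
  have hcop' : (Nat.card H).Coprime (Nat.card Γ₀) := by rw [hΓ₀]; exact hcop
  obtain ⟨N, hN⟩ : ∃ N : Subgroup X, N = abN H := ⟨_, rfl⟩
  have hNH : N ≤ H := by rw [hN]; exact abN_le H
  have hNlt : N < H := by rw [hN]; exact abN_lt H hsolv hH
  have hNnorm : ∀ x ∈ U ⊔ E, ∀ n ∈ N, x * n * x⁻¹ ∈ N := by
    intro x hx n hn
    rw [hN] at hn ⊢
    exact abN_conj H (U ⊔ E) hHnorm x hx n hn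
  haveI := hsolv
  have hNsolv : Group.IsSolvable N :=
    Group.isSolvable_of_isSolvable_injective (Subgroup.inclusion_injective hNH)
  have hNcard : Nat.card N < n := by
    rw [← hHn]
    exact lt_of_le_of_ne (Subgroup.card_le_of_le hNH)
      (fun h => hNlt.ne (Subgroup.eq_of_le_of_card_ge hNH h.ge))
  have hNcop : Nat.Coprime (Nat.card N) (Nat.card ↥(U ⊔ E)) :=
    Nat.Coprime.coprime_dvd_left (Subgroup.card_dvd_of_le hNH) hcop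
  have hNCU : N ⊓ Subgroup.centralizer (U : Set X) = ⊥ := by
    rw [eq_bot_iff, ← hCU]
    exact inf_le_inf_right _ hNH
  haveI := hcyc
  have hNcyc : IsCyclic ↥(N ⊓ Subgroup.centralizer (E : Set X)) :=
    Subgroup.isCyclic_of_le (H' := H ⊓ Subgroup.centralizer (E : Set X))
      (inf_le_inf_right _ hNH)
  have hIH := IH (Nat.card N) hNcard N rfl hNnorm hNsolv hNcop hNCU hNcyc
  have hker : ∀ a : H, abPi H a = 0 ↔ (a : X) ∈ N := fun a => by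
    rw [hN]; exact abPi_ker H a
  have hcardHN : Nat.card H = Nat.card N * Nat.card (Additive (Abelianization H)) := by
    rw [hN]; exact abN_card H
  exact @comm_step X _ _ U E H N Γ₀ hΓ₀ hE1 hUn hfpf (Additive (Abelianization H)) _
    (abAct H Γ₀ hHnorm') (abPi H) (abPi_mul H) (abPi_surj H) hker
    (fun g a hm => abPi_conj H Γ₀ hHnorm' g a hm) hNH hHnorm' hcop' hNsolv hcardHN hCU hcyc hIH

end Cfsg.Agent.Helper7.Frob
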