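import Mathlib
import Cfsg.Agent.Helper7.Hup
import Cfsg.Agent.S0638
import Cfsg.Agent.S0026
import Cfsg.Agent.S0027
import Cfsg.Agent.S0055

set_option autoImplicit false
open Cfsg
open scoped commutatorElement

/-! # Coprime action on metacyclic `p`-groups, `p` odd -/

namespace Cfsg.Agent.Helper7.MetaCop

universe u v

/-- Trace argument: if every `y⁻¹ * act a y` lies in `Z ⊇ R'` and `R` is generated by the
elements `x⁻¹ * act a x`, then `y ^ |A| ∈ Z`. -/
theorem fix_mem {R : Type*} [Group R] {A : Type*} [Group A] [Fintype A]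
    (act : A → (R →* R)) (hmul : ∀ a b x, act (a * b) x = act a (act b x))
    (Z : Subgroup R) (hZ : commutator R ≤ Z)
    (hgen : Subgroup.closure {g : R | ∃ a x, g = x⁻¹ * act a x} = ⊤)
    (y : R) (hy : ∀ a, y⁻¹ * act a y ∈ Z) : y ^ Fintype.card A ∈ Z := by
  classical
  obtain ⟨τ, hτ⟩ : ∃ τ : R →* Abelianization R,
      ∀ x, τ x = ∏ a : A, Abelianization.of (act a x) :=
    ⟨∏ a : A, (Abelianization.of.comp (act a)), fun x => by
      simp only [MonoidHom.finsetProd_apply, MonoidHom.comp_apply]⟩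
  have h1 : ∀ b x, τ (act b x) = τ x := by
    intro b x
    rw [hτ, hτ]
    exact Fintype.prod_equiv (Equiv.mulRight b) _ _ (fun a => by
      show Abelianization.of (act a (act b x)) = Abelianization.of (act (a * b) x)
      rw [hmul])
  have h2 : ∀ g : R, τ g = 1 := by
    have hle : Subgroup.closure {g : R | ∃ a x, g = x⁻¹ * act a x} ≤ τ.ker := by
      rw [Subgroup.closure_le]
      rintro g ⟨b, x, rfl⟩
      show x⁻¹ * act b x ∈ τ.ker
      rw [MonoidHom.mem_ker, map_mul, map_inv, h1, inv_mul_cancel]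
    intro g
    exact MonoidHom.mem_ker.mp (hle (by rw [hgen]; exact Subgroup.mem_top g))
  have h3 : τ y = Abelianization.of y ^ Fintype.card A *
      ∏ a : A, Abelianization.of (y⁻¹ * act a y) := by
    rw [hτ]
    have e1 : (∏ a : A, Abelianization.of (act a y)) =
        ∏ a : A, (Abelianization.of y * Abelianization.of (y⁻¹ * act a y)) :=
      Finset.prod_congr rfl (fun a _ => by rw [← map_mul, mul_inv_cancel_left])
    rw [e1, Finset.prod_mul_distrib, Finset.prod_const, Finset.card_univ]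
  have h4 : ∏ a : A, Abelianization.of (y⁻¹ * act a y) ∈ Z.map Abelianization.of :=
    Subgroup.prod_mem _ (fun a _ => Subgroup.mem_map_of_mem _ (hy a))
  obtain ⟨z, hz, hzeq⟩ := Subgroup.mem_map.mp h4
  have h5 : Abelianization.of (y ^ Fintype.card A * z) = 1 := by
    rw [map_mul, map_pow, hzeq, ← h3, h2]
  have h6 : y ^ Fintype.card A * z ∈ commutator R := by
    rw [← Abelianization.ker_of R]; exact MonoidHom.mem_ker.mpr h5
  have h7 := Z.mul_mem (hZ h6) (Z.inv_mem hz)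
  rwa [mul_inv_cancel_right] at h7

theorem act_quot {R : Type*} [Group R] {A : Type*} (act : A → (R →* R)) (N : Subgroup R)
    [N.Normal] (hN : ∀ a, ∀ x ∈ N, act a x ∈ N) :
    ∃ act' : A → (R ⧸ N →* R ⧸ N),
      ∀ a x, act' a (QuotientGroup.mk' N x) = QuotientGroup.mk' N (act a x) :=
  ⟨fun a => QuotientGroup.map N N (act a) (fun x hx => hN a x hx), fun _ _ => rfl⟩

theorem card_le_sq {R : Type*} [Group R] [Finite R] {p : ℕ} (hp0 : 0 < p) {a b : R}
    (hMC : Cfsg.Agent.Helper8.Meta.MC a b) (N : Subgroup R) [N.Normal] (ha : a ^ p ∈ N)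
    (hb : b ^ p ∈ N) : Nat.card R ≤ p * p * Nat.card N := by
  have ha1 : (QuotientGroup.mk' N a) ^ p = 1 := by
    rw [← map_pow]; exact Cfsg.Agent.Helper8.Meta.map_eq_one_of_mem N ha
  have hb1 : (QuotientGroup.mk' N b) ^ p = 1 := by
    rw [← map_pow]; exact Cfsg.Agent.Helper8.Meta.map_eq_one_of_mem N hb
  have hsurj : Function.Surjective (fun ij : Fin p × Fin p =>
      (QuotientGroup.mk' N a) ^ (ij.1 : ℕ) * (QuotientGroup.mk' N b) ^ (ij.2 : ℕ)) := by
    intro q
    obtain ⟨g, rfl⟩ := QuotientGroup.mk'_surjective N q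
    obtain ⟨i, j, rfl⟩ := hMC.gen g
    refine ⟨(⟨i % p, Nat.mod_lt _ hp0⟩, ⟨j % p, Nat.mod_lt _ hp0⟩), ?_⟩
    show (QuotientGroup.mk' N a) ^ (i % p) * (QuotientGroup.mk' N b) ^ (j % p) = _
    rw [map_mul, map_pow, map_pow, ← pow_eq_pow_mod i ha1, ← pow_eq_pow_mod j hb1]
  have h1 := Nat.card_le_card_of_surjective _ hsurj
  rw [Nat.card_prod, Nat.card_fin] at h1
  have h2 : Nat.card R = Nat.card (R ⧸ N) * Nat.card N :=
    Subgroup.card_eq_card_quotient_mul_card_subgroup N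
  rw [h2]
  exact Nat.mul_le_mul_right _ h1

theorem cm_mem {R : Type*} [Group R] (x y : R) : x * y * x⁻¹ * y⁻¹ ∈ commutator R := by
  have h := Cfsg.Agent.Helper8.Meta.comm_mem_commutator x y
  rwa [commutatorElement_def] at h

theorem comm_of_cm_eq_one {R : Type*} [Group R] {x y : R} (h : x * y * x⁻¹ * y⁻¹ = 1) :
    x * y = y * x := by
  have h2 : x * y = (x * y * x⁻¹ * y⁻¹) * (y * x) := by group
  rw [h2, h, one_mul]

theorem cm_eq_one_of_comm {R : Type*} [Group R] {x y : R} (h : x * y = y * x) :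
    x * y * x⁻¹ * y⁻¹ = 1 := by
  rw [h]; group

theorem comm_of_cm_eq {R : Type*} [Group R] {u v w : R}
    (h : v * w * v⁻¹ * w⁻¹ = u * w * u⁻¹ * w⁻¹) : (u⁻¹ * v) * w = w * (u⁻¹ * v) := by
  have h2 : (u⁻¹ * v) * w = u⁻¹ * (v * w * v⁻¹ * w⁻¹) * (w * v) := by group
  rw [h2, h]; group

theorem cm_mul_left {R : Type*} [Group R]
    (hc1 : ∀ g ∈ commutator R, ∀ x : R, x * g = g * x) (x x' y : R) :
    (x * x') * y * (x * x')⁻¹ * y⁻¹ = (x * y * x⁻¹ * y⁻¹) * (x' * y * x'⁻¹ * y⁻¹) := by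
  have hg := hc1 _ (cm_mem x' y)
  have e : x * x' * y * (x * x')⁻¹ * y⁻¹ = x * (x' * y * x'⁻¹ * y⁻¹) * y * x⁻¹ * y⁻¹ := by
    group
  rw [e, hg x, hg (x * y * x⁻¹ * y⁻¹)]
  simp only [mul_assoc]

theorem cm_mul_right {R : Type*} [Group R]
    (hc1 : ∀ g ∈ commutator R, ∀ x : R, x * g = g * x) (x y y' : R) :
    x * (y * y') * x⁻¹ * (y * y')⁻¹ = (x * y * x⁻¹ * y⁻¹) * (x * y' * x⁻¹ * y'⁻¹) := by
  have hg := hc1 _ (cm_mem x y')
  have e : x * (y * y') * x⁻¹ * (y * y')⁻¹ =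
      x * y * x⁻¹ * ((x * y' * x⁻¹ * y'⁻¹) * y⁻¹) := by
    group
  rw [e, ← hg y⁻¹]
  simp only [mul_assoc]

theorem cm_pow_left {R : Type*} [Group R]
    (hc1 : ∀ g ∈ commutator R, ∀ x : R, x * g = g * x) (x y : R) (n : ℕ) :
    x ^ n * y * (x ^ n)⁻¹ * y⁻¹ = (x * y * x⁻¹ * y⁻¹) ^ n := by
  induction n with
  | zero => simp
  | succ n ih => rw [pow_succ x, cm_mul_left hc1, ih, pow_succ (x * y * x⁻¹ * y⁻¹)]

theorem cm_pow_right {R : Type*} [Group R]
    (hc1 : ∀ g ∈ commutator R, ∀ x : R, x * g = g * x) (x y : R) (n : ℕ) :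
    x * y ^ n * x⁻¹ * (y ^ n)⁻¹ = (x * y * x⁻¹ * y⁻¹) ^ n := by
  induction n with
  | zero => simp
  | succ n ih => rw [pow_succ y, cm_mul_right hc1, ih, pow_succ (x * y * x⁻¹ * y⁻¹)]

theorem pow_central {R : Type*} [Group R] {p : ℕ}
    (hc1 : ∀ g ∈ commutator R, ∀ x : R, x * g = g * x) (hcp : ∀ g ∈ commutator R, g ^ p = 1)
    (x y : R) : x ^ p * y = y * x ^ p :=
  comm_of_cm_eq_one (by rw [cm_pow_left hc1, hcp _ (cm_mem x y)])

theorem pow_inj_of {G : Type*} [Group G] {p d : ℕ} (hp1 : 1 < p) (hd : Nat.Coprime d p)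
    {g₁ g₂ : G} (h1 : g₁ ^ p = 1) (h2 : g₂ ^ p = 1) (h : g₁ ^ d = g₂ ^ d) : g₁ = g₂ := by
  obtain ⟨m, -, hm⟩ := Nat.exists_mul_mod_eq_one_of_coprime hd hp1
  have e1 : g₁ ^ (d * m) = g₁ := by rw [pow_eq_pow_mod (d * m) h1, hm, pow_one]
  have e2 : g₂ ^ (d * m) = g₂ := by rw [pow_eq_pow_mod (d * m) h2, hm, pow_one]
  calc g₁ = g₁ ^ (d * m) := e1.symm
    _ = (g₁ ^ d) ^ m := pow_mul _ _ _
    _ = (g₂ ^ d) ^ m := by rw [h]
    _ = g₂ ^ (d * m) := (pow_mul _ _ _).symm
    _ = g₂ := e2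

theorem key {R : Type*} [Group R] {p : ℕ} (hp1 : 1 < p)
    (hc1 : ∀ g ∈ commutator R, ∀ x : R, x * g = g * x) (hcp : ∀ g ∈ commutator R, g ^ p = 1)
    (α : R →* R) (d : ℕ) (hα : ∀ g ∈ commutator R, α g = g ^ d) (hd : Nat.Coprime d p)
    (u w κ : R) (hw : α w = w ^ d * κ) (hκ : α u * κ = κ * α u) :
    α u * w * (α u)⁻¹ * w⁻¹ = u * w * u⁻¹ * w⁻¹ := by
  have e1 : α (u * w * u⁻¹ * w⁻¹) = (u * w * u⁻¹ * w⁻¹) ^ d := hα _ (cm_mem u w)
  have e2 : α (u * w * u⁻¹ * w⁻¹) = α u * α w * (α u)⁻¹ * (α w)⁻¹ := by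
    simp only [map_mul, map_inv]
  have e3 : α u * α w * (α u)⁻¹ * (α w)⁻¹ = (α u * w * (α u)⁻¹ * w⁻¹) ^ d := by
    rw [hw, cm_mul_right hc1, cm_pow_right hc1, cm_eq_one_of_comm hκ, mul_one]
  exact pow_inj_of hp1 hd (hcp _ (cm_mem _ _)) (hcp _ (cm_mem _ _)) (by rw [← e3, ← e2, e1])

theorem cent_card {R : Type*} [Group R] [Finite R] {p : ℕ} [Fact p.Prime] (hR : IsPGroup p R)
    (t : R) (ht : t ∉ Subgroup.center R) :
    p * Nat.card (Subgroup.center R) ≤ Nat.card ↥(Subgroup.center R ⊔ Subgroup.zpowers t) ∧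
    Subgroup.center R ⊔ Subgroup.zpowers t ≤ Subgroup.centralizer {t} ∧
    p * Nat.card ↥(Subgroup.centralizer ({t} : Set R)) ≤ Nat.card R := by
  have hne1 : Subgroup.center R ≠ Subgroup.center R ⊔ Subgroup.zpowers t := by
    intro h
    apply ht
    have h' : t ∈ Subgroup.center R ⊔ Subgroup.zpowers t :=
      Subgroup.mem_sup_right (Subgroup.mem_zpowers t)
    rwa [← h] at h'
  have hne2 : Subgroup.centralizer ({t} : Set R) ≠ ⊤ := by
    intro h
    apply ht
    rw [Subgroup.mem_center_iff]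
    intro g
    have hg : g ∈ Subgroup.centralizer ({t} : Set R) := by rw [h]; exact Subgroup.mem_top g
    exact Subgroup.mem_centralizer_singleton_iff.mp hg
  refine ⟨Cfsg.Agent.S0128.lt_card hR _ _ le_sup_left hne1, ?_, ?_⟩
  · refine sup_le (Subgroup.center_le_centralizer _) (Subgroup.zpowers_le.mpr ?_)
    exact Subgroup.mem_centralizer_singleton_iff.mpr rfl
  · have h := Cfsg.Agent.S0128.lt_card hR (Subgroup.centralizer ({t} : Set R)) ⊤ le_top hne2
    rwa [Subgroup.card_top] at h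

theorem cent_eq {R : Type*} [Group R] [Finite R] {p : ℕ} [Fact p.Prime] (hR : IsPGroup p R)
    (hcard : Nat.card R ≤ p * p * Nat.card (Subgroup.center R))
    (t : R) (ht : t ∉ Subgroup.center R) (H : Subgroup R) (hZH : Subgroup.center R ≤ H)
    (htH : t ∈ H) (hH : Nat.card H ≤ p * Nat.card (Subgroup.center R)) :
    H = Subgroup.centralizer {t} := by
  have hp0 : 0 < p := (Fact.out : p.Prime).pos
  obtain ⟨h1, h2, h3⟩ := cent_card hR t ht
  have hKH : Subgroup.center R ⊔ Subgroup.zpowers t ≤ H :=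
    sup_le hZH (Subgroup.zpowers_le.mpr htH)
  have e1 : Subgroup.center R ⊔ Subgroup.zpowers t = H :=
    Subgroup.eq_of_le_of_card_ge hKH (le_trans hH h1)
  have h4 : Nat.card ↥(Subgroup.centralizer ({t} : Set R)) ≤
      p * Nat.card (Subgroup.center R) := by
    have h5 : p * Nat.card ↥(Subgroup.centralizer ({t} : Set R)) ≤
        p * (p * Nat.card (Subgroup.center R)) := by
      rw [← mul_assoc]; exact le_trans h3 hcard
    exact Nat.le_of_mul_le_mul_left h5 hp0
  have e2 : Subgroup.center R ⊔ Subgroup.zpowers t = Subgroup.centralizer {t} :=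
    Subgroup.eq_of_le_of_card_ge h2 (le_trans h4 h1)
  exact e1.symm.trans e2

theorem exists_N1 (R : Type*) [Group R] (p : ℕ) :
    ∃ N : Subgroup R, ∀ g, g ∈ N ↔ (∀ x : R, x * g = g * x) ∧ g ^ p = 1 :=
  ⟨{ carrier := {g | (∀ x : R, x * g = g * x) ∧ g ^ p = 1}
     mul_mem' := fun {g h} hg hh => ⟨fun x => by
         rw [← mul_assoc, hg.1 x, mul_assoc, hh.1 x, mul_assoc],
       by rw [(show Commute g h from hh.1 g).mul_pow, hg.2, hh.2, mul_one]⟩
     one_mem' := ⟨fun x => by rw [mul_one, one_mul], one_pow p⟩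
     inv_mem' := fun {g} hg => ⟨fun x => ((show Commute x g from hg.1 x).inv_right).eq,
       by rw [inv_pow, hg.2, inv_one]⟩ }, fun g => Iff.rfl⟩

/-- Main abstract statement: a metacyclic `p`-group (`p` odd) generated by the elements
`x⁻¹ * act a x` for a coprime action is commutative. -/
theorem abel_of_comm_eq (p : ℕ) [Fact p.Prime] (hp2 : p ≠ 2) {A : Type v} [Group A] [Fintype A]
    (hcop : (Fintype.card A).Coprime p) :
    ∀ n : ℕ, ∀ (R : Type u) [Group R] [Finite R], Nat.card R = n → IsPGroup p R →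
      Cfsg.IsMetacyclic R → ∀ act : A → (R →* R),
      (∀ a b x, act (a * b) x = act a (act b x)) → (∀ x, act 1 x = x) →
      Subgroup.closure {g : R | ∃ a x, g = x⁻¹ * act a x} = ⊤ → ∀ x y : R, x * y = y * x := by
  intro n
  induction n using Nat.strong_induction_on with
  | _ n ih =>
    intro R _ _ hn hR hm act hmul hone hgen
    by_contra hcon
    push Not at hcon
    obtain ⟨x₀, y₀', hxy⟩ := hcon
    classical
    have hpp : p.Prime := Fact.out
    have hp0 : 0 < p := hpp.pos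
    have hp1 : 1 < p := hpp.one_lt
    obtain ⟨a, b, hMC⟩ := Cfsg.Agent.Helper8.Meta.exists_MC hm
    have hinv : ∀ (s : A) (x : R), act s⁻¹ (act s x) = x := fun s x => by
      rw [← hmul, inv_mul_cancel, hone]
    have hinv' : ∀ (s : A) (x : R), act s (act s⁻¹ x) = x := fun s x => by
      rw [← hmul, mul_inv_cancel, hone]
    have hinj : ∀ (s : A) (x : R), act s x = 1 → x = 1 := fun s x h => by
      have h' := hinv s x
      rw [h, map_one] at h'
      exact h'.symm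
    -- invariant normal subgroups contain all commutators
    have hstep : ∀ N : Subgroup R, N.Normal → N ≠ ⊥ → (∀ s, ∀ x ∈ N, act s x ∈ N) →
        ∀ x y : R, x * y * x⁻¹ * y⁻¹ ∈ N := by
      intro N hN hNbot hNinv x y
      haveI := hN
      obtain ⟨act', hact'⟩ := act_quot act N hNinv
      have hlt : Nat.card (R ⧸ N) < n := by
        have h2 : Nat.card R = Nat.card (R ⧸ N) * Nat.card N :=
          Subgroup.card_eq_card_quotient_mul_card_subgroup N
        have h3 : 1 < Nat.card N := by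
          by_contra h
          exact hNbot (Subgroup.eq_bot_of_card_le N (not_lt.mp h))
        have h4 : 0 < Nat.card (R ⧸ N) := Nat.card_pos
        rw [← hn, h2]
        exact lt_mul_of_one_lt_right h4 h3
      have hQ : IsPGroup p (R ⧸ N) := hR.to_quotient N
      have hmQ : Cfsg.IsMetacyclic (R ⧸ N) :=
        Cfsg.Agent.Helper7.PU.metacyclic_of_MC (hMC.quot N)
      have hmul' : ∀ s t q, act' (s * t) q = act' s (act' t q) := by
        intro s t q
        obtain ⟨g, rfl⟩ := QuotientGroup.mk'_surjective N q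
        rw [hact', hact', hact', hmul]
      have hone' : ∀ q, act' 1 q = q := by
        intro q
        obtain ⟨g, rfl⟩ := QuotientGroup.mk'_surjective N q
        rw [hact', hone]
      have hgen' : Subgroup.closure {g : R ⧸ N | ∃ s q, g = q⁻¹ * act' s q} = ⊤ := by
        rw [eq_top_iff]
        intro q _
        obtain ⟨g, rfl⟩ := QuotientGroup.mk'_surjective N q
        have hg : g ∈ Subgroup.closure {g : R | ∃ a x, g = x⁻¹ * act a x} := by
          rw [hgen]; exact Subgroup.mem_top g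
        have hle : Subgroup.closure {g : R | ∃ a x, g = x⁻¹ * act a x} ≤
            (Subgroup.closure {g : R ⧸ N | ∃ s q, g = q⁻¹ * act' s q}).comap
              (QuotientGroup.mk' N) := by
          rw [Subgroup.closure_le]
          rintro g ⟨s, x, rfl⟩
          show QuotientGroup.mk' N (x⁻¹ * act s x) ∈
            Subgroup.closure {g : R ⧸ N | ∃ s q, g = q⁻¹ * act' s q}
          refine Subgroup.subset_closure ⟨s, QuotientGroup.mk' N x, ?_⟩
          rw [hact', map_mul, map_inv]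
        exact hle hg
      have hab := ih _ hlt (R ⧸ N) rfl hQ hmQ act' hmul' hone' hgen'
      have e : QuotientGroup.mk' N (x * y * x⁻¹ * y⁻¹) = 1 := by
        simp only [map_mul, map_inv]
        rw [hab (QuotientGroup.mk' N x) (QuotientGroup.mk' N y), mul_inv_cancel_right,
          mul_inv_cancel]
      exact Cfsg.Agent.Helper8.Meta.mem_of_map_eq_one N e
    -- the central elements of order dividing p
    have hRnt : (⊤ : Subgroup R) ≠ ⊥ := by
      intro h
      apply hxy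
      have h1 : ∀ g : R, g = 1 := fun g => by
        have hg : g ∈ (⊤ : Subgroup R) := Subgroup.mem_top g
        rw [h] at hg
        exact Subgroup.mem_bot.mp hg
      rw [h1 x₀, h1 y₀']
    obtain ⟨z₀, -, hz₀1, hz₀p, hz₀c⟩ := Cfsg.Agent.Helper7.PU.exists_central_p hR ⊤ hRnt
    obtain ⟨N₁, hN₁⟩ := exists_N1 R p
    have hN₁n : N₁.Normal := ⟨fun n hn g => by
      rw [((hN₁ n).mp hn).1 g, mul_inv_cancel_right]; exact hn⟩
    have hN₁bot : N₁ ≠ ⊥ := fun h => hz₀1 (by
      have hz : z₀ ∈ N₁ := (hN₁ z₀).mpr ⟨hz₀c, hz₀p⟩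
      rw [h] at hz
      exact Subgroup.mem_bot.mp hz)
    have hN₁inv : ∀ s, ∀ x ∈ N₁, act s x ∈ N₁ := by
      intro s x hx
      obtain ⟨hx1, hx2⟩ := (hN₁ x).mp hx
      refine (hN₁ _).mpr ⟨fun g => ?_, by rw [← map_pow, hx2, map_one]⟩
      rw [← hinv' s g, ← map_mul, ← map_mul, hx1]
    have hcN : ∀ x y : R, x * y * x⁻¹ * y⁻¹ ∈ N₁ := hstep N₁ hN₁n hN₁bot hN₁inv
    have hcomm_le : commutator R ≤ N₁ := by
      rw [_root_.commutator_def, Subgroup.commutator_le]
      intro x _ y _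
      rw [commutatorElement_def]
      exact hcN x y
    have hc1 : ∀ g ∈ commutator R, ∀ x : R, x * g = g * x :=
      fun g hg => ((hN₁ g).mp (hcomm_le hg)).1
    have hcp : ∀ g ∈ commutator R, g ^ p = 1 := fun g hg => ((hN₁ g).mp (hcomm_le hg)).2
    have hpab : ∀ x y : R, (x * y) ^ p = x ^ p * y ^ p := fun x y =>
      Cfsg.Agent.Helper7.PU.pab_of hpp hp2 (commutator R) hc1 hcp x y (cm_mem _ _)
    have hk : ∀ k : ℕ, ∀ x y : R, (x * y) ^ (p ^ k) = x ^ (p ^ k) * y ^ (p ^ k) := by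
      intro k
      induction k with
      | zero => intro x y; simp
      | succ k ihk =>
        intro x y
        have e : ∀ z : R, z ^ (p ^ (k + 1)) = (z ^ (p ^ k)) ^ p := fun z => by
          rw [pow_succ p k, pow_mul]
        rw [e, e, e, ihk, hpab]
    -- the exponent
    obtain ⟨m, hm⟩ := IsPGroup.iff_card.mp hR
    have hex : ∃ K : ℕ, ∀ x : R, x ^ (p ^ K) = 1 :=
      ⟨m, fun x => by rw [← hm]; exact pow_card_eq_one'⟩
    obtain ⟨K, hK, hKmin⟩ : ∃ K : ℕ, (∀ x : R, x ^ (p ^ K) = 1) ∧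
        ∀ j < K, ¬ ∀ x : R, x ^ (p ^ j) = 1 :=
      ⟨Nat.find hex, Nat.find_spec hex, fun j hj => Nat.find_min hex hj⟩
    have hK0 : K ≠ 0 := by
      rintro rfl
      apply hxy
      have h1 : ∀ g : R, g = 1 := fun g => by simpa using hK g
      rw [h1 x₀, h1 y₀']
    obtain ⟨k, rfl⟩ : ∃ k, K = k + 1 := Nat.exists_eq_succ_of_ne_zero hK0
    have hkne : ∃ x : R, x ^ (p ^ k) ≠ 1 := by
      have h := hKmin k (Nat.lt_succ_self k)
      push Not at h
      exact h
    obtain ⟨ψ, hψ⟩ : ∃ ψ : R →* R, ∀ x, ψ x = x ^ (p ^ k) :=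
      ⟨{ toFun := fun x => x ^ (p ^ k), map_one' := one_pow _, map_mul' := hk k }, fun x => rfl⟩
    have hψact : ∀ (s : A) (x : R), ψ (act s x) = act s (ψ x) := by
      intro s x
      rw [hψ, hψ, map_pow]
    have hrn : ψ.range.Normal := ⟨fun n hn g => by
      obtain ⟨x, rfl⟩ := MonoidHom.mem_range.mp hn
      exact MonoidHom.mem_range.mpr ⟨g * x * g⁻¹, by rw [hψ, hψ, conj_pow]⟩⟩
    have hrbot : ψ.range ≠ ⊥ := by
      intro h
      obtain ⟨x, hx⟩ := hkne
      apply hx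
      have hx' : ψ x ∈ ψ.range := MonoidHom.mem_range.mpr ⟨x, rfl⟩
      rw [h, Subgroup.mem_bot, hψ] at hx'
      exact hx'
    have hrinv : ∀ s, ∀ x ∈ ψ.range, act s x ∈ ψ.range := by
      intro s x hx
      obtain ⟨x', rfl⟩ := MonoidHom.mem_range.mp hx
      exact MonoidHom.mem_range.mpr ⟨act s x', hψact s x'⟩
    have hcR : ∀ x y : R, x * y * x⁻¹ * y⁻¹ ∈ ψ.range := hstep ψ.range hrn hrbot hrinv
    -- the commutator of the generators
    obtain ⟨c, hcdef⟩ : ∃ c : R, c = a * b * a⁻¹ * b⁻¹ := ⟨_, rfl⟩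
    have hcc : c ∈ commutator R := by rw [hcdef]; exact cm_mem a b
    have hc_ne : c ≠ 1 := by
      intro h
      rw [hcdef] at h
      have hAB : Commute a b := comm_of_cm_eq_one h
      apply hxy
      obtain ⟨i, j, rfl⟩ := hMC.gen x₀
      obtain ⟨i', j', rfl⟩ := hMC.gen y₀'
      exact (Commute.mul_left
        (Commute.mul_right ((Commute.refl a).pow_pow i i') (hAB.pow_pow i j'))
        (Commute.mul_right (hAB.symm.pow_pow j i') ((Commute.refl b).pow_pow j j'))).eq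
    have hcgen : ∀ g ∈ commutator R, ∃ e : ℕ, c ^ e = g := by
      intro g hg
      rw [Cfsg.Agent.Helper8.Meta.MC.commutator_eq hR hMC, commutatorElement_def, ← hcdef] at hg
      exact Cfsg.Agent.Helper8.Meta.exists_pow_of_mem_zpowers hg
    have hcr : c ∈ ψ.range := by rw [hcdef]; exact hcR a b
    obtain ⟨y₀, hy₀⟩ := MonoidHom.mem_range.mp hcr
    have hpc : ∀ x y : R, x ^ p * y = y * x ^ p := pow_central hc1 hcp
    have hpZ : ∀ x : R, x ^ p ∈ Subgroup.center R := fun x =>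
      Subgroup.mem_center_iff.mpr (fun g => (hpc x g).symm)
    have hS1 : Nat.card R ≤ p * p * Nat.card (Subgroup.center R) :=
      card_le_sq hp0 hMC (Subgroup.center R) (hpZ a) (hpZ b)
    have ha_nc : a ∉ Subgroup.center R := fun h => hc_ne (by
      rw [hcdef]
      exact cm_eq_one_of_comm ((Subgroup.mem_center_iff.mp h b).symm))
    have hlow : p * p * Nat.card (Subgroup.center R) ≤ Nat.card R := by
      obtain ⟨h1, h2, h3⟩ := cent_card hR a ha_nc
      calc p * p * Nat.card (Subgroup.center R)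
          = p * (p * Nat.card (Subgroup.center R)) := mul_assoc _ _ _
        _ ≤ p * Nat.card ↥(Subgroup.center R ⊔ Subgroup.zpowers a) :=
            Nat.mul_le_mul_left p h1
        _ ≤ p * Nat.card ↥(Subgroup.centralizer ({a} : Set R)) :=
            Nat.mul_le_mul_left p (Subgroup.card_le_of_le h2)
        _ ≤ Nat.card R := h3
    have hker_pow : ∀ x : R, x ^ p ∈ ψ.ker := fun x => by
      rw [MonoidHom.mem_ker, hψ, ← pow_mul, ← pow_succ']
      exact hK x
    have hZker : Subgroup.center R ≤ ψ.ker := by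
      have h1 := card_le_sq hp0 hMC (ψ.ker ⊓ Subgroup.center R)
        (Subgroup.mem_inf.mpr ⟨hker_pow a, hpZ a⟩) (Subgroup.mem_inf.mpr ⟨hker_pow b, hpZ b⟩)
      have h2 : p * p * Nat.card (Subgroup.center R) ≤
          p * p * Nat.card ↥(ψ.ker ⊓ Subgroup.center R) := le_trans hlow h1
      have h3 : Nat.card (Subgroup.center R) ≤ Nat.card ↥(ψ.ker ⊓ Subgroup.center R) :=
        Nat.le_of_mul_le_mul_left h2 (Nat.mul_pos hp0 hp0)
      have h4 : ψ.ker ⊓ Subgroup.center R = Subgroup.center R :=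
        Subgroup.eq_of_le_of_card_ge inf_le_right h3
      intro z hz
      rw [← h4] at hz
      exact (Subgroup.mem_inf.mp hz).1
    have hker_top : ψ.ker ≠ ⊤ := by
      intro h
      obtain ⟨x, hx⟩ := hkne
      apply hx
      have hx' : x ∈ ψ.ker := by rw [h]; exact Subgroup.mem_top x
      rw [MonoidHom.mem_ker, hψ] at hx'
      exact hx'
    have hy₀ker : y₀ ∉ ψ.ker := fun h => hc_ne (by
      rw [← hy₀]; exact MonoidHom.mem_ker.mp h)
    have hα : ∀ s : A, ∃ d : ℕ, d.Coprime p ∧ (∀ g ∈ commutator R, act s g = g ^ d) ∧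
        ∃ κ ∈ ψ.ker, act s y₀ = y₀ ^ d * κ := by
      intro s
      have h1 : act s c ∈ commutator R := by
        rw [hcdef]
        simp only [map_mul, map_inv]
        exact cm_mem _ _
      obtain ⟨d, hd⟩ := hcgen _ h1
      have hdcop : d.Coprime p := by
        refine ((Nat.Prime.coprime_iff_not_dvd hpp).mpr ?_).symm
        rintro ⟨e, rfl⟩
        rw [pow_mul, hcp c hcc, one_pow] at hd
        exact hc_ne (hinj s c hd.symm)
      refine ⟨d, hdcop, ?_, (y₀ ^ d)⁻¹ * act s y₀, ?_, ?_⟩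
      · intro g hg
        obtain ⟨e, rfl⟩ := hcgen g hg
        rw [map_pow, ← hd, ← pow_mul, ← pow_mul, mul_comm]
      · rw [MonoidHom.mem_ker, map_mul, map_inv, map_pow, hψact, hy₀, ← hd, inv_mul_cancel]
      · rw [mul_inv_cancel_left]
    have hkey : ∀ (s : A) (u : R), (∀ κ ∈ ψ.ker, act s u * κ = κ * act s u) →
        (u⁻¹ * act s u) * y₀ = y₀ * (u⁻¹ * act s u) := by
      intro s u hu
      obtain ⟨d, hdcop, hdα, κ, hκ, hκeq⟩ := hα s
      exact comm_of_cm_eq (key hp1 hc1 hcp (act s) d hdα hdcop u y₀ κ hκeq (hu κ hκ))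
    by_cases hcase : ψ.ker ≤ Subgroup.center R
    · have hle : Subgroup.closure {g : R | ∃ a x, g = x⁻¹ * act a x} ≤
          Subgroup.centralizer {y₀} := by
        rw [Subgroup.closure_le]
        rintro g ⟨s, u, rfl⟩
        show u⁻¹ * act s u ∈ Subgroup.centralizer {y₀}
        exact Subgroup.mem_centralizer_singleton_iff.mpr
          (hkey s u (fun κ hκ => Subgroup.mem_center_iff.mp (hcase hκ) _))
      have hy₀Z : y₀ ∈ Subgroup.center R := Subgroup.mem_center_iff.mpr (fun g => by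
        have hg : g ∈ Subgroup.centralizer ({y₀} : Set R) :=
          hle (by rw [hgen]; exact Subgroup.mem_top g)
        exact Subgroup.mem_centralizer_singleton_iff.mp hg)
      exact hy₀ker (hZker hy₀Z)
    · obtain ⟨y, hyker, hyZ⟩ := SetLike.not_le_iff_exists.mp hcase
      have hkercard : Nat.card ψ.ker ≤ p * Nat.card (Subgroup.center R) := by
        have h1 := Cfsg.Agent.S0128.lt_card hR ψ.ker ⊤ le_top hker_top
        rw [Subgroup.card_top] at h1
        have h2 : p * Nat.card ψ.ker ≤ p * (p * Nat.card (Subgroup.center R)) := by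
          rw [← mul_assoc]; exact le_trans h1 hS1
        exact Nat.le_of_mul_le_mul_left h2 hp0
      have hkc : ∀ t ∈ ψ.ker, t ∉ Subgroup.center R → ψ.ker = Subgroup.centralizer {t} :=
        fun t ht htZ => cent_eq hR hS1 t htZ ψ.ker hZker ht hkercard
      have hkab : ∀ t₁ ∈ ψ.ker, ∀ t₂ ∈ ψ.ker, t₁ * t₂ = t₂ * t₁ := by
        intro t₁ h1 t₂ h2
        by_cases hZ1 : t₁ ∈ Subgroup.center R
        · exact (Subgroup.mem_center_iff.mp hZ1 t₂).symm
        · have h3 : t₂ ∈ Subgroup.centralizer ({t₁} : Set R) := by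
            rw [← hkc t₁ h1 hZ1]; exact h2
          exact (Subgroup.mem_centralizer_singleton_iff.mp h3).symm
      have hkinv : ∀ (s : A), ∀ x ∈ ψ.ker, act s x ∈ ψ.ker := fun s x hx => by
        rw [MonoidHom.mem_ker, hψact, MonoidHom.mem_ker.mp hx, map_one]
      have hyfix : ∀ s : A, y⁻¹ * act s y ∈ Subgroup.center R := by
        intro s
        by_contra hw
        have hwker : y⁻¹ * act s y ∈ ψ.ker :=
          ψ.ker.mul_mem (ψ.ker.inv_mem hyker) (hkinv s y hyker)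
        have h1 := hkc _ hwker hw
        have h2 := hkey s y (fun κ hκ => hkab _ (hkinv s y hyker) κ hκ)
        apply hy₀ker
        rw [h1]
        exact Subgroup.mem_centralizer_singleton_iff.mpr h2.symm
      have hcZ : commutator R ≤ Subgroup.center R :=
        fun g hg => Subgroup.mem_center_iff.mpr (hc1 g hg)
      have hfix := fix_mem act hmul (Subgroup.center R) hcZ hgen y hyfix
      have hyq : (QuotientGroup.mk' (Subgroup.center R) y) ^ (Fintype.card A).gcd p = 1 :=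
        pow_gcd_eq_one.mpr
          ⟨by rw [← map_pow]; exact Cfsg.Agent.Helper8.Meta.map_eq_one_of_mem _ hfix,
           by rw [← map_pow]; exact Cfsg.Agent.Helper8.Meta.map_eq_one_of_mem _ (hpZ y)⟩
      rw [Nat.Coprime.gcd_eq_one hcop, pow_one] at hyq
      exact hyZ (Cfsg.Agent.Helper8.Meta.mem_of_map_eq_one _ hyq)

/-! ## Back to subgroups of an ambient group -/

theorem le_norm_of_conj {G : Type*} [Group G] {H K : Subgroup G}
    (h : ∀ n ∈ K, ∀ t ∈ H, n * t * n⁻¹ ∈ H) : K ≤ Subgroup.normalizer (H : Set G) := by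
  intro n hn
  rw [Subgroup.mem_normalizer_iff]
  intro t
  refine ⟨fun ht => h n hn t ht, fun ht => ?_⟩
  have h' := h n⁻¹ (K.inv_mem hn) _ ht
  have e : n⁻¹ * (n * t * n⁻¹) * n⁻¹⁻¹ = t := by group
  rwa [e] at h'

theorem comm_normalized_left {G : Type*} [Group G] (R A : Subgroup G) :
    R ≤ Subgroup.normalizer ((⁅R, A⁆ : Subgroup G) : Set G) := by
  refine le_norm_of_conj (fun r' hr' k hk => ?_)
  have hle : ⁅R, A⁆ ≤ (⁅R, A⁆ : Subgroup G).comap (MulAut.conj r').toMonoidHom := by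
    rw [Subgroup.commutator_le]
    intro r hr a ha
    show (MulAut.conj r') ⁅r, a⁆ ∈ ⁅R, A⁆
    have e : (MulAut.conj r') ⁅r, a⁆ = ⁅r' * r, a⁆ * ⁅r', a⁆⁻¹ := by
      rw [commutatorElement_def, commutatorElement_def, commutatorElement_def,
        MulAut.conj_apply]
      group
    rw [e]
    exact Subgroup.mul_mem _ (Subgroup.commutator_mem_commutator (R.mul_mem hr' hr) ha)
      (Subgroup.inv_mem _ (Subgroup.commutator_mem_commutator hr' ha))
  have h3 : (MulAut.conj r') k ∈ ⁅R, A⁆ := hle hk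
  rwa [MulAut.conj_apply] at h3

theorem comm_normalized_right {G : Type*} [Group G] (R A : Subgroup G)
    (hA : A ≤ Subgroup.normalizer (R : Set G)) :
    A ≤ Subgroup.normalizer ((⁅R, A⁆ : Subgroup G) : Set G) := by
  refine le_norm_of_conj (fun a ha k hk => ?_)
  have hle : ⁅R, A⁆ ≤ (⁅R, A⁆ : Subgroup G).comap (MulAut.conj a).toMonoidHom := by
    rw [Subgroup.commutator_le]
    intro r hr b hb
    show (MulAut.conj a) ⁅r, b⁆ ∈ ⁅R, A⁆
    have e : (MulAut.conj a) ⁅r, b⁆ = ⁅a * r * a⁻¹, a * b * a⁻¹⁆ := by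
      rw [commutatorElement_def, commutatorElement_def, MulAut.conj_apply]
      group
    rw [e]
    exact Subgroup.commutator_mem_commutator
      ((Subgroup.mem_normalizer_iff.mp (hA ha) r).mp hr)
      (A.mul_mem (A.mul_mem ha hb) (A.inv_mem ha))
  have h3 : (MulAut.conj a) k ∈ ⁅R, A⁆ := hle hk
  rwa [MulAut.conj_apply] at h3

theorem exists_conj_act {G : Type*} [Group G] (K A : Subgroup G)
    (hAK : A ≤ Subgroup.normalizer (K : Set G)) :
    ∃ act : A → (K →* K), ∀ (s : A) (x : K),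
      ((act s x : K) : G) = (s : G) * (x : G) * (s : G)⁻¹ :=
  ⟨fun s =>
    { toFun := fun x => ⟨(s : G) * (x : G) * (s : G)⁻¹,
        ((Subgroup.mem_normalizer_iff.mp (hAK s.2)) (x : G)).mp x.2⟩
      map_one' := Subtype.ext (by
        show (s : G) * ((1 : K) : G) * (s : G)⁻¹ = ((1 : K) : G)
        rw [Subgroup.coe_one, mul_one, mul_inv_cancel])
      map_mul' := fun x y => Subtype.ext (by
        show (s : G) * ((x : G) * (y : G)) * (s : G)⁻¹ =
          ((s : G) * (x : G) * (s : G)⁻¹) * ((s : G) * (y : G) * (s : G)⁻¹)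
        group) }, fun _ _ => rfl⟩

theorem closure_of_comm {G : Type*} [Group G] (K A : Subgroup G) (act : A → (K →* K))
    (hact : ∀ (s : A) (x : K), ((act s x : K) : G) = (s : G) * (x : G) * (s : G)⁻¹)
    (h : ⁅K, A⁆ = K) : Subgroup.closure {g : K | ∃ s x, g = x⁻¹ * act s x} = ⊤ := by
  have hle : ⁅K, A⁆ ≤ (Subgroup.closure {g : K | ∃ s x, g = x⁻¹ * act s x}).map K.subtype := by
    rw [Subgroup.commutator_le]
    intro k hk a ha
    refine Subgroup.mem_map.mpr
      ⟨(⟨k⁻¹, K.inv_mem hk⟩ : K)⁻¹ * act ⟨a, ha⟩ ⟨k⁻¹, K.inv_mem hk⟩,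
        Subgroup.subset_closure ⟨⟨a, ha⟩, ⟨k⁻¹, K.inv_mem hk⟩, rfl⟩, ?_⟩
    rw [commutatorElement_def]
    show (((⟨k⁻¹, K.inv_mem hk⟩ : K)⁻¹ * act ⟨a, ha⟩ ⟨k⁻¹, K.inv_mem hk⟩ : K) : G) =
      k * a * k⁻¹ * a⁻¹
    rw [Subgroup.coe_mul, hact, Subgroup.coe_inv]
    show (k⁻¹)⁻¹ * (a * k⁻¹ * a⁻¹) = k * a * k⁻¹ * a⁻¹
    group
  rw [eq_top_iff]
  intro x _
  have hx : (x : G) ∈ ⁅K, A⁆ := by rw [h]; exact x.2
  obtain ⟨y, hy, hyx⟩ := Subgroup.mem_map.mp (hle hx)
  have hyx' : y = x := Subtype.ext hyx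
  rw [← hyx']
  exact hy

theorem meta_of_injective {H : Type*} {R : Type*} [Group H] [Group R] (f : H →* R)
    (hf : Function.Injective f) (hm : Cfsg.IsMetacyclic R) : Cfsg.IsMetacyclic H := by
  obtain ⟨N, hN, hNc, hQc⟩ := hm
  haveI := hN
  haveI := hNc
  haveI := hQc
  haveI hNf : (N.comap f).Normal := hN.comap f
  refine ⟨N.comap f, hNf, ?_, ?_⟩
  · exact isCyclic_of_injective (f.subgroupComap N)
      (fun a b h => Subtype.ext (hf (by have h' := congrArg Subtype.val h; exact h')))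
  · refine isCyclic_of_injective (QuotientGroup.map (N.comap f) N f le_rfl) ?_
    rw [injective_iff_map_eq_one]
    intro q hq
    obtain ⟨h, rfl⟩ := QuotientGroup.mk'_surjective (N.comap f) q
    have h1 : QuotientGroup.mk' N (f h) = 1 := hq
    have h2 : f h ∈ N := Cfsg.Agent.Helper8.Meta.mem_of_map_eq_one N h1
    exact Cfsg.Agent.Helper8.Meta.map_eq_one_of_mem (N.comap f) h2

theorem omega_le_of_noncyclic {Q : Type u} [Group Q] [Finite Q] {p : ℕ} [Fact p.Prime]
    (hp2 : p ≠ 2) (hQ : IsPGroup p Q) (W₀ : Subgroup Q) (hW₀card : Nat.card W₀ = p ^ 2)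
    (hW : ∀ x : Q, x ^ p = 1 → x ∈ W₀) (H : Subgroup Q) (hH : ¬ IsCyclic H) : W₀ ≤ H := by
  have hpp : p.Prime := Fact.out
  have h1 : ¬ Nat.card {x : H // x ^ p = 1} ≤ p := fun h =>
    hH (Cfsg.Agent.Helper7.PU.lemU p hp2 _ H rfl (hQ.to_subgroup H) h)
  have h2 : Nat.card {x : H // x ^ p = 1} ≤ Nat.card ↥(W₀ ⊓ H) :=
    Nat.card_le_card_of_injective
      (fun k : {x : H // x ^ p = 1} => (⟨(k.1 : Q), Subgroup.mem_inf.mpr ⟨hW _ (by
        have h' := congrArg Subtype.val k.2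
        simpa using h'), k.1.2⟩⟩ : ↥(W₀ ⊓ H)))
      (fun a b h => Subtype.ext (Subtype.ext (by have h' := congrArg Subtype.val h; exact h')))
  by_contra hle
  have hne : W₀ ⊓ H ≠ W₀ := fun h => hle (by rw [← h]; exact inf_le_right)
  have h3 := Cfsg.Agent.S0128.lt_card hQ (W₀ ⊓ H) W₀ inf_le_left hne
  rw [hW₀card, pow_two] at h3
  have h4 : Nat.card ↥(W₀ ⊓ H) ≤ p := Nat.le_of_mul_le_mul_left h3 hpp.pos
  exact h1 (le_trans h2 h4)

theorem cyclic_of_inf_bot {G : Type*} [Group G] {p : ℕ} (R : Subgroup G) (hR : IsPGroup p R)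
    (W₀ : Subgroup R) (hW : ∀ x : R, x ^ p = 1 → x ∈ W₀)
    (hWle : ∀ H : Subgroup R, ¬ IsCyclic H → W₀ ≤ H)
    (X Y : Subgroup G) (hXR : X ≤ R) (hYR : Y ≤ R) (hXY : X ⊓ Y = ⊥) (hY : Y ≠ ⊥) :
    IsCyclic X := by
  by_contra hXnc
  have h1 : ¬ IsCyclic ↥(X.subgroupOf R) := fun h => hXnc (by
    haveI := h
    exact isCyclic_of_surjective (Subgroup.subgroupOfEquivOfLe hXR)
      (Subgroup.subgroupOfEquivOfLe hXR).surjective)
  have h2 := hWle _ h1
  obtain ⟨z, hz, hz1⟩ : ∃ z ∈ Y, z ≠ 1 := by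
    by_contra h
    exact hY ((Subgroup.eq_bot_iff_forall Y).mpr
      (fun x hx => by by_contra hx1; exact h ⟨x, hx, hx1⟩))
  have hz1' : (⟨z, hYR hz⟩ : R) ≠ 1 := fun h =>
    hz1 (by have h' := congrArg Subtype.val h; exact h')
  obtain ⟨j, hj1, hj2⟩ := Cfsg.Agent.S0093.exists_pow_order_p hR (⟨z, hYR hz⟩ : R) hz1'
  have h3 : (⟨z, hYR hz⟩ : R) ^ p ^ j ∈ X.subgroupOf R := h2 (hW _ hj2)
  have h4 : z ^ p ^ j ∈ X := by
    have h' := Subgroup.mem_subgroupOf.mp h3
    simpa using h'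
  have h5 : z ^ p ^ j ∈ X ⊓ Y := Subgroup.mem_inf.mpr ⟨h4, Y.pow_mem hz _⟩
  rw [hXY, Subgroup.mem_bot] at h5
  exact hj1 (Subtype.ext (by simpa using h5))

theorem comm_le_of_sup {G : Type*} [Group G] (R K C : Subgroup G) (hKR : K ≤ R) (hCR : C ≤ R)
    (hsup : K ⊔ C = R) (hRK : R ≤ Subgroup.normalizer (K : Set G))
    (hCc : ∀ x ∈ C, ∀ y ∈ C, x * y = y * x) : ⁅R, R⁆ ≤ K := by
  haveI hN : (K.subgroupOf R).Normal :=
    (Subgroup.normal_subgroupOf_iff_le_normalizer hKR).mpr hRK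
  have htop : K.subgroupOf R ⊔ C.subgroupOf R = ⊤ := by
    rw [← Subgroup.subgroupOf_sup hKR hCR, hsup, Subgroup.subgroupOf_self]
  have hdec : ∀ x : R, ∃ d : R, (d : G) ∈ C ∧
      QuotientGroup.mk' (K.subgroupOf R) x = QuotientGroup.mk' (K.subgroupOf R) d := by
    intro x
    have hx : x ∈ (K.subgroupOf R ⊔ C.subgroupOf R : Subgroup R) := by
      rw [htop]; exact Subgroup.mem_top x
    have hx' : x ∈ ((K.subgroupOf R ⊔ C.subgroupOf R : Subgroup R) : Set R) := hx
    rw [Subgroup.normal_mul] at hx'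
    obtain ⟨n, hn, d, hd, rfl⟩ := Set.mem_mul.mp hx'
    have hn' : n ∈ K.subgroupOf R := hn
    have hd' : d ∈ C.subgroupOf R := hd
    refine ⟨d, Subgroup.mem_subgroupOf.mp hd', ?_⟩
    rw [map_mul, Cfsg.Agent.Helper8.Meta.map_eq_one_of_mem _ hn', one_mul]
  rw [Subgroup.commutator_le]
  intro x hx y hy
  obtain ⟨d₁, hd₁, e₁⟩ := hdec ⟨x, hx⟩
  obtain ⟨d₂, hd₂, e₂⟩ := hdec ⟨y, hy⟩
  have hdd : d₁ * d₂ = d₂ * d₁ := Subtype.ext (hCc _ hd₁ _ hd₂)
  have h1 : QuotientGroup.mk' (K.subgroupOf R)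
      ((⟨x, hx⟩ : R) * ⟨y, hy⟩ * (⟨x, hx⟩ : R)⁻¹ * (⟨y, hy⟩ : R)⁻¹) = 1 := by
    simp only [map_mul, map_inv]
    rw [e₁, e₂, ← map_mul, hdd, map_mul, mul_inv_cancel_right, mul_inv_cancel]
  have h2 := Cfsg.Agent.Helper8.Meta.mem_of_map_eq_one _ h1
  have h3 := Subgroup.mem_subgroupOf.mp h2
  rw [commutatorElement_def]
  exact h3

theorem comm_abelian {G : Type u} [Group G] [Finite G] (p : ℕ) [Fact p.Prime] (hp : p ≠ 2)
    (K A : Subgroup G) (hK : IsPGroup p K) (hKm : Cfsg.IsMetacyclic K)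
    (hAK : A ≤ Subgroup.normalizer (K : Set G)) (hcop : (Nat.card A).Coprime p)
    (hKK : ⁅K, A⁆ = K) : ∀ x y : K, x * y = y * x := by
  classical
  haveI : Fintype ↥A := Fintype.ofFinite _
  have hcopA : (Fintype.card ↥A).Coprime p := by
    rw [← Nat.card_eq_fintype_card]; exact hcop
  obtain ⟨act, hact⟩ := exists_conj_act K A hAK
  have hmulA : ∀ (s t : ↥A) (x : ↥K), act (s * t) x = act s (act t x) := by
    intro s t x
    apply Subtype.ext
    rw [hact, hact, hact, Subgroup.coe_mul]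
    group
  have honeA : ∀ x : ↥K, act 1 x = x := by
    intro x
    apply Subtype.ext
    rw [hact, Subgroup.coe_one]
    group
  exact abel_of_comm_eq p hp hcopA _ ↥K rfl hK hKm act hmulA honeA
    (closure_of_comm K A act hact hKK)

end Cfsg.Agent.Helper7.MetaCop
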