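-- helper7: parabolic characteristic p passes to suitable normal subgroups
import Mathlib
import Cfsg.Prelude.Def_LocalStructure
import Cfsg.Prelude.Def_PLocal
import Cfsg.Agent.Helper7.CharP
import Cfsg.Agent.Helper7.ParChar

set_option autoImplicit false

namespace Cfsg.Agent.Helper7

universe u

theorem coe_mem_normalizer_map {G : Type*} [Group G] {G₁ : Subgroup G} (R₁ : Subgroup ↥G₁)
    (y : ↥G₁) (hy : y ∈ Subgroup.normalizer (R₁ : Set ↥G₁)) :
    (y : G) ∈ Subgroup.normalizer ((R₁.map G₁.subtype : Subgroup G) : Set G) := by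
  rw [Subgroup.mem_normalizer_iff] at hy ⊢
  intro n
  constructor
  · intro hn
    have hn' : n ∈ R₁.map G₁.subtype := hn
    obtain ⟨r, hr, rfl⟩ := hn'
    show _ ∈ R₁.map G₁.subtype
    exact Subgroup.mem_map.mpr ⟨y * r * y⁻¹, (hy r).mp hr, rfl⟩
  · intro hn
    have hn' : (y : G) * n * (y : G)⁻¹ ∈ R₁.map G₁.subtype := hn
    obtain ⟨r, hr, hrn⟩ := hn'
    show _ ∈ R₁.map G₁.subtype
    refine Subgroup.mem_map.mpr ⟨y⁻¹ * r * y, ?_, ?_⟩
    · apply (hy (y⁻¹ * r * y)).mpr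
      have e : y * (y⁻¹ * r * y) * y⁻¹ = r := by group
      rw [e]; exact hr
    · have h1 : (G₁.subtype (y⁻¹ * r * y)) = (y : G)⁻¹ * (G₁.subtype r) * (y : G) := rfl
      rw [h1, hrn]; group

theorem mem_normalizer_of_coe {G : Type*} [Group G] {G₁ : Subgroup G} (R₁ : Subgroup ↥G₁)
    (y : ↥G₁) (hy : (y : G) ∈ Subgroup.normalizer ((R₁.map G₁.subtype : Subgroup G) : Set G)) :
    y ∈ Subgroup.normalizer (R₁ : Set ↥G₁) := by
  rw [Subgroup.mem_normalizer_iff] at hy ⊢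
  intro n
  have h1 := hy (n : G)
  have e1 : G₁.subtype n ∈ (R₁.map G₁.subtype) ↔ n ∈ R₁ :=
    Subgroup.mem_map_iff_mem (Subgroup.subtype_injective G₁)
  have e2 : G₁.subtype (y * n * y⁻¹) ∈ (R₁.map G₁.subtype) ↔ y * n * y⁻¹ ∈ R₁ :=
    Subgroup.mem_map_iff_mem (Subgroup.subtype_injective G₁)
  exact e1.symm.trans (h1.trans e2)

/-- `N_{G₁}(R₁) ≅ N_G(R₁) ∩ G₁`. -/
def normalizerSubtypeEquiv {G : Type*} [Group G] (G₁ : Subgroup G) (R₁ : Subgroup ↥G₁) :
    ↥(Subgroup.normalizer (R₁ : Set ↥G₁)) ≃*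
      ↥(Subgroup.normalizer ((R₁.map G₁.subtype : Subgroup G) : Set G) ⊓ G₁) where
  toFun y := ⟨((y : ↥G₁) : G), ⟨coe_mem_normalizer_map R₁ y.1 y.2, (y : ↥G₁).2⟩⟩
  invFun x := ⟨⟨(x : G), x.2.2⟩, mem_normalizer_of_coe R₁ ⟨(x : G), x.2.2⟩ x.2.1⟩
  left_inv _ := rfl
  right_inv _ := rfl
  map_mul' _ _ := rfl

/-- If `G` has parabolic characteristic `p`, `G₁ ⊴ G` and `Ω₁(Z(S ∩ G₁)) ≤ Ω₁(Z(S))`, then `G₁`
has parabolic characteristic `p`. -/
theorem parabolicChar_normal {G : Type u} [Group G] [Finite G] {p : ℕ} [Fact p.Prime]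
    (hG : Cfsg.IsOfParabolicCharacteristic p G) (S : Sylow p G) (G₁ : Subgroup G)
    [hG₁ : G₁.Normal]
    (hle : Cfsg.omegaOne p (((S : Subgroup G) ⊓ G₁) ⊓
        Subgroup.centralizer (((S : Subgroup G) ⊓ G₁ : Subgroup G) : Set G)) ≤
      Cfsg.omegaOne p ((S : Subgroup G) ⊓ Subgroup.centralizer ((S : Subgroup G) : Set G))) :
    Cfsg.IsOfParabolicCharacteristic p ↥G₁ := by
  intro R₁ hR₁ hR₁1 hpar
  obtain ⟨T₁, hT₁⟩ := hpar
  have hR₁T : R₁ ≤ (T₁ : Subgroup ↥G₁) := by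
    have hsup : IsPGroup p ↥(R₁ ⊔ (T₁ : Subgroup ↥G₁)) :=
      IsPGroup.to_sup_of_normal_left' hR₁ T₁.isPGroup' hT₁
    have h := T₁.is_maximal' hsup le_sup_right
    rw [← h]; exact le_sup_left
  obtain ⟨z, hzR, hzo, hzc⟩ := exists_central_orderOf_of_normal_pgroup p
    (T₁ : Subgroup ↥G₁) R₁ T₁.isPGroup' hR₁T hT₁ hR₁1
  have hT₁'p : IsPGroup p ↥((T₁ : Subgroup ↥G₁).map G₁.subtype) := T₁.isPGroup'.map _
  obtain ⟨P, hP⟩ := hT₁'p.exists_le_sylow
  obtain ⟨g, hg⟩ := MulAction.exists_smul_eq G S P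
  have hPG : ∀ x : G, x ∈ (P : Subgroup G) → ∀ hx : x ∈ G₁,
      (⟨x, hx⟩ : ↥G₁) ∈ (T₁ : Subgroup ↥G₁) := by
    intro x hxP hx
    have hQ : IsPGroup p ↥((P : Subgroup G).subgroupOf G₁) := P.isPGroup'.comap_subtype
    have hle' : (T₁ : Subgroup ↥G₁) ≤ (P : Subgroup G).subgroupOf G₁ := by
      intro t ht
      exact Subgroup.mem_subgroupOf.mpr (hP (Subgroup.mem_map_of_mem _ ht))
    have h := T₁.is_maximal' hQ hle'
    have hx' : (⟨x, hx⟩ : ↥G₁) ∈ (P : Subgroup G).subgroupOf G₁ :=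
      Subgroup.mem_subgroupOf.mpr hxP
    rw [h] at hx'
    exact hx'
  have hz'P : (z : G) ∈ (P : Subgroup G) := hP (Subgroup.mem_map_of_mem _ (hR₁T hzR))
  have hz''S : g⁻¹ * (z : G) * g ∈ (S : Subgroup G) := sylow_smul_mem S P g hg (z : G) hz'P
  have hz''G : g⁻¹ * (z : G) * g ∈ G₁ := by
    have := hG₁.conj_mem (z : G) z.2 g⁻¹
    rw [inv_inv] at this
    exact this
  have hz''c : g⁻¹ * (z : G) * g ∈
      Subgroup.centralizer (((S : Subgroup G) ⊓ G₁ : Subgroup G) : Set G) := by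
    rw [Subgroup.mem_centralizer_iff]
    intro s hs
    have hs' : s ∈ (S : Subgroup G) ⊓ G₁ := hs
    have hg' : g⁻¹ • P = S := by rw [← hg, inv_smul_smul]
    have h1 : g * s * g⁻¹ ∈ (P : Subgroup G) := by
      have := sylow_smul_mem P S g⁻¹ hg' s hs'.1
      rwa [inv_inv] at this
    have h2 : g * s * g⁻¹ ∈ G₁ := hG₁.conj_mem s hs'.2 g
    have h3 := hPG _ h1 h2
    have h4 := Subgroup.mem_centralizer_iff.mp hzc _ h3
    have h5 : g * s * g⁻¹ * (z : G) = (z : G) * (g * s * g⁻¹) := congrArg Subtype.val h4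
    calc s * (g⁻¹ * (z : G) * g) = g⁻¹ * (g * s * g⁻¹ * (z : G)) * g := by group
      _ = g⁻¹ * ((z : G) * (g * s * g⁻¹)) * g := by rw [h5]
      _ = g⁻¹ * (z : G) * g * s := by group
  have hzp : (z : G) ^ p = 1 := by
    have h1 : z ^ p = 1 := by rw [← hzo]; exact pow_orderOf_eq_one z
    have h2 : ((z ^ p : ↥G₁) : G) = 1 := by rw [h1]; rfl
    rw [← h2]; rfl
  have hz''p : (g⁻¹ * (z : G) * g) ^ p = 1 := by
    have h1 := conj_pow (a := g⁻¹) (b := (z : G)) (i := p)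
    rw [inv_inv] at h1
    rw [h1, hzp]; group
  have hz''Z : g⁻¹ * (z : G) * g ∈
      (S : Subgroup G) ⊓ Subgroup.centralizer ((S : Subgroup G) : Set G) := by
    have h1 : g⁻¹ * (z : G) * g ∈ Cfsg.omegaOne p (((S : Subgroup G) ⊓ G₁) ⊓
        Subgroup.centralizer (((S : Subgroup G) ⊓ G₁ : Subgroup G) : Set G)) :=
      Subgroup.subset_closure ⟨⟨⟨hz''S, hz''G⟩, hz''c⟩, hz''p⟩
    have h2 := hle h1
    have h3 : Cfsg.omegaOne p ((S : Subgroup G) ⊓
        Subgroup.centralizer ((S : Subgroup G) : Set G)) ≤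
        (S : Subgroup G) ⊓ Subgroup.centralizer ((S : Subgroup G) : Set G) := by
      show Subgroup.closure _ ≤ _
      rw [Subgroup.closure_le]
      intro x hx
      exact hx.1
    exact h3 h2
  generalize hw : g⁻¹ * (z : G) * g = w at hz''S hz''G hz''c hz''p hz''Z
  have hzw : (z : G) = g * w * g⁻¹ := by rw [← hw]; group
  have hw1 : w ≠ 1 := by
    intro h
    rw [h] at hzw
    have hz1 : (z : G) = 1 := by rw [hzw]; group
    have hz1' : z = 1 := Subtype.ext hz1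
    rw [hz1', orderOf_one] at hzo
    exact (Fact.out : p.Prime).one_lt.ne hzo
  have hwo : orderOf w = p := orderOf_eq_prime hz''p hw1
  have hRp : IsPGroup p ↥(Subgroup.zpowers w) := by
    apply IsPGroup.of_card (n := 1)
    rw [Nat.card_zpowers, hwo, pow_one]
  have hRne : Subgroup.zpowers w ≠ ⊥ := fun h => hw1 (Subgroup.zpowers_eq_bot.mp h)
  have hSN : (S : Subgroup G) ≤
      Subgroup.normalizer ((Subgroup.zpowers w : Subgroup G) : Set G) := by
    intro s hs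
    exact mem_normalizer_zpowers_of_comm w s (Subgroup.mem_centralizer_iff.mp hz''Z.2 s hs).symm
  have h1 := hG _ hRp hRne ⟨S, hSN⟩
  have h2 := generalizedFitting_eq_pCore_of_centralizer_le p h1
  have h3 := generalizedFitting_centralizer_of_normalizer p (Subgroup.zpowers w) h2
  have h3' := generalizedFitting_eq_pCore_of_mulEquiv p
    (MulEquiv.subgroupCongr (centralizer_zpowers_eq w)) h3
  have h4 := generalizedFitting_centralizer_conj p w g h3'
  have hcz : Subgroup.centralizer ({g * w * g⁻¹} : Set G) =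
      Subgroup.centralizer ({(z : G)} : Set G) := by rw [hzw]
  have h4' := generalizedFitting_eq_pCore_of_mulEquiv p (MulEquiv.subgroupCongr hcz) h4
  have hDn : ((G₁ ⊓ Subgroup.centralizer ({(z : G)} : Set G)).subgroupOf
      (Subgroup.centralizer ({(z : G)} : Set G))).Normal := by
    rw [Subgroup.inf_subgroupOf_right]; infer_instance
  have h5 := generalizedFitting_eq_pCore_of_normal p h4'
    ((G₁ ⊓ Subgroup.centralizer ({(z : G)} : Set G)).subgroupOf
      (Subgroup.centralizer ({(z : G)} : Set G)))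
  have h6 := generalizedFitting_eq_pCore_of_mulEquiv p (Subgroup.subgroupOfEquivOfLe
    (inf_le_right : G₁ ⊓ Subgroup.centralizer ({(z : G)} : Set G) ≤
      Subgroup.centralizer ({(z : G)} : Set G))) h5
  have hR'p : IsPGroup p ↥(R₁.map G₁.subtype) := hR₁.map _
  have hR'H : R₁.map G₁.subtype ≤ G₁ ⊓ Subgroup.centralizer ({(z : G)} : Set G) := by
    rintro _ ⟨r, hr, rfl⟩
    refine ⟨r.2, ?_⟩
    have hc : (r : G) ∈ Subgroup.centralizer ({(z : G)} : Set G) := by
      rw [Subgroup.mem_centralizer_iff]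
      intro y hy
      rw [Set.mem_singleton_iff] at hy
      rw [hy]
      have := Subgroup.mem_centralizer_iff.mp hzc r (hR₁T hr)
      exact (congrArg Subtype.val this).symm
    exact hc
  have h7 := generalizedFitting_normalizer_inf p
    (G₁ ⊓ Subgroup.centralizer ({(z : G)} : Set G)) (R₁.map G₁.subtype) hR'H hR'p h6
  have hassoc : Subgroup.normalizer ((R₁.map G₁.subtype : Subgroup G) : Set G) ⊓
      (G₁ ⊓ Subgroup.centralizer ({(z : G)} : Set G)) =
      (Subgroup.normalizer ((R₁.map G₁.subtype : Subgroup G) : Set G) ⊓ G₁) ⊓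
        Subgroup.centralizer ({(z : G)} : Set G) := (inf_assoc _ _ _).symm
  have h7' := generalizedFitting_eq_pCore_of_mulEquiv p (MulEquiv.subgroupCongr hassoc) h7
  have hR'le : R₁.map G₁.subtype ≤
      Subgroup.normalizer ((R₁.map G₁.subtype : Subgroup G) : Set G) ⊓ G₁ := by
    refine le_inf Subgroup.le_normalizer ?_
    rintro _ ⟨r, _, rfl⟩
    exact r.2
  have hzN : (z : G) ∈ Subgroup.normalizer ((R₁.map G₁.subtype : Subgroup G) : Set G) ⊓ G₁ :=
    hR'le (Subgroup.mem_map_of_mem _ hzR)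
  have hzO : (⟨(z : G), hzN⟩ :
      ↥(Subgroup.normalizer ((R₁.map G₁.subtype : Subgroup G) : Set G) ⊓ G₁)) ∈
      Cfsg.pCore p ↥(Subgroup.normalizer ((R₁.map G₁.subtype : Subgroup G) : Set G) ⊓ G₁) := by
    have hn : ((R₁.map G₁.subtype).subgroupOf
        (Subgroup.normalizer ((R₁.map G₁.subtype : Subgroup G) : Set G) ⊓ G₁)).Normal :=
      (Subgroup.normal_subgroupOf_iff_le_normalizer hR'le).mpr inf_le_left
    have hp' : IsPGroup p ↥((R₁.map G₁.subtype).subgroupOf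
        (Subgroup.normalizer ((R₁.map G₁.subtype : Subgroup G) : Set G) ⊓ G₁)) :=
      hR'p.comap_subtype
    have hle'' : (R₁.map G₁.subtype).subgroupOf
        (Subgroup.normalizer ((R₁.map G₁.subtype : Subgroup G) : Set G) ⊓ G₁) ≤
        Cfsg.pCore p ↥(Subgroup.normalizer ((R₁.map G₁.subtype : Subgroup G) : Set G) ⊓ G₁) :=
      le_sSup (show _ ∈ {N : Subgroup ↥(Subgroup.normalizer
        ((R₁.map G₁.subtype : Subgroup G) : Set G) ⊓ G₁) | N.Normal ∧ IsPGroup p N} from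
        ⟨hn, hp'⟩)
    exact hle'' (Subgroup.mem_subgroupOf.mpr (Subgroup.mem_map_of_mem _ hzR))
  have h8 := generalizedFitting_eq_pCore_of_centralizer_elt p _ (z : G) hzN hzO h7'
  have h9 := generalizedFitting_eq_pCore_of_mulEquiv p (normalizerSubtypeEquiv G₁ R₁).symm h8
  exact centralizer_pCore_le_of_generalizedFitting_eq p h9

end Cfsg.Agent.Helper7
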