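-- helper7: parabolic characteristic p passes to suitable subnormal subgroups
import Mathlib
import Cfsg.Prelude.Def_LocalStructure
import Cfsg.Agent.Helper7.ParChar2
import Cfsg.Agent.S0542

set_option autoImplicit false

namespace Cfsg.Agent.Helper7

universe u

/-- A subnormal subgroup of a group with `F* = O_p` has `F* = O_p`. -/
theorem generalizedFitting_eq_pCore_of_subnormal {M : Type u} [Group M] [Finite M] (p : ℕ)
    [Fact p.Prime] (h : Cfsg.generalizedFittingSubgroup M = Cfsg.pCore p M) (D : Subgroup M)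
    (hD : D.IsSubnormal) : Cfsg.generalizedFittingSubgroup D = Cfsg.pCore p D := by
  induction hD with
  | top => exact generalizedFitting_eq_pCore_of_mulEquiv p (Subgroup.topEquiv (G := M)).symm h
  | step H K h_le hK hN ih =>
    have h1 := generalizedFitting_eq_pCore_of_normal p ih (H.subgroupOf K)
    exact generalizedFitting_eq_pCore_of_mulEquiv p (Subgroup.subgroupOfEquivOfLe h_le) h1

/-- If `G` has parabolic characteristic `p`, `G₁` is subnormal in `G` and
`Z(S ∩ G₁) ≤ Z(S)`, then `G₁` has parabolic characteristic `p`. -/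
theorem parabolicChar_subnormal {G : Type u} [Group G] [Finite G] {p : ℕ} [Fact p.Prime]
    (hG : Cfsg.IsOfParabolicCharacteristic p G) (S : Sylow p G) (G₁ : Subgroup G)
    (hsn : G₁.IsSubnormal)
    (hle : ((S : Subgroup G) ⊓ G₁) ⊓
        Subgroup.centralizer (((S : Subgroup G) ⊓ G₁ : Subgroup G) : Set G) ≤
      (S : Subgroup G) ⊓ Subgroup.centralizer ((S : Subgroup G) : Set G)) :
    Cfsg.IsOfParabolicCharacteristic p ↥G₁ := by
  intro R₁ hR₁ hR₁1 hpar
  obtain ⟨T₁, hT₁⟩ := hpar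
  have hR₁T : R₁ ≤ (T₁ : Subgroup ↥G₁) := by
    have hsup : IsPGroup p ↥(R₁ ⊔ (T₁ : Subgroup ↥G₁)) :=
      IsPGroup.to_sup_of_normal_left' hR₁ T₁.isPGroup' hT₁
    have h := T₁.is_maximal' hsup le_sup_right
    rw [← h]; exact le_sup_left
  obtain ⟨z, hzR, hzo, hzc⟩ := exists_central_orderOf_of_normal_pgroup p
    (T₁ : Subgroup ↥G₁) R₁ T₁.isPGroup' hR₁T hT₁ hR₁1
  obtain ⟨Q₀, hQ₀⟩ := Cfsg.Agent.S0542.result p G₁ hsn S
  obtain ⟨h, hh⟩ := MulAction.exists_smul_eq ↥G₁ Q₀ T₁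
  have hzT : z ∈ (T₁ : Subgroup ↥G₁) := hR₁T hzR
  have hz''Q : h⁻¹ * z * h ∈ (Q₀ : Subgroup ↥G₁) := sylow_smul_mem Q₀ T₁ h hh z hzT
  have hz''S : ((h⁻¹ * z * h : ↥G₁) : G) ∈ (S : Subgroup G) := by
    rw [hQ₀] at hz''Q
    exact Subgroup.mem_subgroupOf.mp hz''Q
  have hz''c : ((h⁻¹ * z * h : ↥G₁) : G) ∈
      Subgroup.centralizer (((S : Subgroup G) ⊓ G₁ : Subgroup G) : Set G) := by
    rw [Subgroup.mem_centralizer_iff]
    intro s hs
    have hs' : s ∈ (S : Subgroup G) ⊓ G₁ := hs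
    have hsQ : (⟨s, hs'.2⟩ : ↥G₁) ∈ (Q₀ : Subgroup ↥G₁) := by
      rw [hQ₀]; exact Subgroup.mem_subgroupOf.mpr hs'.1
    have hh' : h⁻¹ • T₁ = Q₀ := by rw [← hh, inv_smul_smul]
    have h1 : h * ⟨s, hs'.2⟩ * h⁻¹ ∈ (T₁ : Subgroup ↥G₁) := by
      have := sylow_smul_mem T₁ Q₀ h⁻¹ hh' _ hsQ
      rwa [inv_inv] at this
    have h4 := Subgroup.mem_centralizer_iff.mp hzc _ h1
    have h5 : (h : G) * s * (h : G)⁻¹ * (z : G) = (z : G) * ((h : G) * s * (h : G)⁻¹) :=
      congrArg Subtype.val h4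
    show s * ((h : G)⁻¹ * (z : G) * (h : G)) = (h : G)⁻¹ * (z : G) * (h : G) * s
    calc s * ((h : G)⁻¹ * (z : G) * (h : G))
        = (h : G)⁻¹ * ((h : G) * s * (h : G)⁻¹ * (z : G)) * (h : G) := by group
      _ = (h : G)⁻¹ * ((z : G) * ((h : G) * s * (h : G)⁻¹)) * (h : G) := by rw [h5]
      _ = (h : G)⁻¹ * (z : G) * (h : G) * s := by group
  have hz''Z : ((h⁻¹ * z * h : ↥G₁) : G) ∈
      (S : Subgroup G) ⊓ Subgroup.centralizer ((S : Subgroup G) : Set G) :=
    hle ⟨⟨hz''S, (h⁻¹ * z * h).2⟩, hz''c⟩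
  have hcoe : ((h⁻¹ * z * h : ↥G₁) : G) = (h : G)⁻¹ * (z : G) * (h : G) := rfl
  rw [hcoe] at hz''Z
  have hzp : (z : G) ^ p = 1 := by
    have h1 : z ^ p = 1 := by rw [← hzo]; exact pow_orderOf_eq_one z
    have h2 : ((z ^ p : ↥G₁) : G) = 1 := by rw [h1]; rfl
    rw [← h2]; rfl
  have hz''p : ((h : G)⁻¹ * (z : G) * (h : G)) ^ p = 1 := by
    have h1 := conj_pow (a := (h : G)⁻¹) (b := (z : G)) (i := p)
    rw [inv_inv] at h1
    rw [h1, hzp]; group
  generalize hw : (h : G)⁻¹ * (z : G) * (h : G) = w at hz''p hz''Z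
  have hzw : (z : G) = (h : G) * w * (h : G)⁻¹ := by rw [← hw]; group
  have hw1 : w ≠ 1 := by
    intro h
    rw [h] at hzw
    have hz1 : (z : G) = 1 := by rw [hzw]; group
    have hz1' : z = 1 := Subtype.ext hz1
    rw [hz1', orderOf_one] at hzo
    exact (Fact.out : p.Prime).one_lt.ne hzo
  have hwo : orderOf w = p := orderOf_eq_prime hz''p hw1
  have hRp : IsPGroup p ↥(Subgroup.zpowers w) := by
    apply IsPGroup.of_card (n := 1)
    rw [Nat.card_zpowers, hwo, pow_one]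
  have hRne : Subgroup.zpowers w ≠ ⊥ := fun h => hw1 (Subgroup.zpowers_eq_bot.mp h)
  have hSN : (S : Subgroup G) ≤
      Subgroup.normalizer ((Subgroup.zpowers w : Subgroup G) : Set G) := by
    intro s hs
    exact mem_normalizer_zpowers_of_comm w s (Subgroup.mem_centralizer_iff.mp hz''Z.2 s hs).symm
  have h1 := hG _ hRp hRne ⟨S, hSN⟩
  have h2 := generalizedFitting_eq_pCore_of_centralizer_le p h1
  have h3 := generalizedFitting_centralizer_of_normalizer p (Subgroup.zpowers w) h2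
  have h3' := generalizedFitting_eq_pCore_of_mulEquiv p
    (MulEquiv.subgroupCongr (centralizer_zpowers_eq w)) h3
  have h4 := generalizedFitting_centralizer_conj p w (h : G) h3'
  have hcz : Subgroup.centralizer ({(h : G) * w * (h : G)⁻¹} : Set G) =
      Subgroup.centralizer ({(z : G)} : Set G) := by rw [hzw]
  have h4' := generalizedFitting_eq_pCore_of_mulEquiv p (MulEquiv.subgroupCongr hcz) h4
  have hDsn : ((G₁ ⊓ Subgroup.centralizer ({(z : G)} : Set G)).subgroupOf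
      (Subgroup.centralizer ({(z : G)} : Set G))).IsSubnormal := by
    rw [Subgroup.inf_subgroupOf_right]; exact hsn.subgroupOf
  have h5 := generalizedFitting_eq_pCore_of_subnormal p h4' _ hDsn
  have h6 := generalizedFitting_eq_pCore_of_mulEquiv p (Subgroup.subgroupOfEquivOfLe
    (inf_le_right : G₁ ⊓ Subgroup.centralizer ({(z : G)} : Set G) ≤
      Subgroup.centralizer ({(z : G)} : Set G))) h5
  have hR'p : IsPGroup p ↥(R₁.map G₁.subtype) := hR₁.map _
  have hR'H : R₁.map G₁.subtype ≤ G₁ ⊓ Subgroup.centralizer ({(z : G)} : Set G) := by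
    rintro _ ⟨r, hr, rfl⟩
    refine ⟨r.2, ?_⟩
    have hc : (r : G) ∈ Subgroup.centralizer ({(z : G)} : Set G) := by
      rw [Subgroup.mem_centralizer_iff]
      intro y hy
      rw [Set.mem_singleton_iff] at hy
      rw [hy]
      have := Subgroup.mem_centralizer_iff.mp hzc r (hR₁T hr)
      exact (congrArg Subtype.val this).symm
    exact hc
  have h7 := generalizedFitting_normalizer_inf p
    (G₁ ⊓ Subgroup.centralizer ({(z : G)} : Set G)) (R₁.map G₁.subtype) hR'H hR'p h6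
  have hassoc : Subgroup.normalizer ((R₁.map G₁.subtype : Subgroup G) : Set G) ⊓
      (G₁ ⊓ Subgroup.centralizer ({(z : G)} : Set G)) =
      (Subgroup.normalizer ((R₁.map G₁.subtype : Subgroup G) : Set G) ⊓ G₁) ⊓
        Subgroup.centralizer ({(z : G)} : Set G) := (inf_assoc _ _ _).symm
  have h7' := generalizedFitting_eq_pCore_of_mulEquiv p (MulEquiv.subgroupCongr hassoc) h7
  have hR'le : R₁.map G₁.subtype ≤
      Subgroup.normalizer ((R₁.map G₁.subtype : Subgroup G) : Set G) ⊓ G₁ := by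
    refine le_inf Subgroup.le_normalizer ?_
    rintro _ ⟨r, _, rfl⟩
    exact r.2
  have hzN : (z : G) ∈ Subgroup.normalizer ((R₁.map G₁.subtype : Subgroup G) : Set G) ⊓ G₁ :=
    hR'le (Subgroup.mem_map_of_mem _ hzR)
  have hzO : (⟨(z : G), hzN⟩ :
      ↥(Subgroup.normalizer ((R₁.map G₁.subtype : Subgroup G) : Set G) ⊓ G₁)) ∈
      Cfsg.pCore p ↥(Subgroup.normalizer ((R₁.map G₁.subtype : Subgroup G) : Set G) ⊓ G₁) := by
    have hn : ((R₁.map G₁.subtype).subgroupOf
        (Subgroup.normalizer ((R₁.map G₁.subtype : Subgroup G) : Set G) ⊓ G₁)).Normal :=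
      (Subgroup.normal_subgroupOf_iff_le_normalizer hR'le).mpr inf_le_left
    have hp' : IsPGroup p ↥((R₁.map G₁.subtype).subgroupOf
        (Subgroup.normalizer ((R₁.map G₁.subtype : Subgroup G) : Set G) ⊓ G₁)) :=
      hR'p.comap_subtype
    have hle'' : (R₁.map G₁.subtype).subgroupOf
        (Subgroup.normalizer ((R₁.map G₁.subtype : Subgroup G) : Set G) ⊓ G₁) ≤
        Cfsg.pCore p ↥(Subgroup.normalizer ((R₁.map G₁.subtype : Subgroup G) : Set G) ⊓ G₁) :=
      le_sSup (show _ ∈ {N : Subgroup ↥(Subgroup.normalizer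
        ((R₁.map G₁.subtype : Subgroup G) : Set G) ⊓ G₁) | N.Normal ∧ IsPGroup p N} from
        ⟨hn, hp'⟩)
    exact hle'' (Subgroup.mem_subgroupOf.mpr (Subgroup.mem_map_of_mem _ hzR))
  have h8 := generalizedFitting_eq_pCore_of_centralizer_elt p _ (z : G) hzN hzO h7'
  have h9 := generalizedFitting_eq_pCore_of_mulEquiv p (normalizerSubtypeEquiv G₁ R₁).symm h8
  exact centralizer_pCore_le_of_generalizedFitting_eq p h9

end Cfsg.Agent.Helper7
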