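import Mathlib
import Cfsg.Agent.Helper7.Psu3x

namespace Cfsg.Agent.Helper7.Psu3d

open Matrix Polynomial

theorem prod_formula (F : Type*) [Field F] [Fintype F] :
    ∏ c : F, (X - C c) = (X ^ Fintype.card F - X : F[X]) := by
  have hcard : 1 < Fintype.card F := Fintype.one_lt_card
  have hmonic : (X ^ Fintype.card F - X : F[X]).Monic :=
    monic_X_pow_sub (by rw [degree_X]; exact_mod_cast hcard)
  have hroots := FiniteField.roots_X_pow_card_sub_X F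
  have h := Polynomial.prod_multiset_X_sub_C_of_monic_of_roots_card_eq hmonic
    (by rw [hroots, FiniteField.X_pow_card_sub_X_natDegree_eq F hcard]; simp)
  rw [hroots] at h
  exact h

theorem mem_of_pow_card {F K : Type*} [Field F] [Fintype F] [Field K] [Algebra F K] (z : K)
    (hz : z ^ Fintype.card F = z) : ∃ c : F, z = algebraMap F K c := by
  have h := congrArg (fun f => Polynomial.aeval z f) (prod_formula F)
  simp only [map_prod, map_sub, Polynomial.aeval_X, Polynomial.aeval_C, map_pow] at h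
  rw [hz, sub_self] at h
  obtain ⟨c, -, hc⟩ := Finset.prod_eq_zero_iff.1 h
  exact ⟨c, sub_eq_zero.1 hc⟩

theorem exists_norm {F : Type*} [Field F] [Fintype F] (q : ℕ) (hF : Fintype.card F = q ^ 2)
    (hq : 2 ≤ q) (t : F) (ht : t ^ q = t) : ∃ α : F, α ^ (q + 1) = t := by
  classical
  by_cases h0 : t = 0
  · exact ⟨0, by rw [h0]; simp⟩
  obtain ⟨g, hg⟩ := IsCyclic.exists_generator (α := Fˣ)
  have hord : orderOf g = Fintype.card F - 1 := by
    rw [orderOf_eq_card_of_forall_mem_zpowers hg, Nat.card_eq_fintype_card, Fintype.card_units]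
  have hcard1 : Fintype.card F - 1 = (q + 1) * (q - 1) := by
    rw [hF]
    have := Nat.sq_sub_sq q 1
    rw [one_pow] at this
    exact this
  obtain ⟨k, hk⟩ : ∃ k : ℕ, g ^ k = Units.mk0 t h0 := by
    have h1 := hg (Units.mk0 t h0)
    exact (Submonoid.mem_powers_iff _ _).1 (mem_powers_iff_mem_zpowers.2 h1)
  have ht1 : t ^ (q - 1) = 1 := by
    have h2 : t ^ (q - 1) * t = t := by
      rw [← pow_succ]
      have : q - 1 + 1 = q := by omega
      rw [this, ht]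
    exact mul_right_cancel₀ h0 (by rw [h2, one_mul])
  have h1 : g ^ (k * (q - 1)) = 1 := by
    rw [pow_mul, hk]
    ext
    simp [ht1]
  have h2 : (q + 1) * (q - 1) ∣ k * (q - 1) := by
    rw [← hcard1, ← hord]
    exact orderOf_dvd_of_pow_eq_one h1
  have h3 : q + 1 ∣ k := (Nat.mul_dvd_mul_iff_right (by omega)).1 h2
  obtain ⟨k', hk'⟩ := h3
  refine ⟨((g ^ k' : Fˣ) : F), ?_⟩
  have h4 : ((g ^ k' : Fˣ) : F) ^ (q + 1) = ((g ^ k : Fˣ) : F) := by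
    rw [hk', mul_comm, pow_mul]
    simp
  rw [h4, hk]
  rfl

theorem arith (q : ℕ) (hq : 3 ≤ q) :
    (q ^ 2 - q + 1) ∣ q ^ 3 + 1 ∧ (q ^ 2 - q + 1) ∣ 1 + q ^ 2 + q ^ 4 ∧
    (q ^ 2 - q + 1) ∣ ((q ^ 2 - q + 1) / Nat.gcd 3 (q + 1)) * (q ^ 2 - 1) ∧
    (∀ j : ℕ, (q ^ 2 - q + 1) ∣ j * (q ^ 2 - 1) → ((q ^ 2 - q + 1) / Nat.gcd 3 (q + 1)) ∣ j) ∧
    ¬ (q ^ 2 - q + 1) ∣ q ^ 2 - 1 := by
  obtain ⟨r, rfl⟩ : ∃ r, q = r + 2 := ⟨q - 2, by omega⟩
  have hn : (r + 2) ^ 2 - (r + 2) + 1 = r ^ 2 + 3 * r + 3 := by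
    have : (r + 2) ^ 2 = r ^ 2 + 3 * r + 2 + (r + 2) := by ring
    rw [this, Nat.add_sub_cancel]
  have hm : (r + 2) ^ 2 - 1 = (r + 3) * (r + 1) := by
    have : (r + 2) ^ 2 = (r + 3) * (r + 1) + 1 := by ring
    rw [this, Nat.add_sub_cancel]
  rw [hn, hm]
  have hr1 : 1 ≤ r := by omega
  have hn6 : 3 * r + 3 ≤ r ^ 2 + 3 * r + 3 := by
    rw [add_assoc]; exact Nat.le_add_left _ _
  generalize hn_def : r ^ 2 + 3 * r + 3 = n at hn6 ⊢
  have hg : Nat.gcd n (r + 2 + 1) = Nat.gcd 3 (r + 2 + 1) := by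
    have : n = 3 + r * (r + 2 + 1) := by rw [← hn_def]; ring
    rw [this, Nat.gcd_add_mul_right_left]
  have hcop1 : Nat.Coprime n (r + 1) := by
    have : n = 1 + (r + 2) * (r + 1) := by rw [← hn_def]; ring
    rw [this]
    unfold Nat.Coprime
    rw [Nat.gcd_add_mul_right_left]; simp
  have hd3 : Nat.gcd 3 (r + 2 + 1) ∣ 3 := Nat.gcd_dvd_left _ _
  have hdpos : 0 < Nat.gcd 3 (r + 2 + 1) := Nat.gcd_pos_of_pos_left _ (by norm_num)
  have hcopNe : Nat.Coprime (n / Nat.gcd 3 (r + 2 + 1)) ((r + 2 + 1) / Nat.gcd 3 (r + 2 + 1)) := by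
    have := Nat.coprime_div_gcd_div_gcd (m := n) (n := r + 2 + 1) (by rw [hg]; exact hdpos)
    rwa [hg] at this
  have hdn : Nat.gcd 3 (r + 2 + 1) ∣ n := by rw [← hg]; exact Nat.gcd_dvd_left _ _
  have hde : Nat.gcd 3 (r + 2 + 1) ∣ r + 2 + 1 := Nat.gcd_dvd_right _ _
  generalize Nat.gcd 3 (r + 2 + 1) = d at hd3 hdpos hcopNe hdn hde ⊢
  obtain ⟨N, hN⟩ := hdn
  obtain ⟨e, he⟩ := hde
  have hdivN : n / d = N := Nat.div_eq_of_eq_mul_right hdpos hN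
  have hdive : (r + 2 + 1) / d = e := Nat.div_eq_of_eq_mul_right hdpos he
  rw [hdivN, hdive] at hcopNe
  rw [hdivN]
  have h3 : r + 3 = d * e := by omega
  have hfour : ∀ j : ℕ, n ∣ j * ((r + 3) * (r + 1)) → N ∣ j := by
    intro j hj
    have h1 : n ∣ j * (r + 3) := by
      have : n ∣ (j * (r + 3)) * (r + 1) := by rwa [mul_assoc]
      exact hcop1.dvd_of_dvd_mul_right this
    rw [hN, h3] at h1
    have h2 : d * N ∣ d * (j * e) := by
      have : j * (d * e) = d * (j * e) := by ring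
      rwa [this] at h1
    have h4 : N ∣ j * e := (Nat.mul_dvd_mul_iff_left hdpos).1 h2
    exact hcopNe.dvd_of_dvd_mul_right h4
  refine ⟨⟨r + 3, by rw [← hn_def]; ring⟩, ⟨(r + 2) ^ 2 + (r + 2) + 1, by rw [← hn_def]; ring⟩,
    ⟨e * (r + 1), by rw [h3, hN]; ring⟩, hfour, ?_⟩
  intro hcon
  have h5 : N ∣ 1 := hfour 1 (by rwa [one_mul])
  have h6 : N = 1 := Nat.dvd_one.1 h5
  have h7 : d ≤ 3 := Nat.le_of_dvd (by norm_num) hd3
  rw [h6, mul_one] at hN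
  omega

theorem roots_setup {F : Type*} [Field F] [Fintype F] (p : ℕ) [Fact p.Prime] [CharP F p] (q m : ℕ)
    (hF : Fintype.card F = q ^ 2) (hm : q = p ^ m) (hq3 : 3 ≤ q) (hpq : p ∣ q)
    (K : Type*) [Field K] [Algebra F K] [IsAlgClosed K] :
    ∃ (a : F) (ω : K), orderOf ω = q ^ 2 - q + 1 ∧ ω * ω ^ (q ^ 2) * ω ^ (q ^ 4) = 1 ∧
      algebraMap F K a = ω + ω ^ (q ^ 2) + ω ^ (q ^ 4) ∧
      algebraMap F K (a ^ q) = ω * ω ^ (q ^ 2) + ω ^ (q ^ 2) * ω ^ (q ^ 4) + ω * ω ^ (q ^ 4) ∧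
      ω ^ (q ^ 6) = ω := by
  have : CharP K p := charP_of_injective_algebraMap (algebraMap F K).injective p
  obtain ⟨hA1, hA2, -, -, -⟩ := arith q hq3
  have hn1 : q ^ 2 - q + 1 = q * (q - 1) + 1 := by rw [Nat.mul_sub_one, sq]
  have hqK0 : ((q : ℕ) : K) = 0 := (CharP.cast_eq_zero_iff K p q).2 hpq
  have hnK : ((q ^ 2 - q + 1 : ℕ) : K) = 1 := by
    rw [hn1, Nat.cast_add, Nat.cast_mul, hqK0, zero_mul, zero_add, Nat.cast_one]
  have hnpos : 0 < q ^ 2 - q + 1 := Nat.succ_pos _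
  have : NeZero ((q ^ 2 - q + 1 : ℕ) : K) := ⟨by rw [hnK]; exact one_ne_zero⟩
  obtain ⟨ω, hω⟩ := IsAlgClosed.exists_root (Polynomial.cyclotomic (q ^ 2 - q + 1) K)
    (Polynomial.degree_cyclotomic_pos _ K hnpos).ne'
  have hprim : IsPrimitiveRoot ω (q ^ 2 - q + 1) := Polynomial.isRoot_cyclotomic_iff.1 hω
  have hord : orderOf ω = q ^ 2 - q + 1 := hprim.eq_orderOf.symm
  have hω1 : ω ^ (q ^ 2 - q + 1) = 1 := hprim.pow_eq_one
  have hω0 : ω ≠ 0 := by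
    rintro rfl
    rw [zero_pow hnpos.ne'] at hω1
    exact zero_ne_one hω1
  have hpow_of_dvd : ∀ t : ℕ, (q ^ 2 - q + 1) ∣ t → ω ^ t = 1 := by
    rintro t ⟨c, rfl⟩
    rw [pow_mul, hω1, one_pow]
  have hωq3 : ω ^ (q ^ 3 + 1) = 1 := hpow_of_dvd _ hA1
  have hxyz : ω * ω ^ (q ^ 2) * ω ^ (q ^ 4) = 1 := by
    rw [← hpow_of_dvd _ hA2, pow_add, pow_add, pow_one]
  have hωq3' : ω ^ (q ^ 3) = ω⁻¹ := by
    rw [pow_succ] at hωq3
    exact eq_inv_of_mul_eq_one_left hωq3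
  have hωq6 : ω ^ (q ^ 6) = ω := by
    have : q ^ 6 = q ^ 3 * q ^ 3 := by ring
    rw [this, pow_mul, hωq3', inv_pow, hωq3', inv_inv]
  have Fx : ω ^ q * ω ^ (q ^ 4) = 1 := by
    rw [← pow_add]
    exact hpow_of_dvd _ (Dvd.dvd.trans hA1 ⟨q, by ring⟩)
  have Fy : (ω ^ (q ^ 2)) ^ q * ω = 1 := by
    rw [← pow_mul, ← pow_succ]
    have : q ^ 2 * q + 1 = q ^ 3 + 1 := by ring
    rw [this]; exact hωq3
  have Fz : (ω ^ (q ^ 4)) ^ q * ω ^ (q ^ 2) = 1 := by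
    rw [← pow_mul, ← pow_add]
    exact hpow_of_dvd _ (Dvd.dvd.trans hA1 ⟨q ^ 2, by ring⟩)
  have hz0 : ω ^ (q ^ 4) ≠ 0 := pow_ne_zero _ hω0
  have hy0 : ω ^ (q ^ 2) ≠ 0 := pow_ne_zero _ hω0
  have hxq : ω ^ q = ω * ω ^ (q ^ 2) := by
    apply mul_right_cancel₀ hz0
    rw [Fx, hxyz]
  have hyq : (ω ^ (q ^ 2)) ^ q = ω ^ (q ^ 2) * ω ^ (q ^ 4) := by
    apply mul_right_cancel₀ hω0
    rw [Fy, ← hxyz]; ring
  have hzq : (ω ^ (q ^ 4)) ^ q = ω * ω ^ (q ^ 4) := by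
    apply mul_right_cancel₀ hy0
    rw [Fz, ← hxyz]; ring
  have haddK : ∀ u v : K, (u + v) ^ q = u ^ q + v ^ q := by
    intro u v
    rw [hm]
    exact add_pow_char_pow u v p m
  have haddK2 : ∀ u v : K, (u + v) ^ (q ^ 2) = u ^ (q ^ 2) + v ^ (q ^ 2) := by
    intro u v
    rw [sq, pow_mul, pow_mul, pow_mul, haddK, haddK]
  have hfix : (ω + ω ^ (q ^ 2) + ω ^ (q ^ 4)) ^ (q ^ 2) = ω + ω ^ (q ^ 2) + ω ^ (q ^ 4) := by
    rw [haddK2, haddK2]
    have h1 : (ω ^ (q ^ 2)) ^ (q ^ 2) = ω ^ (q ^ 4) := by rw [← pow_mul]; congr 1; ring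
    have h2 : (ω ^ (q ^ 4)) ^ (q ^ 2) = ω := by
      rw [← pow_mul]
      have : q ^ 4 * q ^ 2 = q ^ 6 := by ring
      rw [this, hωq6]
    rw [h1, h2]; ring
  obtain ⟨a, ha⟩ := mem_of_pow_card (F := F) (ω + ω ^ (q ^ 2) + ω ^ (q ^ 4)) (by rw [hF]; exact hfix)
  refine ⟨a, ω, hord, hxyz, ha.symm, ?_, hωq6⟩
  rw [map_pow, ← ha, haddK, haddK, hxq, hyq, hzq]

theorem matrix_part {F : Type*} [Field F] [Fintype F] (p : ℕ) [Fact p.Prime] [CharP F p] (q m : ℕ)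
    (hF : Fintype.card F = q ^ 2) (hp : p ≠ 2) (hm : q = p ^ m) (hq3 : 3 ≤ q) (hqodd : Odd q)
    (a : F) :
    ∃ (e : F) (P Pinv : Matrix (Fin 3) (Fin 3) F), a ^ q = -a - 2 - e ^ q * e ∧ P * Pinv = 1 ∧
      Pinv * P = 1 ∧
      (P * !![a + 1, e ^ q, 1; e, -1, 0; 1, 0, 0] * Pinv)ᵀ *
        (P * !![a + 1, e ^ q, 1; e, -1, 0; 1, 0, 0] * Pinv).map (fun x => x ^ q) = 1 := by
  classical
  have hpp : p.Prime := Fact.out
  have hq0 : q ≠ 0 := by omega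
  have hadd : ∀ x y : F, (x + y) ^ q = x ^ q + y ^ q := by
    intro x y; rw [hm]; exact add_pow_char_pow x y p m
  have hnegq : ∀ x : F, (-x) ^ q = -(x ^ q) := fun x => hqodd.neg_pow x
  have hqq : ∀ x : F, (x ^ q) ^ q = x := by
    intro x
    rw [← pow_mul, ← sq, ← hF]
    exact FiniteField.pow_card x
  have h2ne : (2 : F) ≠ 0 := by
    intro h
    have h' : ((2 : ℕ) : F) = 0 := by exact_mod_cast h
    have := (CharP.cast_eq_zero_iff F p 2).1 h'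
    exact hp ((Nat.prime_dvd_prime_iff_eq hpp Nat.prime_two).1 this)
  have h2q : (2 : F) ^ q = 2 := by
    have : (2 : F) = 1 + 1 := by norm_num
    rw [this, hadd, one_pow]
  have h2iq : (2⁻¹ : F) ^ q = 2⁻¹ := by rw [inv_pow, h2q]
  have ht : (-((a + 1) + (a + 1) ^ q)) ^ q = -((a + 1) + (a + 1) ^ q) := by
    rw [hnegq, hadd, hqq]; ring
  obtain ⟨e, he⟩ := exists_norm q hF (by omega) _ ht
  have haq : a ^ q = -a - 2 - e ^ q * e := by
    rw [hadd, one_pow, pow_succ] at he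
    linear_combination he
  have hcard1 : Fintype.card F - 1 = (q + 1) * (q - 1) := by
    rw [hF]
    have := Nat.sq_sub_sq q 1
    rw [one_pow] at this
    exact this
  have hpos1 : 0 < Fintype.card F - 1 := by
    rw [hcard1]
    exact Nat.mul_pos (by omega) (by omega)
  have h2m : 2 ∣ q - 1 := by
    obtain ⟨t, ht⟩ := hqodd
    exact ⟨t, by omega⟩
  obtain ⟨y₀, hy₀⟩ := Psu3x.exists_order' (F := F) (2 * (q + 1)) (by
    rw [hcard1]
    obtain ⟨t, ht⟩ := h2m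
    exact ⟨t, by rw [ht]; ring⟩) hpos1
  have hy0ne : y₀ ≠ 0 := by
    rintro rfl
    rw [orderOf_zero] at hy₀ <;> omega
  have hy0q1 : y₀ ^ (q + 1) = -1 := by
    have h1 : y₀ ^ (q + 1) * y₀ ^ (q + 1) = 1 := by
      rw [← pow_add, ← two_mul, ← hy₀]; exact pow_orderOf_eq_one y₀
    rcases mul_self_eq_one_iff.1 h1 with h | h
    · exfalso
      have := orderOf_dvd_of_pow_eq_one h
      rw [hy₀] at this
      have := Nat.le_of_dvd (by omega) this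
      omega
    · exact h
  have hy0q : y₀ ^ q = -y₀⁻¹ := by
    rw [pow_succ] at hy0q1
    field_simp
    linear_combination hy0q1
  -- the matrices
  obtain ⟨P, hP⟩ : ∃ P : Matrix (Fin 3) (Fin 3) F, P = !![2⁻¹, 0, 1; 0, 1, 0; y₀ * 2⁻¹, 0, -y₀] :=
    ⟨_, rfl⟩
  obtain ⟨Pinv, hPinv⟩ : ∃ P : Matrix (Fin 3) (Fin 3) F,
      P = !![1, 0, y₀⁻¹; 0, 1, 0; 2⁻¹, 0, -(2⁻¹ * y₀⁻¹)] := ⟨_, rfl⟩
  obtain ⟨J, hJ⟩ : ∃ P : Matrix (Fin 3) (Fin 3) F, P = !![0, 0, 1; 0, 1, 0; 1, 0, 0] := ⟨_, rfl⟩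
  obtain ⟨A, hA⟩ : ∃ P : Matrix (Fin 3) (Fin 3) F, P = !![a + 1, e ^ q, 1; e, -1, 0; 1, 0, 0] :=
    ⟨_, rfl⟩
  have hPP : P * Pinv = 1 := by
    rw [hP, hPinv]
    ext i k
    fin_cases i <;> fin_cases k <;> simp [Matrix.mul_apply, Fin.sum_univ_three] <;>
      field_simp <;> ring
  have hPP' : Pinv * P = 1 := by
    rw [hP, hPinv]
    ext i k
    fin_cases i <;> fin_cases k <;> simp [Matrix.mul_apply, Fin.sum_univ_three] <;>
      field_simp <;> ring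
  have eP2 : (y₀ * 2⁻¹) ^ q = -(y₀⁻¹ * 2⁻¹) := by
    rw [mul_pow, hy0q, h2iq]; ring
  have eP3 : (-y₀) ^ q = y₀⁻¹ := by
    rw [hnegq, hy0q, neg_neg]
  have e0 : (0 : F) ^ q = 0 := zero_pow hq0
  have hPJ : Pᵀ * P.map (fun x => x ^ q) = J := by
    rw [hP, hJ]
    ext i k
    fin_cases i <;> fin_cases k <;>
      simp [Matrix.mul_apply, Fin.sum_univ_three, eP2, eP3, e0, h2q] <;>
      field_simp <;> ring
  have eA1 : (a + 1) ^ q = -a - 1 - e ^ q * e := by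
    rw [hadd, one_pow, haq]; ring
  have eA3 : (-1 : F) ^ q = -1 := hqodd.neg_one_pow
  have hAJ : Aᵀ * J * A.map (fun x => x ^ q) = J := by
    rw [hA, hJ]
    ext i k
    fin_cases i <;> fin_cases k <;>
      simp [Matrix.mul_apply, Fin.sum_univ_three, eA1, eA3, e0, hqq] <;> ring
  refine ⟨e, P, Pinv, haq, hPP, hPP', ?_⟩
  rw [← hA]
  obtain ⟨σ, hσ⟩ : ∃ σ : F →+* F, ∀ x : F, σ x = x ^ q :=
    ⟨iterateFrobenius F p m, fun x => by rw [hm]; rfl⟩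
  have hmap : ∀ X : Matrix (Fin 3) (Fin 3) F, X.map (fun x => x ^ q) = X.map σ := by
    intro X; ext i j; simp [hσ]
  have hPJ' : Pᵀ * P.map σ = J := by rw [← hmap]; exact hPJ
  have hAJ' : Aᵀ * J * A.map σ = J := by rw [← hmap]; exact hAJ
  rw [hmap, Matrix.map_mul, Matrix.map_mul, Matrix.transpose_mul, Matrix.transpose_mul]
  calc Pinvᵀ * (Aᵀ * Pᵀ) * (P.map σ * A.map σ * Pinv.map σ)
      = Pinvᵀ * (Aᵀ * (Pᵀ * P.map σ) * A.map σ) * Pinv.map σ := by simp only [Matrix.mul_assoc]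
    _ = Pinvᵀ * (Pᵀ * P.map σ) * Pinv.map σ := by rw [hPJ', hAJ']
    _ = (P * Pinv)ᵀ * (P * Pinv).map σ := by
        rw [Matrix.transpose_mul, Matrix.map_mul]; simp only [Matrix.mul_assoc]
    _ = 1 := by rw [hPP]; simp

theorem ex_d {F : Type*} [Field F] [Fintype F] (p : ℕ) [Fact p.Prime] [CharP F p] (q : ℕ)
    (hF : Fintype.card F = q ^ 2) (hp : p ≠ 2) :
    ∃ M : Matrix (Fin 3) (Fin 3) F, Mᵀ * M.map (fun x => x ^ q) = 1 ∧ M.det = 1 ∧
      (∃ c : F, M ^ ((q ^ 2 - q + 1) / Nat.gcd 3 (q + 1)) = c • (1 : Matrix (Fin 3) (Fin 3) F)) ∧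
      ∀ j : ℕ, (∃ c : F, M ^ j = c • (1 : Matrix (Fin 3) (Fin 3) F)) →
        ((q ^ 2 - q + 1) / Nat.gcd 3 (q + 1)) ∣ j := by
  classical
  have hpp : p.Prime := Fact.out
  obtain ⟨k, -, hk⟩ := FiniteField.card F p
  have hq0 : q ≠ 0 := by
    rintro rfl
    have : 0 < Fintype.card F := Fintype.card_pos
    rw [hF] at this
    simp at this
  have hprime_dvd : ∀ d : ℕ, d.Prime → d ∣ q → d = p := by
    intro d hd hdq
    have h1 : d ∣ p ^ (k : ℕ) := by rw [← hk, hF]; exact dvd_pow hdq two_ne_zero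
    exact (Nat.prime_dvd_prime_iff_eq hd hpp).1 (hd.dvd_of_dvd_pow h1)
  obtain ⟨m, hm⟩ : ∃ m : ℕ, q = p ^ m :=
    ⟨_, Nat.eq_prime_pow_of_unique_prime_dvd hq0 (fun {d} hd hdq => hprime_dvd d hd hdq)⟩
  have hpq : p ∣ q := by
    have : p ∣ q ^ 2 := by rw [← hF, hk]; exact dvd_pow_self p k.ne_zero
    exact hpp.dvd_of_dvd_pow this
  have hq2 : 2 ≤ q := le_trans hpp.two_le (Nat.le_of_dvd (Nat.pos_of_ne_zero hq0) hpq)
  have hqodd : Odd q := by
    by_contra hcon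
    have h2 : 2 ∣ q := (Nat.not_odd_iff_even.1 hcon).two_dvd
    exact hp (hprime_dvd 2 Nat.prime_two h2).symm
  have hq3 : 3 ≤ q := by
    obtain ⟨t, ht⟩ := hqodd
    omega
  obtain ⟨-, -, hA3, hA4, hA5⟩ := arith q hq3
  obtain ⟨a, ω, hord, hxyz, hsum, hps, hωq6⟩ :=
    roots_setup p q m hF hm hq3 hpq (AlgebraicClosure F)
  obtain ⟨e, P, Pinv, haq, hPP, hPP', hU⟩ := matrix_part p q m hF hp hm hq3 hqodd a
  obtain ⟨A, hA_def⟩ : ∃ A : Matrix (Fin 3) (Fin 3) F,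
      A = !![a + 1, e ^ q, 1; e, -1, 0; 1, 0, 0] := ⟨_, rfl⟩
  rw [← hA_def] at hU
  obtain ⟨N, hN_def⟩ : ∃ N : ℕ, N = (q ^ 2 - q + 1) / Nat.gcd 3 (q + 1) := ⟨_, rfl⟩
  rw [← hN_def] at hA3 hA4 ⊢
  have hdetA : A.det = 1 := by rw [hA_def, Matrix.det_fin_three]; simp
  have hpow : ∀ j : ℕ, (P * A * Pinv) ^ j = P * A ^ j * Pinv := by
    intro j
    induction j with
    | zero => rw [pow_zero, pow_zero, mul_one, hPP]
    | succ j ih =>
      rw [pow_succ, ih, pow_succ]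
      calc P * A ^ j * Pinv * (P * A * Pinv) = P * A ^ j * (Pinv * P) * A * Pinv := by
            simp only [mul_assoc]
        _ = P * (A ^ j * A) * Pinv := by rw [hPP', mul_one]; simp only [mul_assoc]
  have hscal : ∀ (j : ℕ) (c : F), (P * A * Pinv) ^ j = c • (1 : Matrix (Fin 3) (Fin 3) F) ↔
      A ^ j = c • (1 : Matrix (Fin 3) (Fin 3) F) := by
    intro j c
    rw [hpow]
    constructor
    · intro h
      calc A ^ j = (Pinv * P) * A ^ j * (Pinv * P) := by rw [hPP', one_mul, mul_one]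
        _ = Pinv * (P * A ^ j * Pinv) * P := by simp only [mul_assoc]
        _ = c • 1 := by rw [h, mul_smul_comm, smul_mul_assoc, mul_one, hPP']
    · intro h
      rw [h, mul_smul_comm, smul_mul_assoc, mul_one, hPP]
  have hCH : A ^ 3 = a • A ^ 2 - a ^ q • A + 1 := by
    rw [hA_def]
    ext i k
    fin_cases i <;> fin_cases k <;>
      simp [pow_succ, Matrix.mul_apply, Fin.sum_univ_three, haq] <;> ring
  -- the extension field
  obtain ⟨φ, hφ⟩ : ∃ φ : F →+* AlgebraicClosure F, φ = algebraMap F (AlgebraicClosure F) :=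
    ⟨_, rfl⟩
  rw [← hφ] at hsum hps
  rw [map_pow] at hps
  have hω1 : ω ^ (q ^ 2 - q + 1) = 1 := by rw [← hord]; exact pow_orderOf_eq_one ω
  have hω0 : ω ≠ 0 := by
    rintro rfl
    rw [zero_pow (Nat.succ_ne_zero _)] at hω1
    exact zero_ne_one hω1
  have hyz : (ω ^ (q ^ 2)) ^ (q ^ 2) = ω ^ (q ^ 4) := by rw [← pow_mul]; congr 1; ring
  have hzx : (ω ^ (q ^ 4)) ^ (q ^ 2) = ω := by
    rw [← pow_mul]
    have : q ^ 4 * q ^ 2 = q ^ 6 := by ring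
    rw [this, hωq6]
  have hφfix : ∀ c : F, (φ c) ^ (q ^ 2) = φ c := by
    intro c
    rw [← map_pow, ← hF, FiniteField.pow_card]
  have hne_xy : ω ≠ ω ^ (q ^ 2) := by
    intro h
    have h1 : ω ^ (q ^ 2 - 1) = 1 := by
      have h2 : ω ^ (q ^ 2 - 1) * ω = ω := by
        rw [← pow_succ]
        have : q ^ 2 - 1 + 1 = q ^ 2 := Nat.sub_add_cancel (Nat.one_le_pow _ _ (by omega))
        rw [this]; exact h.symm
      exact mul_right_cancel₀ hω0 (by rw [h2, one_mul])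
    have := orderOf_dvd_of_pow_eq_one h1
    rw [hord] at this
    exact hA5 this
  have hne_xz : ω ≠ ω ^ (q ^ 4) := by
    intro h
    apply hne_xy
    calc ω = (ω ^ (q ^ 4)) ^ (q ^ 2) := hzx.symm
      _ = ω ^ (q ^ 2) := by rw [← h]
  have hne_yz : ω ^ (q ^ 2) ≠ ω ^ (q ^ 4) := by
    intro h
    apply hne_xz
    calc ω = (ω ^ (q ^ 4)) ^ (q ^ 2) := hzx.symm
      _ = (ω ^ (q ^ 2)) ^ (q ^ 2) := by rw [← h]
      _ = ω ^ (q ^ 4) := hyz
  -- eigenvector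
  have h2' : (φ e) ^ q * φ e =
      -(ω + ω ^ (q ^ 2) + ω ^ (q ^ 4)) - 2 -
        (ω * ω ^ (q ^ 2) + ω ^ (q ^ 2) * ω ^ (q ^ 4) + ω * ω ^ (q ^ 4)) := by
    have h1 := congrArg φ haq
    simp only [map_sub, map_neg, map_mul, map_pow, map_ofNat] at h1
    linear_combination h1 - hps - hsum
  have hdetB : (!![ω - (φ a + 1), -(φ e) ^ q, -1; -(φ e), ω + 1, 0; -1, 0, ω] :
      Matrix (Fin 3) (Fin 3) (AlgebraicClosure F)).det = 0 := by
    rw [Matrix.det_fin_three]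
    simp
    linear_combination hxyz - (ω ^ 2 + ω) * hsum - ω * h2'
  obtain ⟨v, hv0, hv⟩ := Matrix.exists_mulVec_eq_zero_iff.2 hdetB
  have hAKv : (A.map φ) *ᵥ v = ω • v := by
    have hB : (!![ω - (φ a + 1), -(φ e) ^ q, -1; -(φ e), ω + 1, 0; -1, 0, ω] :
        Matrix (Fin 3) (Fin 3) (AlgebraicClosure F)) =
        ω • (1 : Matrix (Fin 3) (Fin 3) (AlgebraicClosure F)) - A.map φ := by
      rw [hA_def]
      ext i k
      fin_cases i <;> fin_cases k <;> simp [Matrix.one_apply]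
    rw [hB, Matrix.sub_mulVec, sub_eq_zero, Matrix.smul_mulVec, Matrix.one_mulVec] at hv
    exact hv.symm
  have hpowv : ∀ j : ℕ, ((A.map φ) ^ j) *ᵥ v = ω ^ j • v := by
    intro j
    induction j with
    | zero => simp
    | succ j ih =>
      rw [pow_succ, ← Matrix.mulVec_mulVec, hAKv, Matrix.mulVec_smul, ih, smul_smul, pow_succ,
        mul_comm]
  refine ⟨P * A * Pinv, hU, ?_, ?_, ?_⟩
  · rw [Matrix.det_mul, Matrix.det_mul, hdetA, mul_one, ← Matrix.det_mul, hPP, Matrix.det_one]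
  · -- the power is scalar
    have hωN : (ω ^ N) ^ (q ^ 2) = ω ^ N := by
      obtain ⟨c', hc'⟩ := hA3
      have h1 : ω ^ (N * (q ^ 2 - 1)) = 1 := by rw [hc', pow_mul, hω1, one_pow]
      have h2 : N * q ^ 2 = N * (q ^ 2 - 1) + N := by
        rw [Nat.mul_sub_one, Nat.sub_add_cancel (Nat.le_mul_of_pos_right N (by positivity))]
      rw [← pow_mul, h2, pow_add, h1, one_mul]
    obtain ⟨c, hc⟩ := mem_of_pow_card (F := F) (ω ^ N) (by rw [hF]; exact hωN)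
    rw [← hφ] at hc
    refine ⟨c, (hscal N c).2 ?_⟩
    have hyN : (ω ^ (q ^ 2)) ^ N = φ c := by
      rw [← pow_mul, mul_comm, pow_mul, hc, hφfix]
    have hzN : (ω ^ (q ^ 4)) ^ N = φ c := by
      rw [← hyz, pow_right_comm, hyN, hφfix]
    obtain ⟨f, hf⟩ : ∃ f : F[X], f = X ^ 3 - C a * X ^ 2 + C (a ^ q) * X - 1 := ⟨_, rfl⟩
    have hfmap : f.map φ = (X - C ω) * (X - C (ω ^ (q ^ 2))) * (X - C (ω ^ (q ^ 4))) := by
      have hexp : (X - C ω) * (X - C (ω ^ (q ^ 2))) * (X - C (ω ^ (q ^ 4))) =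
          X ^ 3 - C (ω + ω ^ (q ^ 2) + ω ^ (q ^ 4)) * X ^ 2 +
            C (ω * ω ^ (q ^ 2) + ω ^ (q ^ 2) * ω ^ (q ^ 4) + ω * ω ^ (q ^ 4)) * X -
            C (ω * ω ^ (q ^ 2) * ω ^ (q ^ 4)) := by
        simp only [C_add, C_mul]; ring
      rw [hexp, hxyz, ← hsum, ← hps, hf]
      simp
    have hroot : ∀ r : AlgebraicClosure F, r ^ N = φ c →
        (X - C r) ∣ (X ^ N - C (φ c) : (AlgebraicClosure F)[X]) := by
      intro r hr
      rw [Polynomial.dvd_iff_isRoot]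
      simp [hr]
    have hcop1 : IsCoprime (X - C ω : (AlgebraicClosure F)[X]) (X - C (ω ^ (q ^ 2))) :=
      Polynomial.isCoprime_X_sub_C_of_isUnit_sub (sub_ne_zero.2 hne_xy).isUnit
    have hcop2 : IsCoprime (X - C ω : (AlgebraicClosure F)[X]) (X - C (ω ^ (q ^ 4))) :=
      Polynomial.isCoprime_X_sub_C_of_isUnit_sub (sub_ne_zero.2 hne_xz).isUnit
    have hcop3 : IsCoprime (X - C (ω ^ (q ^ 2)) : (AlgebraicClosure F)[X]) (X - C (ω ^ (q ^ 4))) :=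
      Polynomial.isCoprime_X_sub_C_of_isUnit_sub (sub_ne_zero.2 hne_yz).isUnit
    have hdvdK : (X - C ω) * (X - C (ω ^ (q ^ 2))) * (X - C (ω ^ (q ^ 4))) ∣
        (X ^ N - C (φ c) : (AlgebraicClosure F)[X]) :=
      IsCoprime.mul_dvd (IsCoprime.mul_left hcop2 hcop3)
        (IsCoprime.mul_dvd hcop1 (hroot ω hc) (hroot _ hyN)) (hroot _ hzN)
    have hdvd : f ∣ (X ^ N - C c : F[X]) := by
      rw [← Polynomial.map_dvd_map' φ, hfmap]
      simpa using hdvdK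
    obtain ⟨g, hg⟩ := hdvd
    have hfA : Polynomial.aeval A f = 0 := by
      rw [hf]
      have h1 : Polynomial.aeval A (X ^ 3 - C a * X ^ 2 + C (a ^ q) * X - 1 : F[X]) =
          A ^ 3 - a • A ^ 2 + a ^ q • A - 1 := by
        simp only [map_sub, map_add, map_mul, Polynomial.aeval_X_pow, Polynomial.aeval_X,
          Polynomial.aeval_C, map_one, Algebra.smul_def]
      rw [h1, hCH]; abel
    have h9 : Polynomial.aeval A (X ^ N - C c : F[X]) = 0 := by rw [hg, map_mul, hfA, zero_mul]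
    simp only [map_sub, map_pow, Polynomial.aeval_X, Polynomial.aeval_C] at h9
    rw [sub_eq_zero] at h9
    rw [h9, Algebra.algebraMap_eq_smul_one]
  · -- minimality
    intro j hj
    obtain ⟨c, hc⟩ := hj
    rw [hscal] at hc
    have hcK : (A.map φ) ^ j = (φ c) • (1 : Matrix (Fin 3) (Fin 3) (AlgebraicClosure F)) := by
      have h1 : (A ^ j).map φ = (A.map φ) ^ j := by
        rw [← RingHom.mapMatrix_apply, map_pow, RingHom.mapMatrix_apply]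
      rw [← h1, hc]
      ext i k
      by_cases hik : i = k <;> simp [Matrix.one_apply, hik]
    have h2 := hpowv j
    rw [hcK, Matrix.smul_mulVec, Matrix.one_mulVec] at h2
    have h3 : ω ^ j = φ c := by
      obtain ⟨i, hi⟩ : ∃ i, v i ≠ 0 := by
        by_contra hcon
        exact hv0 (funext fun i => not_not.1 fun hi => hcon ⟨i, hi⟩)
      have h4 := congrFun h2 i
      simp only [Pi.smul_apply, smul_eq_mul] at h4
      exact (mul_right_cancel₀ hi h4).symm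
    have h4 : (ω ^ j) ^ (q ^ 2) = ω ^ j := by rw [h3, hφfix]
    have h5 : ω ^ (j * (q ^ 2 - 1)) = 1 := by
      have h6 : ω ^ (j * (q ^ 2 - 1)) * ω ^ j = ω ^ j := by
        rw [← pow_add]
        have h7 : j * (q ^ 2 - 1) + j = j * q ^ 2 := by
          rw [Nat.mul_sub_one, Nat.sub_add_cancel (Nat.le_mul_of_pos_right j (by positivity))]
        rw [h7, pow_mul]; exact h4
      exact mul_right_cancel₀ (pow_ne_zero j hω0) (by rw [h6, one_mul])
    have h7 : (q ^ 2 - q + 1) ∣ j * (q ^ 2 - 1) := by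
      rw [← hord]; exact orderOf_dvd_of_pow_eq_one h5
    exact hA4 j h7

end Cfsg.Agent.Helper7.Psu3d
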