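import Mathlib
import Cfsg.Agent.Helper7.MetaCop
import Cfsg.Agent.S1447
import Cfsg.Agent.S0128
import Cfsg.Agent.S0640
import Cfsg.Agent.Helper26.OrderP3

set_option autoImplicit false
open Cfsg
open scoped commutatorElement

/-! # `p`-groups of rank at most two with a coprime operator group of odd order (helper7) -/

namespace Cfsg.Agent.Helper7.RankTwo

universe u

theorem conj_pow_of {G : Type*} [Group G] (g h w : G) (hgw : g * w = w * g)
    (hc : g * h * g⁻¹ = w * h) (n : ℕ) : g ^ n * h * (g ^ n)⁻¹ = w ^ n * h := by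
  induction n with
  | zero => simp
  | succ n ih =>
    have hgwn : g * w ^ n = w ^ n * g := ((show Commute g w from hgw).pow_right n).eq
    have e1 : g ^ (n + 1) * h * (g ^ (n + 1))⁻¹ = g * (g ^ n * h * (g ^ n)⁻¹) * g⁻¹ := by
      rw [pow_succ']
      generalize g ^ n = gn
      group
    have e2 : g * (w ^ n * h) * g⁻¹ = (g * w ^ n) * h * g⁻¹ := by simp only [mul_assoc]
    have e3 : w ^ n * g * h * g⁻¹ = w ^ n * (g * h * g⁻¹) := by simp only [mul_assoc]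
    rw [e1, ih, e2, hgwn, e3, hc, pow_succ, mul_assoc]

theorem conj_inv_mem {G : Type*} [Group G] {X H : Subgroup G}
    (h : ∀ g ∈ X, ∀ t ∈ H, g * t * g⁻¹ ∈ H) : ∀ g ∈ X, ∀ t ∈ H, g⁻¹ * t * g ∈ H := by
  intro g hg t ht
  have h1 := h g⁻¹ (X.inv_mem hg) t ht
  rwa [inv_inv] at h1

theorem mul_pow_mem {G : Type*} [Group G] (L : Subgroup G) (g : G)
    (hg : ∀ t ∈ L, g⁻¹ * t * g ∈ L) (l : G) (hl : l ∈ L) (N : ℕ) :
    ∃ l' ∈ L, (g * l) ^ N = g ^ N * l' := by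
  induction N with
  | zero => exact ⟨1, L.one_mem, by simp⟩
  | succ N ih =>
    obtain ⟨l', hl', h⟩ := ih
    refine ⟨g⁻¹ * l' * g * l, L.mul_mem (hg l' hl') hl, ?_⟩
    rw [pow_succ, h, pow_succ]
    generalize g ^ N = gN
    group

theorem comm_of_conj_eq {G : Type*} [Group G] {r e x : G} (h : r * x * r⁻¹ = e * x * e⁻¹) :
    (e⁻¹ * r) * x = x * (e⁻¹ * r) := by
  have h2 : (e⁻¹ * r) * x = e⁻¹ * (r * x * r⁻¹) * r := by group
  rw [h2, h]; group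

theorem lt_card' {G : Type*} [Group G] [Finite G] {p : ℕ} [Fact p.Prime] (K : Subgroup G)
    (hK : IsPGroup p K) (H : Subgroup G) (hle : H ≤ K) (hne : H ≠ K) :
    p * Nat.card H ≤ Nat.card K := by
  obtain ⟨j, hj⟩ := (hK.to_le hle).exists_card_eq
  obtain ⟨k, hk⟩ := hK.exists_card_eq
  have hlt : Nat.card H < Nat.card K := by
    by_contra hcon
    exact hne (Subgroup.eq_of_le_of_card_ge hle (not_lt.mp hcon))
  rw [hj, hk] at hlt ⊢
  have hp1 : 1 < p := (Fact.out : p.Prime).one_lt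
  have hjk : j < k := (Nat.pow_lt_pow_iff_right hp1).mp hlt
  calc p * p ^ j = p ^ (j + 1) := by rw [pow_succ, mul_comm]
    _ ≤ p ^ k := Nat.pow_le_pow_right (by omega) hjk

theorem comm_ne' {G : Type*} [Group G] [Finite G] {p : ℕ} [Fact p.Prime] (R : Subgroup G)
    (hR : IsPGroup p R) (N : Subgroup G) (hNR : N ≤ R) (hN : N ≠ ⊥) : ⁅N, R⁆ ≠ N := by
  intro heq
  have h1 : ⁅N.subgroupOf R, (⊤ : Subgroup ↥R)⁆ ≠ N.subgroupOf R := by
    refine Cfsg.Agent.S0128.comm_ne hR (N.subgroupOf R) ?_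
    intro h
    apply hN
    rw [eq_bot_iff]
    intro n hn
    have h2 : (⟨n, hNR hn⟩ : ↥R) ∈ N.subgroupOf R := Subgroup.mem_subgroupOf.mpr hn
    rw [h, Subgroup.mem_bot] at h2
    exact Subgroup.mem_bot.mpr (congrArg Subtype.val h2)
  apply h1
  apply Subgroup.map_injective R.subtype_injective
  rw [Subgroup.map_commutator, Subgroup.map_subgroupOf_eq_of_le hNR, ← MonoidHom.range_eq_map,
    Subgroup.range_subtype, heq]

theorem central_of_card_p {G : Type*} [Group G] [Finite G] {p : ℕ} [Fact p.Prime]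
    (R : Subgroup G) (hR : IsPGroup p R) (Z : Subgroup G) (hZR : Z ≤ R)
    (hnorm : ∀ r ∈ R, ∀ t ∈ Z, r * t * r⁻¹ ∈ Z) (hcard : Nat.card Z ≤ p) :
    ∀ r ∈ R, ∀ t ∈ Z, r * t = t * r := by
  haveI hN : (Z.subgroupOf R).Normal :=
    (Subgroup.normal_subgroupOf_iff_le_normalizer hZR).mpr
      (Cfsg.Agent.Helper7.MetaCop.le_norm_of_conj hnorm)
  have hc : Nat.card ↥(Z.subgroupOf R) ≤ p ^ (0 + 1) := by
    rw [Nat.card_congr (Subgroup.subgroupOfEquivOfLe hZR).toEquiv]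
    simpa using hcard
  have h1 := Cfsg.Agent.S0128.step hR (Z.subgroupOf R) 0 hc
  rw [pow_zero] at h1
  have h2 : ⁅Z.subgroupOf R, (⊤ : Subgroup ↥R)⁆ = ⊥ := Subgroup.eq_bot_of_card_le _ h1
  intro r hr t ht
  have h3 : ⁅(⟨t, hZR ht⟩ : ↥R), (⟨r, hr⟩ : ↥R)⁆ ∈ ⁅Z.subgroupOf R, (⊤ : Subgroup ↥R)⁆ :=
    Subgroup.commutator_mem_commutator (Subgroup.mem_subgroupOf.mpr ht) (Subgroup.mem_top _)
  rw [h2, Subgroup.mem_bot, commutatorElement_eq_one_iff_commute] at h3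
  have h4 := congrArg Subtype.val h3.eq
  exact h4.symm

theorem decomp_index_p {G : Type*} [Group G] [Finite G] {p : ℕ} [Fact p.Prime]
    (H N : Subgroup G) (hNH : N ≤ H) (hnorm : ∀ h ∈ H, ∀ n ∈ N, h * n * h⁻¹ ∈ N)
    (hcard : Nat.card H = p * Nat.card N) (x : G) (hxH : x ∈ H) (hxN : x ∉ N) :
    ∀ h ∈ H, ∃ k : ℕ, ∃ n ∈ N, h = x ^ k * n := by
  haveI hNn : (N.subgroupOf H).Normal :=
    (Subgroup.normal_subgroupOf_iff_le_normalizer hNH).mpr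
      (Cfsg.Agent.Helper7.MetaCop.le_norm_of_conj hnorm)
  have hcN : Nat.card ↥(N.subgroupOf H) = Nat.card ↥N :=
    Nat.card_congr (Subgroup.subgroupOfEquivOfLe hNH).toEquiv
  have hq : Nat.card (↥H ⧸ N.subgroupOf H) = p := by
    have h1 := Subgroup.card_eq_card_quotient_mul_card_subgroup (N.subgroupOf H)
    rw [hcN, hcard] at h1
    exact (Nat.eq_of_mul_eq_mul_right (Nat.card_pos (α := ↥N)) h1).symm
  have hx1 : QuotientGroup.mk' (N.subgroupOf H) ⟨x, hxH⟩ ≠ 1 := by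
    intro h1
    exact hxN (Subgroup.mem_subgroupOf.mp
      (Cfsg.Agent.Helper8.Meta.mem_of_map_eq_one (N.subgroupOf H) h1))
  have htop := zpowers_eq_top_of_prime_card hq hx1
  intro h hh
  have hmem : QuotientGroup.mk' (N.subgroupOf H) ⟨h, hh⟩ ∈
      Subgroup.zpowers (QuotientGroup.mk' (N.subgroupOf H) ⟨x, hxH⟩) := by
    rw [htop]; exact Subgroup.mem_top _
  obtain ⟨k, hk⟩ := Cfsg.Agent.Helper8.Meta.exists_pow_of_mem_zpowers hmem
  have h1 : ((⟨x, hxH⟩ : ↥H) ^ k)⁻¹ * (⟨h, hh⟩ : ↥H) ∈ N.subgroupOf H := by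
    refine Cfsg.Agent.Helper8.Meta.mem_of_map_eq_one (N.subgroupOf H) ?_
    rw [map_mul, map_inv, map_pow, hk, inv_mul_cancel]
  have h2 : (x ^ k)⁻¹ * h ∈ N := Subgroup.mem_subgroupOf.mp h1
  exact ⟨k, (x ^ k)⁻¹ * h, h2, (mul_inv_cancel_left _ _).symm⟩

theorem mem_pow_of_card_p {G : Type*} [Group G] [Finite G] {p : ℕ} [Fact p.Prime]
    (Z : Subgroup G) (hZcard : Nat.card Z = p) (z : G) (hz : z ∈ Z) (hz1 : z ≠ 1) :
    ∀ t ∈ Z, ∃ i : ℕ, t = z ^ i := by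
  intro t ht
  have hne : (⟨z, hz⟩ : ↥Z) ≠ 1 := fun h => hz1 (congrArg Subtype.val h)
  have htop := zpowers_eq_top_of_prime_card hZcard hne
  have hmem : (⟨t, ht⟩ : ↥Z) ∈ Subgroup.zpowers (⟨z, hz⟩ : ↥Z) := by
    rw [htop]; exact Subgroup.mem_top _
  obtain ⟨i, hi⟩ := Cfsg.Agent.Helper8.Meta.exists_pow_of_mem_zpowers hmem
  exact ⟨i, (congrArg Subtype.val hi).symm⟩

theorem conj_mem_comm {G : Type*} [Group G] (H₁ H₂ : Subgroup G) (g : G)
    (h1 : ∀ t ∈ H₁, g * t * g⁻¹ ∈ H₁) (h2 : ∀ t ∈ H₂, g * t * g⁻¹ ∈ H₂) :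
    ∀ k ∈ ⁅H₁, H₂⁆, g * k * g⁻¹ ∈ ⁅H₁, H₂⁆ := by
  have hle : ⁅H₁, H₂⁆ ≤ (⁅H₁, H₂⁆ : Subgroup G).comap (MulAut.conj g).toMonoidHom := by
    rw [Subgroup.commutator_le]
    intro a ha b hb
    show (MulAut.conj g) ⁅a, b⁆ ∈ ⁅H₁, H₂⁆
    have e : (MulAut.conj g) ⁅a, b⁆ = ⁅g * a * g⁻¹, g * b * g⁻¹⁆ := by
      rw [commutatorElement_def, commutatorElement_def, MulAut.conj_apply]
      group
    rw [e]
    exact Subgroup.commutator_mem_commutator (h1 a ha) (h2 b hb)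
  intro k hk
  have h3 : (MulAut.conj g) k ∈ ⁅H₁, H₂⁆ := hle hk
  rwa [MulAut.conj_apply] at h3

theorem conj_mem_centralizer {G : Type*} [Group G] (L : Subgroup G) (g : G)
    (h : ∀ t ∈ L, g⁻¹ * t * g ∈ L) (u : G) (hu : u ∈ Subgroup.centralizer (L : Set G)) :
    g * u * g⁻¹ ∈ Subgroup.centralizer (L : Set G) := by
  rw [Subgroup.mem_centralizer_iff] at hu ⊢
  intro t ht
  have h1 := hu (g⁻¹ * t * g) (h t ht)
  calc t * (g * u * g⁻¹) = g * ((g⁻¹ * t * g) * u) * g⁻¹ := by group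
    _ = g * (u * (g⁻¹ * t * g)) * g⁻¹ := by rw [h1]
    _ = g * u * g⁻¹ * t := by group

theorem dvd_of_pow_mem {G : Type*} [Group G] {p : ℕ} (hpp : p.Prime) (Z : Subgroup G) (y : G)
    (hyp : y ^ p = 1) (hyZ : y ∉ Z) : ∀ n : ℕ, y ^ n ∈ Z → p ∣ n := by
  intro n hn
  by_contra hnd
  have hcop : Nat.Coprime n p := Nat.Coprime.symm ((Nat.Prime.coprime_iff_not_dvd hpp).mpr hnd)
  obtain ⟨m, -, hm⟩ := Nat.exists_mul_mod_eq_one_of_coprime hcop hpp.one_lt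
  apply hyZ
  have e1 : y ^ (n * m) = y := by rw [pow_eq_pow_mod (n * m) hyp, hm, pow_one]
  rw [← e1, pow_mul]
  exact Z.pow_mem hn m

theorem cast_eq_of_pow_mul {G : Type*} [Group G] {p : ℕ} [Fact p.Prime] (Z : Subgroup G) (y : G)
    (hyp : y ^ p = 1) (hyZ : y ∉ Z) {a b : ℕ} {t t' : G} (ht : t ∈ Z) (ht' : t' ∈ Z)
    (h : y ^ a * t = y ^ b * t') : (a : ZMod p) = (b : ZMod p) := by
  have hpp : p.Prime := Fact.out
  obtain ⟨q, hq⟩ : ∃ q, p = q + 1 := ⟨p - 1, by have := hpp.pos; omega⟩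
  have e0 : y ^ (q * b) * y ^ b = 1 := by
    rw [← pow_add, show q * b + b = p * b by rw [hq]; ring, pow_mul, hyp, one_pow]
  have e2 : y ^ a = y ^ b * t' * t⁻¹ := by rw [← h, mul_inv_cancel_right]
  have e1 : y ^ (q * b + a) = t' * t⁻¹ := by
    rw [pow_add, e2, ← mul_assoc, ← mul_assoc, e0, one_mul]
  have h1 : y ^ (q * b + a) ∈ Z := by rw [e1]; exact Z.mul_mem ht' (Z.inv_mem ht)
  have h2 := dvd_of_pow_mem hpp Z y hyp hyZ _ h1
  have h3 : ((q * b + a : ℕ) : ZMod p) = 0 := (ZMod.natCast_eq_zero_iff _ _).mpr h2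
  have h4 : ((q : ℕ) : ZMod p) = -1 := by
    have h5 : ((q + 1 : ℕ) : ZMod p) = 0 := by rw [← hq]; exact ZMod.natCast_self p
    push_cast at h5
    linear_combination h5
  push_cast at h3
  rw [h4] at h3
  linear_combination h3

theorem exists_D {G : Type*} [Group G] (R E Z : Subgroup G)
    (hRE : ∀ r ∈ R, ∀ e ∈ E, r * e * r⁻¹ ∈ E)
    (hRZ : ∀ r ∈ R, ∀ t ∈ Z, r * t = t * r) :
    ∃ D : Subgroup G, ∀ r, r ∈ D ↔ r ∈ R ∧ ∀ e ∈ E, r * e * r⁻¹ * e⁻¹ ∈ Z :=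
  ⟨{ carrier := {r | r ∈ R ∧ ∀ e ∈ E, r * e * r⁻¹ * e⁻¹ ∈ Z}
     mul_mem' := fun {r s} hr hs => ⟨R.mul_mem hr.1 hs.1, fun e he => by
       have h1 := hs.2 e he
       have h2 := hr.2 e he
       have h3 := hRZ r hr.1 _ h1
       have e1 : r * s * e * (r * s)⁻¹ * e⁻¹ = (r * (s * e * s⁻¹ * e⁻¹)) * e * r⁻¹ * e⁻¹ := by
         group
       rw [e1, h3]
       have e2 : s * e * s⁻¹ * e⁻¹ * r * e * r⁻¹ * e⁻¹ =
           (s * e * s⁻¹ * e⁻¹) * (r * e * r⁻¹ * e⁻¹) := by group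
       rw [e2]
       exact Z.mul_mem h1 h2⟩
     one_mem' := ⟨R.one_mem, fun e he => by
       rw [one_mul, inv_one, mul_one, mul_inv_cancel]; exact Z.one_mem⟩
     inv_mem' := fun {r} hr => ⟨R.inv_mem hr.1, fun e he => by
       have h0 := hRE r⁻¹ (R.inv_mem hr.1) e he
       rw [inv_inv] at h0
       have h1 := hr.2 _ h0
       have e1 : r⁻¹ * e * r⁻¹⁻¹ * e⁻¹ = (r * (r⁻¹ * e * r) * r⁻¹ * (r⁻¹ * e * r)⁻¹)⁻¹ := by
         group
       rw [e1]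
       exact Z.inv_mem h1⟩ },
   fun r => Iff.rfl⟩

theorem exists_noncomm {G : Type*} [Group G] (E : Subgroup G)
    (hnc : ¬ ∀ a b : ↥E, a * b = b * a) : ∃ x ∈ E, ∃ y ∈ E, x * y ≠ y * x := by
  by_contra hcon
  apply hnc
  intro a b
  by_contra hab
  exact hcon ⟨a, a.2, b, b.2, fun h => hab (Subtype.ext h)⟩

theorem gen_of_noncomm {G : Type*} [Group G] [Finite G] {p : ℕ} [Fact p.Prime]
    (E Z : Subgroup G) (hE : IsPGroup p E) (hEcard : Nat.card E = p ^ 3) (hZE : Z ≤ E)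
    (hZcard : Nat.card Z = p) (hZc : ∀ t ∈ Z, ∀ e ∈ E, e * t = t * e)
    (x y : G) (hx : x ∈ E) (hy : y ∈ E) (hxy : x * y ≠ y * x) :
    Z ⊔ Subgroup.zpowers x ⊔ Subgroup.zpowers y = E := by
  have hle1 : Z ⊔ Subgroup.zpowers x ≤ E := sup_le hZE (Subgroup.zpowers_le.mpr hx)
  have hle2 : Z ⊔ Subgroup.zpowers x ⊔ Subgroup.zpowers y ≤ E :=
    sup_le hle1 (Subgroup.zpowers_le.mpr hy)
  have hxZ : x ∉ Z := fun h => hxy (hZc x h y hy).symm
  have hne1 : Z ≠ Z ⊔ Subgroup.zpowers x := by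
    intro h
    apply hxZ
    rw [h]
    exact Subgroup.mem_sup_right (Subgroup.mem_zpowers x)
  have hab : ∀ a ∈ Z ⊔ Subgroup.zpowers x, ∀ b ∈ Z ⊔ Subgroup.zpowers x, a * b = b * a :=
    Cfsg.Agent.S0128.comm_adj Z (fun a ha a' ha' => hZc a' ha' a (hZE ha))
      x (fun a ha => (hZc a ha x hx).symm)
  have hyN : y ∉ Z ⊔ Subgroup.zpowers x := fun h =>
    hxy (hab x (Subgroup.mem_sup_right (Subgroup.mem_zpowers x)) y h)
  have hne2 : Z ⊔ Subgroup.zpowers x ≠ Z ⊔ Subgroup.zpowers x ⊔ Subgroup.zpowers y := by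
    intro h
    apply hyN
    rw [h]
    exact Subgroup.mem_sup_right (Subgroup.mem_zpowers y)
  have h1 := lt_card' (Z ⊔ Subgroup.zpowers x) (hE.to_le hle1) Z le_sup_left hne1
  have h2 := lt_card' (Z ⊔ Subgroup.zpowers x ⊔ Subgroup.zpowers y) (hE.to_le hle2)
    (Z ⊔ Subgroup.zpowers x) le_sup_left hne2
  refine Subgroup.eq_of_le_of_card_ge hle2 ?_
  rw [hEcard]
  calc p ^ 3 = p * (p * p) := by ring
    _ = p * (p * Nat.card Z) := by rw [hZcard]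
    _ ≤ p * Nat.card ↥(Z ⊔ Subgroup.zpowers x) := Nat.mul_le_mul_left p h1
    _ ≤ _ := h2

theorem exists_conjAut {G : Type*} [Group G] (R : Subgroup G) (a : G)
    (ha : a ∈ Subgroup.normalizer (R : Set G)) :
    ∃ α : MulAut ↥R, ∀ x : ↥R, ((α x : ↥R) : G) = a * x * a⁻¹ :=
  ⟨{ toFun := fun x => ⟨a * x * a⁻¹, ((Subgroup.mem_normalizer_iff.mp ha) (x : G)).mp x.2⟩
     invFun := fun x => ⟨a⁻¹ * x * a,
       ((Subgroup.mem_normalizer_iff.mp ha) (a⁻¹ * x * a)).mpr (by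
         have e : a * (a⁻¹ * (x : G) * a) * a⁻¹ = x := by group
         rw [e]; exact x.2)⟩
     left_inv := fun x => Subtype.ext (by
       show a⁻¹ * (a * (x : G) * a⁻¹) * a = x
       group)
     right_inv := fun x => Subtype.ext (by
       show a * (a⁻¹ * (x : G) * a) * a⁻¹ = x
       group)
     map_mul' := fun x y => Subtype.ext (by
       show a * ((x : G) * (y : G)) * a⁻¹ = (a * (x : G) * a⁻¹) * (a * (y : G) * a⁻¹)
       group) },
   fun x => rfl⟩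

theorem rank_sub {G : Type*} [Group G] {p : ℕ} (R : Subgroup G) (hr : Cfsg.PRankLE p 2 R)
    (B : Subgroup G) (hBR : B ≤ R) (hB : ∀ a ∈ B, ∀ b ∈ B, a * b = b * a)
    (hBp : ∀ a ∈ B, a ^ p = 1) : Nat.card B ≤ p ^ 2 := by
  have h1 : IsMulCommutative ↥(B.subgroupOf R) :=
    Cfsg.Agent.S0128.isComm_of _ (fun a ha a' ha' =>
      Subtype.ext (hB a.1 (Subgroup.mem_subgroupOf.mp ha) a'.1 (Subgroup.mem_subgroupOf.mp ha')))
  have h2 : ∀ a ∈ B.subgroupOf R, a ^ p = 1 := fun a ha =>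
    Subtype.ext (hBp a.1 (Subgroup.mem_subgroupOf.mp ha))
  have h := hr _ h1 h2
  rwa [Nat.card_congr (Subgroup.subgroupOfEquivOfLe hBR).toEquiv] at h

theorem three_lt {G : Type u} [Group G] [Finite G] (p : ℕ) [Fact p.Prime] (hp : p ≠ 2)
    (R A : Subgroup G) (hR : IsPGroup p R) (hr : Cfsg.PRankLE p 2 R)
    (hA : A ≤ Subgroup.normalizer (R : Set G)) (hcop : (Nat.card A).Coprime p)
    (hAodd : Odd (Nat.card A)) (hRA : ⁅R, A⁆ = R) (hR1 : R ≠ ⊥) : 3 < p := by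
  have hpp : p.Prime := Fact.out
  by_contra hcon
  have hp3 : p ≤ 3 := not_lt.mp hcon
  have hex : ∃ a ∈ A, ∃ x ∈ R, a * x * a⁻¹ ≠ x := by
    by_contra hne
    apply hR1
    rw [← hRA, Subgroup.commutator_eq_bot_iff_le_centralizer]
    intro x hx
    rw [Subgroup.mem_centralizer_iff]
    intro a ha
    by_contra hax
    apply hne
    refine ⟨a, ha, x, hx, fun h => hax ?_⟩
    calc a * x = (a * x * a⁻¹) * a := by group
      _ = x * a := by rw [h]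
  obtain ⟨a, ha, x, hx, hax⟩ := hex
  obtain ⟨α, hα⟩ := exists_conjAut R a (hA ha)
  have hα1 : α ≠ 1 := by
    intro h
    apply hax
    have h1 := hα ⟨x, hx⟩
    rw [h, MulAut.one_apply] at h1
    exact h1.symm
  have hpow : ∀ n : ℕ, ∀ y : ↥R, (((α ^ n) y : ↥R) : G) = a ^ n * y * (a ^ n)⁻¹ := by
    intro n
    induction n with
    | zero => intro y; simp
    | succ n ih =>
      intro y
      rw [pow_succ' α n, MulAut.mul_apply, hα, ih, pow_succ' a n]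
      generalize a ^ n = an
      group
  have haA : a ^ Nat.card A = 1 := by
    have h := pow_card_eq_one' (G := ↥A) (x := ⟨a, ha⟩)
    exact congrArg Subtype.val h
  have hαA : α ^ Nat.card A = 1 := by
    refine MulEquiv.ext (fun y => Subtype.ext ?_)
    rw [hpow, haA, MulAut.one_apply, one_mul, inv_one, mul_one]
  have hord : orderOf α ∣ Nat.card A := orderOf_dvd_of_pow_eq_one hαA
  have hord1 : orderOf α ≠ 1 := fun h => hα1 (orderOf_eq_one_iff.mp h)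
  obtain ⟨q, hq, hqd⟩ := Nat.exists_prime_and_dvd hord1
  have hqA : q ∣ Nat.card A := hqd.trans hord
  have hqp : q ≠ p := by
    intro h
    rw [h] at hqA
    have h1 := Nat.Coprime.eq_one_of_dvd hcop.symm hqA
    exact hpp.one_lt.ne' h1
  have hqAut : q ∣ Nat.card (MulAut ↥R) := hqd.trans (orderOf_dvd_natCard α)
  have h := (Cfsg.Agent.S0640.result hp hR hr q hq hqp hqAut).2
  have hq2 : q = 2 := by have := hq.two_le; omega
  rw [hq2] at hqA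
  obtain ⟨d, hd⟩ := hAodd
  omega

theorem exists_omega {G : Type u} [Group G] [Finite G] (p : ℕ) [Fact p.Prime] (hp3 : 3 < p)
    (R : Subgroup G) (hR : IsPGroup p R) (hr : Cfsg.PRankLE p 2 R) :
    ∃ E : Subgroup G, ∀ g, g ∈ E ↔ g ∈ R ∧ g ^ p = 1 := by
  have hmul := Cfsg.Agent.S0128.main p hp3 (Nat.card ↥R) ↥R rfl hR
    (fun E hE => hr E hE.1 hE.2)
  obtain ⟨S, hS⟩ := Cfsg.Agent.Helper7.PU.exists_sol_subgroup p hmul
  refine ⟨S.map R.subtype, fun g => ⟨?_, ?_⟩⟩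
  · rintro ⟨s, hs, rfl⟩
    exact ⟨s.2, by have h := (hS s).mp hs; exact congrArg Subtype.val h⟩
  · rintro ⟨hg, hgp⟩
    exact ⟨⟨g, hg⟩, (hS _).mpr (Subtype.ext hgp), rfl⟩

theorem good_case {G : Type*} [Group G] [Finite G] {p : ℕ} [Fact p.Prime]
    (R E Z : Subgroup G) (hER : E ≤ R) (hE : IsPGroup p E) (hEcard : Nat.card E = p ^ 3)
    (hEnc : ¬ ∀ a b : ↥E, a * b = b * a)
    (hZE : Z ≤ E) (hZcard : Nat.card Z = p) (hZc : ∀ t ∈ Z, ∀ e ∈ E, e * t = t * e)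
    (hEE : ∀ a ∈ E, ∀ b ∈ E, a * b * a⁻¹ * b⁻¹ ∈ Z)
    (hD : ∀ r ∈ R, ∀ e ∈ E, r * e * r⁻¹ * e⁻¹ ∈ Z) :
    R ≤ E ⊔ (R ⊓ Subgroup.centralizer (E : Set G)) := by
  obtain ⟨x, hx, y, hy, hxy⟩ := exists_noncomm E hEnc
  obtain ⟨z, hzdef⟩ : ∃ z, z = x * y * x⁻¹ * y⁻¹ := ⟨_, rfl⟩
  have hzZ : z ∈ Z := by rw [hzdef]; exact hEE x hx y hy
  have hz1 : z ≠ 1 := by
    intro h
    rw [hzdef] at h
    exact hxy (Cfsg.Agent.Helper7.MetaCop.comm_of_cm_eq_one h)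
  have hgen := mem_pow_of_card_p Z hZcard z hzZ hz1
  have hzx : x * z = z * x := hZc z hzZ x hx
  have hzyi : y⁻¹ * z = z * y⁻¹ := hZc z hzZ y⁻¹ (E.inv_mem hy)
  have hc1 : y⁻¹ * x * (y⁻¹)⁻¹ = z * x := by
    have e1 : y⁻¹ * x * (y⁻¹)⁻¹ = y⁻¹ * (x * y * x⁻¹ * y⁻¹) * y * x := by group
    rw [e1, ← hzdef, hzyi]; group
  have hc2 : x * y * x⁻¹ = z * y := by rw [hzdef]; group
  have hgen' := gen_of_noncomm E Z hE hEcard hZE hZcard hZc x y hx hy hxy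
  intro r hr
  obtain ⟨i, hi⟩ := hgen _ (hD r hr x hx)
  obtain ⟨j, hj⟩ := hgen _ (hD r hr y hy)
  have hrx : r * x * r⁻¹ = z ^ i * x := by rw [← hi]; group
  have hry : r * y * r⁻¹ = z ^ j * y := by rw [← hj]; group
  obtain ⟨e₀, he₀def⟩ : ∃ e₀, e₀ = x ^ j * y⁻¹ ^ i := ⟨_, rfl⟩
  have he₀E : e₀ ∈ E := by
    rw [he₀def]; exact E.mul_mem (E.pow_mem hx j) (E.pow_mem (E.inv_mem hy) i)
  have h1 := conj_pow_of y⁻¹ x z hzyi hc1 i
  have h2 := conj_pow_of x y z hzx hc2 j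
  have hcx : Commute (x ^ j) (z ^ i * x) :=
    (((show Commute x z from hzx).pow_left j).pow_right i).mul_right
      ((Commute.refl x).pow_left j)
  have hex : e₀ * x * e₀⁻¹ = z ^ i * x := by
    have e1 : e₀ * x * e₀⁻¹ = x ^ j * (y⁻¹ ^ i * x * (y⁻¹ ^ i)⁻¹) * (x ^ j)⁻¹ := by
      rw [he₀def]; generalize x ^ j = a; generalize y⁻¹ ^ i = b; group
    rw [e1, h1, hcx.eq, mul_inv_cancel_right]
  have hey : e₀ * y * e₀⁻¹ = z ^ j * y := by
    have hyy : y⁻¹ ^ i * y * (y⁻¹ ^ i)⁻¹ = y := by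
      have hc : Commute (y⁻¹ ^ i) y := ((Commute.refl y).inv_left).pow_left i
      rw [hc.eq, mul_inv_cancel_right]
    have e1 : e₀ * y * e₀⁻¹ = x ^ j * (y⁻¹ ^ i * y * (y⁻¹ ^ i)⁻¹) * (x ^ j)⁻¹ := by
      rw [he₀def]; generalize x ^ j = a; generalize y⁻¹ ^ i = b; group
    rw [e1, hyy, h2]
  have hgx : (e₀⁻¹ * r) * x = x * (e₀⁻¹ * r) := comm_of_conj_eq (hrx.trans hex.symm)
  have hgy : (e₀⁻¹ * r) * y = y * (e₀⁻¹ * r) := comm_of_conj_eq (hry.trans hey.symm)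
  have hgR : e₀⁻¹ * r ∈ R := R.mul_mem (R.inv_mem (hER he₀E)) hr
  have hgz : Commute (e₀⁻¹ * r) z := by
    rw [hzdef]
    have cx : Commute (e₀⁻¹ * r) x := hgx
    have cy : Commute (e₀⁻¹ * r) y := hgy
    exact ((cx.mul_right cy).mul_right cx.inv_right).mul_right cy.inv_right
  have hgZ : ∀ t ∈ Z, t * (e₀⁻¹ * r) = (e₀⁻¹ * r) * t := by
    intro t ht
    obtain ⟨k, rfl⟩ := hgen t ht
    exact (hgz.pow_right k).eq.symm
  have hle : Z ⊔ Subgroup.zpowers x ⊔ Subgroup.zpowers y ≤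
      Subgroup.centralizer ({e₀⁻¹ * r} : Set G) := by
    refine sup_le (sup_le ?_ ?_) ?_
    · intro t ht
      exact Subgroup.mem_centralizer_singleton_iff.mpr (hgZ t ht)
    · rw [Subgroup.zpowers_le]
      exact Subgroup.mem_centralizer_singleton_iff.mpr hgx.symm
    · rw [Subgroup.zpowers_le]
      exact Subgroup.mem_centralizer_singleton_iff.mpr hgy.symm
  have hgC : e₀⁻¹ * r ∈ Subgroup.centralizer (E : Set G) := by
    rw [Subgroup.mem_centralizer_iff]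
    intro e he
    exact Subgroup.mem_centralizer_singleton_iff.mp (hle (by rw [hgen']; exact he))
  have hmem := Subgroup.mul_mem_sup he₀E (Subgroup.mem_inf.mpr ⟨hgR, hgC⟩)
  rwa [mul_inv_cancel_left] at hmem

set_option maxHeartbeats 1600000 in
theorem bad_case {G : Type u} [Group G] [Finite G] (p : ℕ) [Fact p.Prime] (hp : p ≠ 2)
    (hp3 : 3 < p) (R A E Z : Subgroup G) (hR : IsPGroup p R)
    (hA : A ≤ Subgroup.normalizer (R : Set G)) (hcop : (Nat.card A).Coprime p)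
    (hAodd : Odd (Nat.card A)) (hRA : ⁅R, A⁆ = R)
    (hER : E ≤ R) (hEp : ∀ e ∈ E, e ^ p = 1) (hEall : ∀ g ∈ R, g ^ p = 1 → g ∈ E)
    (hEcard : Nat.card E = p ^ 3) (hEnc : ¬ ∀ a b : ↥E, a * b = b * a)
    (hZE : Z ≤ E) (hZcard : Nat.card Z = p) (hZc : ∀ t ∈ Z, ∀ e ∈ E, e * t = t * e)
    (hZall : ∀ e ∈ E, (∀ e' ∈ E, e' * e = e * e') → e ∈ Z)
    (hEE : ∀ a ∈ E, ∀ b ∈ E, a * b * a⁻¹ * b⁻¹ ∈ Z)
    (hRE : ∀ r ∈ R, ∀ e ∈ E, r * e * r⁻¹ ∈ E)
    (hRZ : ∀ r ∈ R, ∀ t ∈ Z, r * t = t * r)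
    (hAE : ∀ a ∈ A, ∀ e ∈ E, a * e * a⁻¹ ∈ E)
    (hAZ : ∀ a ∈ A, ∀ t ∈ Z, a * t * a⁻¹ ∈ Z) :
    ∀ r ∈ R, ∀ e ∈ E, r * e * r⁻¹ * e⁻¹ ∈ Z := by
  classical
  have hpp : p.Prime := Fact.out
  have hp0 : 0 < p := hpp.pos
  have hp1 : 1 < p := hpp.one_lt
  by_contra hbad
  obtain ⟨r₀, hr₀, e₀, he₀, hbad0⟩ : ∃ r₀ ∈ R, ∃ e₀ ∈ E, r₀ * e₀ * r₀⁻¹ * e₀⁻¹ ∉ Z := by
    by_contra hne
    apply hbad
    intro r hr e he
    by_contra h
    exact hne ⟨r, hr, e, he, h⟩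
  have hEpg : IsPGroup p E := hR.to_le hER
  have hE1 : E ≠ ⊥ := by
    intro h
    rw [h, Subgroup.card_bot] at hEcard
    have h1 : 1 < p ^ 3 := Nat.one_lt_pow (by norm_num) hp1
    omega
  obtain ⟨L, hLdef⟩ : ∃ L : Subgroup G, L = ⁅E, R⁆ := ⟨_, rfl⟩
  have hLE : L ≤ E := by
    rw [hLdef, Subgroup.commutator_le]
    intro e he r hr
    rw [commutatorElement_def]
    have h1 := hRE r hr e⁻¹ (E.inv_mem he)
    have e1 : e * r * e⁻¹ * r⁻¹ = e * (r * e⁻¹ * r⁻¹) := by group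
    rw [e1]
    exact E.mul_mem he h1
  have hLmem : ∀ e ∈ E, ∀ r ∈ R, e * r * e⁻¹ * r⁻¹ ∈ L := by
    intro e he r hr
    rw [hLdef, ← commutatorElement_def]
    exact Subgroup.commutator_mem_commutator he hr
  obtain ⟨x₁, hx₁, y₁, hy₁, hxy₁⟩ := exists_noncomm E hEnc
  have hz₁Z : x₁ * y₁ * x₁⁻¹ * y₁⁻¹ ∈ Z := hEE x₁ hx₁ y₁ hy₁
  have hz₁1 : x₁ * y₁ * x₁⁻¹ * y₁⁻¹ ≠ 1 := fun h =>
    hxy₁ (Cfsg.Agent.Helper7.MetaCop.comm_of_cm_eq_one h)
  have hZL : Z ≤ L := by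
    intro t ht
    obtain ⟨i, rfl⟩ := mem_pow_of_card_p Z hZcard _ hz₁Z hz₁1 t ht
    exact L.pow_mem (hLmem x₁ hx₁ y₁ (hER hy₁)) i
  have hLne : L ≠ E := by rw [hLdef]; exact comm_ne' R hR E hER hE1
  have hRL : ∀ r ∈ R, ∀ l ∈ L, r * l * r⁻¹ ∈ L := by
    rw [hLdef]
    intro r hr
    exact conj_mem_comm E R r (hRE r hr)
      (fun t ht => R.mul_mem (R.mul_mem hr ht) (R.inv_mem hr))
  have hAR : ∀ a ∈ A, ∀ r ∈ R, a * r * a⁻¹ ∈ R := fun a ha r hr =>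
    (Subgroup.mem_normalizer_iff.mp (hA ha) r).mp hr
  have hAL : ∀ a ∈ A, ∀ l ∈ L, a * l * a⁻¹ ∈ L := by
    rw [hLdef]
    intro a ha
    exact conj_mem_comm E R a (hAE a ha) (hAR a ha)
  have hLcard : Nat.card L = p * p := by
    have h1 : p * Nat.card L ≤ Nat.card E := lt_card' E hEpg L hLE hLne
    have h2 : Z ≠ L := by
      intro h
      apply hbad0
      rw [h]
      have h3 := L.inv_mem (hLmem e₀ he₀ r₀ hr₀)
      have e1 : (e₀ * r₀ * e₀⁻¹ * r₀⁻¹)⁻¹ = r₀ * e₀ * r₀⁻¹ * e₀⁻¹ := by group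
      rwa [e1] at h3
    have h3 : p * Nat.card Z ≤ Nat.card L := lt_card' L (hEpg.to_le hLE) Z hZL h2
    rw [hZcard] at h3
    rw [hEcard] at h1
    have h4 : Nat.card L ≤ p * p := by
      have h5 : p * Nat.card L ≤ p * (p * p) := by
        rw [show p * (p * p) = p ^ 3 by ring]; exact h1
      exact Nat.le_of_mul_le_mul_left h5 hp0
    omega
  have hLnZ : ¬ L ≤ Z := by
    intro hLZ
    have h1 := Nat.le_of_dvd Nat.card_pos (Subgroup.card_dvd_of_le hLZ)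
    rw [hLcard, hZcard] at h1
    have h2 : p * 2 ≤ p * p := Nat.mul_le_mul_left p hpp.two_le
    omega
  have hLcomm : ∀ l ∈ L, ∀ l' ∈ L, l * l' = l' * l := by
    have hc := IsPGroup.isMulCommutative_of_card_eq_prime_sq (G := ↥L) (p := p)
      (by rw [hLcard, sq])
    intro l hl l' hl'
    exact congrArg Subtype.val (hc.is_comm.comm (⟨l, hl⟩ : ↥L) ⟨l', hl'⟩)
  have hLR : ∀ l ∈ L, ∀ r ∈ R, l * r * l⁻¹ * r⁻¹ ∈ Z := by
    have hle : ⁅L, R⁆ ≤ L := by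
      rw [Subgroup.commutator_le]
      intro l hl r hr
      rw [commutatorElement_def]
      have h1 := hRL r hr l⁻¹ (L.inv_mem hl)
      have e1 : l * r * l⁻¹ * r⁻¹ = l * (r * l⁻¹ * r⁻¹) := by group
      rw [e1]
      exact L.mul_mem hl h1
    have hL1 : L ≠ ⊥ := by
      intro h
      rw [h, Subgroup.card_bot] at hLcard
      have h2 : p ≤ p * p := Nat.le_mul_of_pos_left p hp0
      omega
    have hne : ⁅L, R⁆ ≠ L := comm_ne' R hR L (hLE.trans hER) hL1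
    have hc1 : p * Nat.card ↥⁅L, R⁆ ≤ Nat.card L :=
      lt_card' L (hEpg.to_le hLE) ⁅L, R⁆ hle hne
    have hc2 : Nat.card ↥⁅L, R⁆ ≤ p := by
      rw [hLcard] at hc1
      exact Nat.le_of_mul_le_mul_left hc1 hp0
    have hcen := central_of_card_p R hR ⁅L, R⁆ (hle.trans (hLE.trans hER))
      (fun r hr => conj_mem_comm L R r (hRL r hr)
        (fun t ht => R.mul_mem (R.mul_mem hr ht) (R.inv_mem hr))) hc2
    intro l hl r hr
    have hm : l * r * l⁻¹ * r⁻¹ ∈ ⁅L, R⁆ := by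
      rw [← commutatorElement_def]
      exact Subgroup.commutator_mem_commutator hl hr
    refine hZall _ (hLE (hle hm)) (fun e' he' => ?_)
    exact hcen e' (hER he') _ hm
  have hEL : ∀ e ∈ E, (∀ l ∈ L, l * e = e * l) → e ∈ L := by
    intro e he hc
    by_contra heL
    have hdec := decomp_index_p E L hLE (fun h hh n hn => hRL h (hER hh) n hn)
      (by rw [hEcard, hLcard]; ring) e he heL
    apply hLnZ
    intro l hl
    refine hZall l (hLE hl) (fun e' he' => ?_)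
    obtain ⟨k, n, hn, rfl⟩ := hdec e' he'
    exact (((show Commute e l from (hc l hl).symm).pow_left k).mul_left
      (show Commute n l from hLcomm n hn l hl)).eq
  obtain ⟨M, hMdef⟩ : ∃ M : Subgroup G, M = R ⊓ Subgroup.centralizer (L : Set G) := ⟨_, rfl⟩
  have hMR : M ≤ R := by rw [hMdef]; exact inf_le_left
  have hMc : ∀ u ∈ M, ∀ l ∈ L, l * u = u * l := by
    intro u hu l hl
    rw [hMdef] at hu
    exact Subgroup.mem_centralizer_iff.mp (Subgroup.mem_inf.mp hu).2 l hl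
  have hMmem : ∀ u ∈ R, (∀ l ∈ L, l * u = u * l) → u ∈ M := by
    intro u hu h
    rw [hMdef]
    exact Subgroup.mem_inf.mpr ⟨hu, Subgroup.mem_centralizer_iff.mpr h⟩
  have hLM : L ≤ M := fun l hl =>
    hMmem l (hER (hLE hl)) (fun l' hl' => hLcomm l' hl' l hl)
  have hRM : ∀ r ∈ R, ∀ u ∈ M, r * u * r⁻¹ ∈ M := by
    intro r hr u hu
    refine hMmem _ (R.mul_mem (R.mul_mem hr (hMR hu)) (R.inv_mem hr)) ?_
    have h1 := conj_mem_centralizer L r (conj_inv_mem hRL r hr) u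
      (Subgroup.mem_centralizer_iff.mpr (hMc u hu))
    exact Subgroup.mem_centralizer_iff.mp h1
  have hAM : ∀ a ∈ A, ∀ u ∈ M, a * u * a⁻¹ ∈ M := by
    intro a ha u hu
    refine hMmem _ (hAR a ha u (hMR hu)) ?_
    have h1 := conj_mem_centralizer L a (conj_inv_mem hAL a ha) u
      (Subgroup.mem_centralizer_iff.mpr (hMc u hu))
    exact Subgroup.mem_centralizer_iff.mp h1
  have hMpg : IsPGroup p M := hR.to_le hMR
  have hMsol : Nat.card {u : ↥M // u ^ p = 1} ≤ p ^ 2 := by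
    have hinj : Function.Injective (fun u : {u : ↥M // u ^ p = 1} =>
        (⟨((u.1 : ↥M) : G), hEL _ (hEall _ (hMR u.1.2) (by
            have h := congrArg Subtype.val u.2
            exact h))
          (fun l hl => hMc _ u.1.2 l hl)⟩ : ↥L)) := by
      intro a b h
      exact Subtype.ext (Subtype.ext (by have h' := congrArg Subtype.val h; exact h'))
    have h1 := Nat.card_le_card_of_injective _ hinj
    rw [hLcard] at h1
    rw [sq]; exact h1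
  have hMm : Cfsg.IsMetacyclic ↥M :=
    Cfsg.Agent.Helper7.PU.huppert p hp3 (Nat.card ↥M) ↥M rfl hMpg hMsol
  have hAMn : A ≤ Subgroup.normalizer (M : Set G) :=
    Cfsg.Agent.Helper7.MetaCop.le_norm_of_conj hAM
  obtain ⟨K, hKdef⟩ : ∃ K : Subgroup G, K = ⁅M, A⁆ := ⟨_, rfl⟩
  have hKcomm : ∀ k ∈ K, ∀ k' ∈ K, k * k' = k' * k := by
    have hc := (Cfsg.Agent.S1447.result p hp M A hMpg hMm hAMn hcop).1
    rw [← hKdef] at hc
    intro k hk k' hk'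
    exact congrArg Subtype.val (hc.is_comm.comm (⟨k, hk⟩ : ↥K) ⟨k', hk'⟩)
  have hKM : K ≤ M := by rw [hKdef]; exact Cfsg.Agent.S0026.comm_le A M hAMn
  have hAK : ∀ a ∈ A, ∀ k ∈ K, a * k * a⁻¹ ∈ K := by
    rw [hKdef]
    intro a ha
    exact conj_mem_comm M A a (hAM a ha)
      (fun t ht => A.mul_mem (A.mul_mem ha ht) (A.inv_mem ha))
  have hKmem : ∀ v ∈ M, ∀ a ∈ A, v * a * v⁻¹ * a⁻¹ ∈ K := by
    intro v hv a ha
    rw [hKdef, ← commutatorElement_def]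
    exact Subgroup.commutator_mem_commutator hv ha
  obtain ⟨x, hxE, hxL⟩ : ∃ x ∈ E, x ∉ L := by
    by_contra hne
    apply hLne
    refine le_antisymm hLE (fun e he => ?_)
    by_contra h
    exact hne ⟨e, he, h⟩
  have hxR : x ∈ R := hER hxE
  have hxp : x ^ p = 1 := hEp x hxE
  have hEdec : ∀ e ∈ E, ∃ k : ℕ, ∃ l ∈ L, e = x ^ k * l :=
    decomp_index_p E L hLE (fun h hh n hn => hRL h (hER hh) n hn)
      (by rw [hEcard, hLcard]; ring) x hxE hxL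
  obtain ⟨D, hD⟩ := exists_D R E Z hRE hRZ
  have hED : E ≤ D := fun e he => (hD e).mpr ⟨hER he, fun e' he' => hEE e he e' he'⟩
  have hr₀D : r₀ ∉ D := fun h => hbad0 (((hD r₀).mp h).2 e₀ he₀)
  have hAD : ∀ a ∈ A, ∀ d ∈ D, a * d * a⁻¹ ∈ D := by
    intro a ha d hd
    obtain ⟨hdR, hdE⟩ := (hD d).mp hd
    refine (hD _).mpr ⟨hAR a ha d hdR, fun e he => ?_⟩
    have he' : a⁻¹ * e * a ∈ E := conj_inv_mem hAE a ha e he
    have h1 := hAZ a ha _ (hdE _ he')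
    have e1 : a * d * a⁻¹ * e * (a * d * a⁻¹)⁻¹ * e⁻¹ =
        a * (d * (a⁻¹ * e * a) * d⁻¹ * (a⁻¹ * e * a)⁻¹) * a⁻¹ := by group
    rw [e1]
    exact h1
  have hθL : ∀ u ∈ R, x * u * x⁻¹ * u⁻¹ ∈ L := fun u hu => hLmem x hxE u hu
  have hθmul : ∀ u ∈ M, ∀ v ∈ M, x * (u * v) * x⁻¹ * (u * v)⁻¹ =
      (x * u * x⁻¹ * u⁻¹) * (x * v * x⁻¹ * v⁻¹) := by
    intro u hu v hv
    have h1 := hMc u hu _ (hθL v (hMR hv))
    have e1 : x * (u * v) * x⁻¹ * (u * v)⁻¹ =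
        (x * u * x⁻¹ * u⁻¹) * (u * (x * v * x⁻¹ * v⁻¹)) * u⁻¹ := by group
    rw [e1, ← h1]; group
  have hθpow : ∀ u ∈ M, ∀ n : ℕ, x * u ^ n * x⁻¹ * (u ^ n)⁻¹ = (x * u * x⁻¹ * u⁻¹) ^ n := by
    intro u hu n
    induction n with
    | zero => simp
    | succ n ih =>
      rw [pow_succ u n, hθmul _ (M.pow_mem hu n) u hu, ih, pow_succ]
  have hθD : ∀ u ∈ M, x * u * x⁻¹ * u⁻¹ ∈ Z → u ∈ D := by
    intro u hu hz
    refine (hD u).mpr ⟨hMR hu, fun e he => ?_⟩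
    obtain ⟨k, l, hl, rfl⟩ := hEdec e he
    have hul : l * u = u * l := hMc u hu l hl
    obtain ⟨t, htdef⟩ : ∃ t, t = x * u * x⁻¹ * u⁻¹ := ⟨_, rfl⟩
    rw [← htdef] at hz
    have hux : u * x * u⁻¹ = t⁻¹ * x := by rw [htdef]; group
    have hxt : Commute t⁻¹ x := (show Commute x t⁻¹ from hZc t⁻¹ (Z.inv_mem hz) x hxE).symm
    have h1 : u * x ^ k * u⁻¹ = t⁻¹ ^ k * x ^ k := by
      rw [← conj_pow, hux, hxt.mul_pow]
    have e1 : u * (x ^ k * l) * u⁻¹ * (x ^ k * l)⁻¹ =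
        (u * x ^ k * u⁻¹) * (u * l) * u⁻¹ * l⁻¹ * (x ^ k)⁻¹ := by
      generalize x ^ k = a; group
    rw [e1, ← hul, h1]
    have e2 : t⁻¹ ^ k * x ^ k * (l * u) * u⁻¹ * l⁻¹ * (x ^ k)⁻¹ = t⁻¹ ^ k := by
      generalize x ^ k = a; generalize t⁻¹ ^ k = b; group
    rw [e2]
    exact Z.pow_mem (Z.inv_mem hz) k
  have hDθ : ∀ u ∈ D, x * u * x⁻¹ * u⁻¹ ∈ Z := by
    intro u hu
    have h1 := Z.inv_mem (((hD u).mp hu).2 x hxE)
    have e1 : (u * x * u⁻¹ * x⁻¹)⁻¹ = x * u * x⁻¹ * u⁻¹ := by group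
    rwa [e1] at h1
  have hLZnorm : ∀ h ∈ L, ∀ n ∈ Z, h * n * h⁻¹ ∈ Z := by
    intro h hh n hn
    rw [hZc n hn h (hLE hh), mul_inv_cancel_right]
    exact hn
  have hLdecG : ∀ y ∈ L, y ∉ Z → ∀ l ∈ L, ∃ j : ℕ, ∃ t ∈ Z, l = y ^ j * t :=
    fun y hy hyZ => decomp_index_p L Z hZL hLZnorm (by rw [hLcard, hZcard]) y hy hyZ
  have hzne : ∀ y ∈ L, y ∉ Z → x * y * x⁻¹ * y⁻¹ ≠ 1 := by
    intro y hy hyZ h1
    have hxy : x * y = y * x := Cfsg.Agent.Helper7.MetaCop.comm_of_cm_eq_one h1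
    apply hxL
    refine hEL x hxE (fun l hl => ?_)
    obtain ⟨j, t, ht, rfl⟩ := hLdecG y hy hyZ l hl
    exact (((show Commute y x from hxy.symm).pow_left j).mul_left
      (show Commute t x from (hZc t ht x hxE).symm)).eq
  obtain ⟨y₀, hy₀L, hy₀Z⟩ : ∃ y₀ ∈ L, y₀ ∉ Z := by
    by_contra hne
    apply hLnZ
    intro l hl
    by_contra h
    exact hne ⟨l, hl, h⟩
  obtain ⟨z₀, hz₀def⟩ : ∃ z₀, z₀ = x * y₀ * x⁻¹ * y₀⁻¹ := ⟨_, rfl⟩
  have hz₀Z : z₀ ∈ Z := by rw [hz₀def]; exact hEE x hxE y₀ (hLE hy₀L)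
  have hz₀1 : z₀ ≠ 1 := by rw [hz₀def]; exact hzne y₀ hy₀L hy₀Z
  have hZgen₀ := mem_pow_of_card_p Z hZcard z₀ hz₀Z hz₀1
  have hxz₀ : x * z₀ = z₀ * x := hZc z₀ hz₀Z x hxE
  have hxy₀ : x * y₀ * x⁻¹ = z₀ * y₀ := by rw [hz₀def]; group
  have hRdec : ∀ r ∈ R, ∃ i : ℕ, ∃ v ∈ M, r = x ^ i * v := by
    intro r hr
    have h1 : r * y₀ * r⁻¹ * y₀⁻¹ ∈ Z := by
      have h2 := Z.inv_mem (hLR y₀ hy₀L r hr)
      have e1 : (y₀ * r * y₀⁻¹ * r⁻¹)⁻¹ = r * y₀ * r⁻¹ * y₀⁻¹ := by group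
      rwa [e1] at h2
    obtain ⟨i, hi⟩ := hZgen₀ _ h1
    have hry : r * y₀ * r⁻¹ = z₀ ^ i * y₀ := by rw [← hi]; group
    have hxi := conj_pow_of x y₀ z₀ hxz₀ hxy₀ i
    have hv : ((x ^ i)⁻¹ * r) * y₀ = y₀ * ((x ^ i)⁻¹ * r) :=
      comm_of_conj_eq (hry.trans hxi.symm)
    have hvR : (x ^ i)⁻¹ * r ∈ R := R.mul_mem (R.inv_mem (R.pow_mem hxR i)) hr
    refine ⟨i, (x ^ i)⁻¹ * r, hMmem _ hvR (fun l hl => ?_), (mul_inv_cancel_left _ _).symm⟩
    obtain ⟨j, t, ht, rfl⟩ := hLdecG y₀ hy₀L hy₀Z l hl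
    exact (((show Commute y₀ ((x ^ i)⁻¹ * r) from hv.symm).pow_left j).mul_left
      (show Commute t ((x ^ i)⁻¹ * r) from (hRZ _ hvR t ht).symm)).eq
  have hKD : ¬ K ≤ D := by
    intro hKD
    apply hr₀D
    have hle : ⁅R, A⁆ ≤ D := by
      rw [Subgroup.commutator_le]
      intro r hr a ha
      obtain ⟨i, v, hv, rfl⟩ := hRdec r hr
      rw [commutatorElement_def]
      have h1 : v * a * v⁻¹ * a⁻¹ ∈ D := hKD (hKmem v hv a ha)
      have h2 : x ^ i ∈ D := hED (E.pow_mem hxE i)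
      have h3 : a * (x ^ i)⁻¹ * a⁻¹ ∈ D := hED (hAE a ha _ (E.inv_mem (E.pow_mem hxE i)))
      have e1 : x ^ i * v * a * (x ^ i * v)⁻¹ * a⁻¹ =
          x ^ i * (v * a * v⁻¹ * a⁻¹) * (a * (x ^ i)⁻¹ * a⁻¹) := by
        generalize x ^ i = b; group
      rw [e1]
      exact D.mul_mem (D.mul_mem h2 h1) h3
    rw [hRA] at hle
    exact hle hr₀
  obtain ⟨u₀, hu₀K, hu₀D⟩ : ∃ u₀ ∈ K, u₀ ∉ D := by
    by_contra hne
    apply hKD
    intro k hk
    by_contra h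
    exact hne ⟨k, hk, h⟩
  have hex : ∃ j : ℕ, ∃ r ∈ K, r ∉ D ∧ r ^ (p ^ j) = 1 := by
    obtain ⟨k, hk⟩ := hR ⟨u₀, hMR (hKM hu₀K)⟩
    exact ⟨k, u₀, hu₀K, hu₀D, congrArg Subtype.val hk⟩
  obtain ⟨r, hrK, hrD, hrj⟩ := Nat.find_spec hex
  have hmin : ∀ j < Nat.find hex, ∀ u ∈ K, u ∉ D → u ^ (p ^ j) ≠ 1 :=
    fun j hj u hu hud h => Nat.find_min hex hj ⟨u, hu, hud, h⟩
  have hrM : r ∈ M := hKM hrK
  have hrR : r ∈ R := hMR hrM
  obtain ⟨ee, hee⟩ : ∃ ee : ℕ, Nat.find hex = ee + 2 := by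
    have h0 : Nat.find hex ≠ 0 := by
      intro h
      rw [h, pow_zero, pow_one] at hrj
      exact hrD (by rw [hrj]; exact D.one_mem)
    have h1 : Nat.find hex ≠ 1 := by
      intro h
      rw [h, pow_one] at hrj
      exact hrD (hED (hEall r hrR hrj))
    exact ⟨Nat.find hex - 2, by omega⟩
  rw [hee] at hrj
  obtain ⟨P, hPdef⟩ : ∃ P : ℕ, P = p ^ (ee + 1) := ⟨_, rfl⟩
  have hPp : P * p = p ^ (ee + 2) := by rw [hPdef]; ring
  have hPp' : P = p * p ^ ee := by rw [hPdef]; ring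
  have hmin' : ∀ u ∈ K, u ∉ D → u ^ P ≠ 1 := fun u hu hud => by
    rw [hPdef]; exact hmin (ee + 1) (by omega) u hu hud
  obtain ⟨w, hwdef⟩ : ∃ w, w = r ^ P := ⟨_, rfl⟩
  have hwp : w ^ p = 1 := by rw [hwdef, ← pow_mul, hPp]; exact hrj
  have hw1 : w ≠ 1 := by rw [hwdef]; exact hmin' r hrK hrD
  have hwK : w ∈ K := by rw [hwdef]; exact K.pow_mem hrK P
  have hwE : w ∈ E := hEall w (hMR (hKM hwK)) hwp
  obtain ⟨y, hydef⟩ : ∃ y, y = x * r * x⁻¹ * r⁻¹ := ⟨_, rfl⟩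
  have hyL : y ∈ L := by rw [hydef]; exact hθL r hrR
  have hyZ : y ∉ Z := by
    intro h
    rw [hydef] at h
    exact hrD (hθD r hrM h)
  have hyp : y ^ p = 1 := hEp y (hLE hyL)
  have hpowp : ∀ u ∈ M, x * u ^ p = u ^ p * x := by
    intro u hu
    have h1 := hθpow u hu p
    rw [hEp _ (hLE (hθL u (hMR hu)))] at h1
    exact Cfsg.Agent.Helper7.MetaCop.comm_of_cm_eq_one h1
  have hpowC : ∀ u ∈ M, ∀ n : ℕ, ∀ e ∈ E, e * (u ^ p) ^ n = (u ^ p) ^ n * e := by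
    intro u hu n e he
    obtain ⟨k, l, hl, rfl⟩ := hEdec e he
    have c1 : Commute x (u ^ p) := hpowp u hu
    have c2 : Commute l (u ^ p) := hMc _ (M.pow_mem hu p) l hl
    exact (((c1.pow_left k).mul_left c2).pow_right n).eq
  have hwZ : w ∈ Z := by
    refine hZall w hwE (fun e' he' => ?_)
    have h1 := hpowC r hrM (p ^ ee) e' he'
    rw [← pow_mul, ← hPp'] at h1
    rw [hwdef]; exact h1
  have hZgenw := mem_pow_of_card_p Z hZcard w hwZ hw1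
  obtain ⟨z, hzdef⟩ : ∃ z, z = x * y * x⁻¹ * y⁻¹ := ⟨_, rfl⟩
  have hzZ : z ∈ Z := by rw [hzdef]; exact hEE x hxE y (hLE hyL)
  have hz1 : z ≠ 1 := by rw [hzdef]; exact hzne y hyL hyZ
  have hzp : z ^ p = 1 := hEp z (hZE hzZ)
  have hLdec := hLdecG y hyL hyZ
  have hxz : x * z = z * x := hZc z hzZ x hxE
  have hyz : Commute z y := (show Commute y z from hZc z hzZ y (hLE hyL)).symm
  have hxyz : x * y * x⁻¹ = z * y := by rw [hzdef]; group
  have hbil : ∀ k j : ℕ, x ^ k * y ^ j * (x ^ k)⁻¹ = z ^ (k * j) * y ^ j := by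
    intro k j
    have h1 := conj_pow_of x y z hxz hxyz k
    rw [← conj_pow, h1, (hyz.pow_left k).mul_pow, ← pow_mul]
  have hCL : ∀ u ∈ M, ∀ k : ℕ, ∃ t ∈ Z,
      x ^ k * u * (x ^ k)⁻¹ * u⁻¹ = (x * u * x⁻¹ * u⁻¹) ^ k * t := by
    intro u hu k
    obtain ⟨θ, hθdef⟩ : ∃ θ, θ = x * u * x⁻¹ * u⁻¹ := ⟨_, rfl⟩
    have hθE : θ ∈ E := by rw [hθdef]; exact hLE (hθL u (hMR hu))
    rw [← hθdef]
    induction k with
    | zero => exact ⟨1, Z.one_mem, by simp⟩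
    | succ k ih =>
      obtain ⟨t, ht, h⟩ := ih
      have hc : x * θ ^ k * x⁻¹ * (θ ^ k)⁻¹ ∈ Z := hEE x hxE _ (E.pow_mem hθE k)
      obtain ⟨c, hcdef⟩ : ∃ c, c = x * θ ^ k * x⁻¹ * (θ ^ k)⁻¹ := ⟨_, rfl⟩
      rw [← hcdef] at hc
      have hxt : x * t = t * x := hZc t ht x hxE
      have hcθ : Commute c (θ ^ k) :=
        ((show Commute θ c from hZc c hc θ hθE).symm).pow_right k
      have htθ : Commute t θ := (show Commute θ t from hZc t ht θ hθE).symm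
      have hcθ1 : c * θ = θ * c := (hZc c hc θ hθE).symm
      refine ⟨c * t, Z.mul_mem hc ht, ?_⟩
      have e1 : x ^ (k + 1) * u * (x ^ (k + 1))⁻¹ * u⁻¹ =
          x * (x ^ k * u * (x ^ k)⁻¹ * u⁻¹) * x⁻¹ * (x * u * x⁻¹ * u⁻¹) := by
        rw [pow_succ']; generalize x ^ k = a; group
      rw [e1, h, ← hθdef]
      have e2 : x * (θ ^ k * t) * x⁻¹ * θ =
          (x * θ ^ k * x⁻¹ * (θ ^ k)⁻¹) * θ ^ k * (x * t) * x⁻¹ * θ := by
        generalize θ ^ k = b; group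
      rw [e2, ← hcdef, hxt]
      have e3 : c * θ ^ k * (t * x) * x⁻¹ * θ = (c * θ ^ k) * (t * θ) := by
        generalize θ ^ k = b; group
      rw [e3, hcθ.eq, htθ.eq, pow_succ]
      have e4 : θ ^ k * c * (θ * t) = θ ^ k * ((c * θ) * t) := by simp only [mul_assoc]
      rw [e4, hcθ1]
      simp only [mul_assoc]
  have hk2 : ∀ a ∈ A, ∀ k : ℕ, ∀ l ∈ L, a * x * a⁻¹ = x ^ k * l →
      (k : ZMod p) * (k : ZMod p) = 1 := by
    intro a ha k l hl hax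
    have harK : a * r * a⁻¹ ∈ K := hAK a ha r hrK
    have harM : a * r * a⁻¹ ∈ M := hKM harK
    obtain ⟨m, t₁, ht₁, hm⟩ := hLdec _ (hθL _ (hMR harM))
    obtain ⟨n, hndef⟩ : ∃ n, n = (r ^ m)⁻¹ * (a * r * a⁻¹) := ⟨_, rfl⟩
    have hnK : n ∈ K := by
      rw [hndef]; exact K.mul_mem (K.inv_mem (K.pow_mem hrK m)) harK
    have hnM : n ∈ M := hKM hnK
    have har : a * r * a⁻¹ = r ^ m * n := by rw [hndef, mul_inv_cancel_left]
    have hθn : x * n * x⁻¹ * n⁻¹ = t₁ := by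
      have h1 := hθmul (r ^ m) (M.pow_mem hrM m) n hnM
      rw [← har, hm, hθpow r hrM m, ← hydef] at h1
      exact (mul_left_cancel h1).symm
    have hmp : ¬ p ∣ m := by
      intro hdvd
      obtain ⟨c, hc⟩ := hdvd
      apply hrD
      have h1 : x * (a * r * a⁻¹) * x⁻¹ * (a * r * a⁻¹)⁻¹ ∈ Z := by
        rw [hm, hc, pow_mul, hyp, one_pow, one_mul]; exact ht₁
      have h2 : a * r * a⁻¹ ∈ D := hθD _ harM h1
      have h3 := hAD a⁻¹ (A.inv_mem ha) _ h2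
      have e1 : a⁻¹ * (a * r * a⁻¹) * a⁻¹⁻¹ = r := by group
      rwa [e1] at h3
    have hcommP : (r ^ m) ^ P = (r ^ P) ^ m := by
      rw [← pow_mul, ← pow_mul, mul_comm m P]
    have haw : a * w * a⁻¹ = w ^ m * n ^ P := by
      rw [hwdef, ← conj_pow, har,
        (show Commute (r ^ m) n from hKcomm _ (K.pow_mem hrK m) n hnK).mul_pow, hcommP]
    have hνZ : n ^ P ∈ Z := by
      have h1 : a * w * a⁻¹ ∈ Z := hAZ a ha w hwZ
      rw [haw] at h1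
      have h2 := Z.mul_mem (Z.inv_mem (Z.pow_mem hwZ m)) h1
      rwa [inv_mul_cancel_left] at h2
    have hν1 : n ^ P = 1 := by
      by_contra hne
      obtain ⟨c, hc⟩ := hZgenw _ hνZ
      obtain ⟨q, s, hs, hcq⟩ : ∃ q s : ℕ, s < p ∧ c = p * q + s :=
        ⟨c / p, c % p, Nat.mod_lt c hp0, (Nat.div_add_mod c p).symm⟩
      have hs0 : s ≠ 0 := by
        intro h
        apply hne
        rw [hc, hcq, h, add_zero, pow_mul, hwp, one_pow]
      have huK : r ^ (p - s) * n ∈ K := K.mul_mem (K.pow_mem hrK _) hnK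
      have huD : r ^ (p - s) * n ∉ D := by
        intro hd
        have h1 := hDθ _ hd
        rw [hθmul (r ^ (p - s)) (M.pow_mem hrM (p - s)) n hnM, hθpow r hrM (p - s),
          ← hydef, hθn] at h1
        have h2 := Z.mul_mem h1 (Z.inv_mem ht₁)
        rw [mul_inv_cancel_right] at h2
        have h3 := dvd_of_pow_mem hpp Z y hyp hyZ _ h2
        have h4 := Nat.le_of_dvd (by omega) h3
        omega
      apply hmin' _ huK huD
      have e1 : (r ^ (p - s) * n) ^ P = w ^ (p - s + c) := by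
        rw [(show Commute (r ^ (p - s)) n from hKcomm _ (K.pow_mem hrK _) n hnK).mul_pow,
          ← pow_mul, mul_comm (p - s) P, pow_mul, ← hwdef, hc, ← pow_add]
      have e2 : p - s + c = p * (1 + q) := by rw [hcq, mul_add, mul_one]; omega
      rw [e1, e2, pow_mul, hwp, one_pow]
    have haw' : a * w * a⁻¹ = w ^ m := by rw [haw, hν1, mul_one]
    have haZ : ∀ t ∈ Z, a * t * a⁻¹ = t ^ m := by
      intro t ht
      obtain ⟨c, rfl⟩ := hZgenw t ht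
      rw [← conj_pow, haw', ← pow_mul, ← pow_mul, mul_comm m c]
    have hay : ∃ t₂ ∈ Z, a * y * a⁻¹ = y ^ (m * k) * t₂ := by
      obtain ⟨t', ht', hcl⟩ := hCL _ harM k
      rw [hm] at hcl
      have hlU : l * (a * r * a⁻¹) = (a * r * a⁻¹) * l := hMc _ harM l hl
      have e1 : a * y * a⁻¹ =
          (a * x * a⁻¹) * (a * r * a⁻¹) * (a * x * a⁻¹)⁻¹ * (a * r * a⁻¹)⁻¹ := by
        rw [hydef]; group
      have e2 : x ^ k * l * (a * r * a⁻¹) * (x ^ k * l)⁻¹ * (a * r * a⁻¹)⁻¹ =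
          x ^ k * (l * (a * r * a⁻¹)) * l⁻¹ * (x ^ k)⁻¹ * (a * r * a⁻¹)⁻¹ := by
        generalize x ^ k = b; group
      have e3 : x ^ k * ((a * r * a⁻¹) * l) * l⁻¹ * (x ^ k)⁻¹ * (a * r * a⁻¹)⁻¹ =
          x ^ k * (a * r * a⁻¹) * (x ^ k)⁻¹ * (a * r * a⁻¹)⁻¹ := by
        generalize x ^ k = b; group
      have ht₁y : Commute (y ^ m) t₁ :=
        (show Commute y t₁ from hZc t₁ ht₁ y (hLE hyL)).pow_left m
      refine ⟨t₁ ^ k * t', Z.mul_mem (Z.pow_mem ht₁ k) ht', ?_⟩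
      rw [e1, hax, e2, hlU, e3, hcl, ht₁y.mul_pow, ← pow_mul, mul_assoc]
    obtain ⟨t₂, ht₂, hay⟩ := hay
    have haz : a * z * a⁻¹ = z ^ (k * (m * k)) := by
      have hYL : y ^ (m * k) * t₂ ∈ L := L.mul_mem (L.pow_mem hyL _) (hZL ht₂)
      have hlY : l * (y ^ (m * k) * t₂) = (y ^ (m * k) * t₂) * l := hLcomm l hl _ hYL
      have hxt₂ : x ^ k * t₂ = t₂ * x ^ k :=
        ((show Commute x t₂ from hZc t₂ ht₂ x hxE).pow_left k).eq
      have hb := hbil k (m * k)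
      have e1 : a * z * a⁻¹ =
          (a * x * a⁻¹) * (a * y * a⁻¹) * (a * x * a⁻¹)⁻¹ * (a * y * a⁻¹)⁻¹ := by
        rw [hzdef]; group
      rw [e1, hax, hay]
      have e2 : x ^ k * l * (y ^ (m * k) * t₂) * (x ^ k * l)⁻¹ * (y ^ (m * k) * t₂)⁻¹ =
          x ^ k * (l * (y ^ (m * k) * t₂)) * l⁻¹ * (x ^ k)⁻¹ * (y ^ (m * k) * t₂)⁻¹ := by
        generalize x ^ k = b; generalize y ^ (m * k) * t₂ = Y; group
      rw [e2, hlY]
      have e3 : x ^ k * (y ^ (m * k) * t₂ * l) * l⁻¹ * (x ^ k)⁻¹ * (y ^ (m * k) * t₂)⁻¹ =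
          (x ^ k * y ^ (m * k) * (x ^ k)⁻¹) * (x ^ k * t₂) * (x ^ k)⁻¹ *
            (y ^ (m * k) * t₂)⁻¹ := by
        generalize x ^ k = b; generalize y ^ (m * k) = c; group
      rw [e3, hb, hxt₂]
      generalize x ^ k = b; generalize y ^ (m * k) = c; generalize z ^ (k * (m * k)) = d
      group
    have h5 : z ^ m = z ^ (k * (m * k)) := by rw [← haZ z hzZ]; exact haz
    have h6 : (m : ZMod p) = ((k * (m * k) : ℕ) : ZMod p) :=
      cast_eq_of_pow_mul (⊥ : Subgroup G) z hzp (fun h => hz1 (Subgroup.mem_bot.mp h))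
        (Subgroup.one_mem _) (Subgroup.one_mem _) (by rw [mul_one, mul_one]; exact h5)
    push_cast at h6
    have hm0 : (m : ZMod p) ≠ 0 := fun h => hmp ((ZMod.natCast_eq_zero_iff m p).mp h)
    have h7 : (m : ZMod p) * ((k : ZMod p) * (k : ZMod p)) = (m : ZMod p) * 1 := by
      rw [mul_one]; linear_combination (-1 : ZMod p) * h6
    exact mul_left_cancel₀ hm0 h7
  have hA1 : ∀ a ∈ A, ∃ l ∈ L, a * x * a⁻¹ = x * l := by
    intro a ha
    obtain ⟨d, hd⟩ := hAodd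
    have haA : a ^ Nat.card A = 1 := by
      have h := pow_card_eq_one' (G := ↥A) (x := ⟨a, ha⟩)
      exact congrArg Subtype.val h
    obtain ⟨b, hbdef⟩ : ∃ b, b = a ^ (d + 1) := ⟨_, rfl⟩
    have hbA : b ∈ A := by rw [hbdef]; exact A.pow_mem ha _
    have hbb : b * b = a := by
      rw [hbdef, ← pow_add, show d + 1 + (d + 1) = Nat.card A + 1 by omega, pow_succ, haA,
        one_mul]
    obtain ⟨k, l, hl, hbx⟩ := hEdec _ (hAE b hbA x hxE)
    have hkk := hk2 b hbA k l hl hbx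
    have hxkL : ∀ t ∈ L, (x ^ k)⁻¹ * t * x ^ k ∈ L := fun t ht =>
      conj_inv_mem hRL (x ^ k) (R.pow_mem hxR k) t ht
    obtain ⟨l', hl', hpw⟩ := mul_pow_mem L (x ^ k) hxkL l hl k
    have hxkk : (x ^ k) ^ k = x := by
      have h1 : (k * k) % p = 1 := by
        have h2 : ((k * k : ℕ) : ZMod p) = ((1 : ℕ) : ZMod p) := by push_cast; exact hkk
        have h3 := (ZMod.natCast_eq_natCast_iff' (k * k) 1 p).mp h2
        rw [h3, Nat.mod_eq_of_lt hp1]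
      rw [← pow_mul, pow_eq_pow_mod (k * k) hxp, h1, pow_one]
    refine ⟨l' * (b * l * b⁻¹), L.mul_mem hl' (hAL b hbA l hl), ?_⟩
    have e1 : a * x * a⁻¹ = b * (b * x * b⁻¹) * b⁻¹ := by rw [← hbb]; group
    have e2 : b * (x ^ k * l) * b⁻¹ = (b * x * b⁻¹) ^ k * (b * l * b⁻¹) := by
      rw [conj_pow]; generalize x ^ k = c; group
    rw [e1, hbx, e2, hbx, hpw, hxkk, mul_assoc]
  have hfinal : ⁅R, A⁆ ≤ M := by
    rw [Subgroup.commutator_le]
    intro g hg a ha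
    rw [commutatorElement_def]
    obtain ⟨i, v, hv, rfl⟩ := hRdec g hg
    obtain ⟨l, hl, hax⟩ := hA1 a ha
    have hPx : x * a * x⁻¹ * a⁻¹ ∈ M := by
      have e1 : x * a * x⁻¹ * a⁻¹ = x * (a * x * a⁻¹)⁻¹ := by group
      rw [e1, hax]
      have e2 : x * (x * l)⁻¹ = x * l⁻¹ * x⁻¹ := by group
      rw [e2]
      exact hLM (hRL x hxR _ (L.inv_mem hl))
    have hPpow : ∀ j : ℕ, x ^ j * a * (x ^ j)⁻¹ * a⁻¹ ∈ M := by
      intro j
      induction j with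
      | zero =>
        rw [pow_zero, one_mul, inv_one, mul_one, mul_inv_cancel]; exact M.one_mem
      | succ j ih =>
        have e1 : x ^ (j + 1) * a * (x ^ (j + 1))⁻¹ * a⁻¹ =
            (x ^ j * (x * a * x⁻¹ * a⁻¹) * (x ^ j)⁻¹) * (x ^ j * a * (x ^ j)⁻¹ * a⁻¹) := by
          rw [pow_succ]; generalize x ^ j = c; group
        rw [e1]
        exact M.mul_mem (hRM _ (R.pow_mem hxR j) _ hPx) ih
    have hPv : v * a * v⁻¹ * a⁻¹ ∈ M := hKM (hKmem v hv a ha)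
    have e1 : x ^ i * v * a * (x ^ i * v)⁻¹ * a⁻¹ =
        (x ^ i * (v * a * v⁻¹ * a⁻¹) * (x ^ i)⁻¹) * (x ^ i * a * (x ^ i)⁻¹ * a⁻¹) := by
      generalize x ^ i = c; group
    rw [e1]
    exact M.mul_mem (hRM _ (R.pow_mem hxR i) _ hPv) (hPpow i)
  rw [hRA] at hfinal
  exact hxL (hEL x hxE (fun l hl => hMc x (hfinal hxR) l hl))

set_option maxHeartbeats 800000 in
theorem main {G : Type u} [Group G] [Finite G] (p : ℕ) [Fact p.Prime] (hp : p ≠ 2)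
    (R A : Subgroup G) (hR : IsPGroup p R) (hR1 : R ≠ ⊥) (hr : Cfsg.PRankLE p 2 R)
    (hA : A ≤ Subgroup.normalizer (R : Set G)) (hcop : (Nat.card A).Coprime p)
    (hAodd : Odd (Nat.card A)) (hRA : ⁅R, A⁆ = R) :
    3 < p ∧ (IsMulCommutative R ∨ ∃ R₁ R₂ : Subgroup G, R₁ ⊔ R₂ = R ∧
      (∀ a ∈ R₁, ∀ b ∈ R₂, a * b = b * a) ∧
        ¬ IsMulCommutative R₁ ∧ Nat.card R₁ = p ^ 3 ∧ Monoid.exponent R₁ = p ∧ IsCyclic R₂ ∧
        Subgroup.closure {x : G | x ∈ R₂ ∧ x ^ p = 1} = ⁅R₁, R₁⁆) := by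
  classical
  have hpp : p.Prime := Fact.out
  have hp1 : 1 < p := hpp.one_lt
  have hp3 : 3 < p := three_lt p hp R A hR hr hA hcop hAodd hRA hR1
  refine ⟨hp3, ?_⟩
  obtain ⟨E, hEmem⟩ := exists_omega p hp3 R hR hr
  have hER : E ≤ R := fun e he => ((hEmem e).mp he).1
  have hEp : ∀ e ∈ E, e ^ p = 1 := fun e he => ((hEmem e).mp he).2
  have hEall : ∀ g ∈ R, g ^ p = 1 → g ∈ E := fun g hg h => (hEmem g).mpr ⟨hg, h⟩
  have hEpg : IsPGroup p E := hR.to_le hER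
  by_cases hsmall : Nat.card E ≤ p ^ 2
  · left
    have hW : Nat.card {x : ↥R // x ^ p = 1} ≤ p ^ 2 := by
      have hinj : Function.Injective (fun u : {x : ↥R // x ^ p = 1} =>
          (⟨((u.1 : ↥R) : G), hEall _ u.1.2 (by
            have h := congrArg Subtype.val u.2
            exact h)⟩ : ↥E)) := by
        intro a b h
        exact Subtype.ext (Subtype.ext (by have h' := congrArg Subtype.val h; exact h'))
      exact le_trans (Nat.card_le_card_of_injective _ hinj) hsmall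
    have hRm : Cfsg.IsMetacyclic ↥R :=
      Cfsg.Agent.Helper7.PU.huppert p hp3 (Nat.card ↥R) ↥R rfl hR hW
    exact ⟨⟨Cfsg.Agent.Helper7.MetaCop.comm_abelian p hp R A hR hRm hA hcop hRA⟩⟩
  · right
    have hEnc : ¬ ∀ a b : ↥E, a * b = b * a := fun hab =>
      hsmall (rank_sub R hr E hER (fun a ha b hb => by
        have h' := congrArg Subtype.val (hab ⟨a, ha⟩ ⟨b, hb⟩)
        exact h') hEp)
    have hEcard : Nat.card E = p ^ 3 := by
      obtain ⟨k, hk⟩ := hEpg.exists_card_eq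
      have h3 : Nat.card E ≤ p ^ 3 := by
        refine Cfsg.Agent.S0128.e3 hEpg (fun B hB => ?_)
        have h := rank_sub R hr (B.map E.subtype)
          ((Subgroup.map_subtype_le B).trans hER)
          (by
            rintro _ ⟨a', ha', rfl⟩ _ ⟨b', hb', rfl⟩
            rw [← map_mul, ← map_mul, hB a' ha' b' hb'])
          (by
            rintro _ ⟨a', -, rfl⟩
            exact hEp _ a'.2)
        exact (Nat.card_congr (Subgroup.equivMapOfInjective B E.subtype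
          E.subtype_injective).toEquiv).le.trans h
      have hlt : p ^ 2 < Nat.card E := not_le.mp hsmall
      rw [hk] at h3 hlt ⊢
      have h1 : 2 < k := (Nat.pow_lt_pow_iff_right hp1).mp hlt
      have h2 : k ≤ 3 := (Nat.pow_le_pow_iff_right hp1).mp h3
      have h4 : k = 3 := by omega
      rw [h4]
    obtain ⟨Z, hZdef⟩ : ∃ Z : Subgroup G, Z = (Subgroup.center ↥E).map E.subtype := ⟨_, rfl⟩
    have hZE : Z ≤ E := by rw [hZdef]; exact Subgroup.map_subtype_le _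
    have hZcard : Nat.card Z = p := by
      rw [hZdef]
      exact (Nat.card_congr (Subgroup.equivMapOfInjective (Subgroup.center ↥E) E.subtype
        E.subtype_injective).toEquiv).symm.trans
          (Cfsg.Agent.Helper26.p3_center_card hEcard hEnc)
    have hZc : ∀ t ∈ Z, ∀ e ∈ E, e * t = t * e := by
      intro t ht e he
      rw [hZdef] at ht
      obtain ⟨c, hc, rfl⟩ := ht
      have h := Subgroup.mem_center_iff.mp hc ⟨e, he⟩
      exact congrArg Subtype.val h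
    have hZall : ∀ e ∈ E, (∀ e' ∈ E, e' * e = e * e') → e ∈ Z := by
      intro e he h
      rw [hZdef]
      exact ⟨⟨e, he⟩, Subgroup.mem_center_iff.mpr (fun g => Subtype.ext (h g.1 g.2)), rfl⟩
    have hEE : ∀ a ∈ E, ∀ b ∈ E, a * b * a⁻¹ * b⁻¹ ∈ Z := by
      intro a ha b hb
      rw [hZdef]
      exact ⟨_, (Cfsg.Agent.Helper26.p3_quot hEcard hEnc).2.1 ⟨a, ha⟩ ⟨b, hb⟩, rfl⟩
    have hconjE : ∀ g : G, (∀ r ∈ R, g * r * g⁻¹ ∈ R) → ∀ e ∈ E, g * e * g⁻¹ ∈ E := by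
      intro g hg e he
      exact hEall _ (hg e (hER he)) (by rw [conj_pow, hEp e he, mul_one, mul_inv_cancel])
    have hRE : ∀ r ∈ R, ∀ e ∈ E, r * e * r⁻¹ ∈ E := fun r hr =>
      hconjE r (fun s hs => R.mul_mem (R.mul_mem hr hs) (R.inv_mem hr))
    have hAR : ∀ a ∈ A, ∀ r ∈ R, a * r * a⁻¹ ∈ R := fun a ha r hr =>
      (Subgroup.mem_normalizer_iff.mp (hA ha) r).mp hr
    have hAE : ∀ a ∈ A, ∀ e ∈ E, a * e * a⁻¹ ∈ E := fun a ha => hconjE a (hAR a ha)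
    have hconjZ : ∀ g : G, (∀ e ∈ E, g * e * g⁻¹ ∈ E) → (∀ e ∈ E, g⁻¹ * e * g ∈ E) →
        ∀ t ∈ Z, g * t * g⁻¹ ∈ Z := by
      intro g hg hg' t ht
      refine hZall _ (hg t (hZE ht)) (fun e' he' => ?_)
      have h1 := hZc t ht (g⁻¹ * e' * g) (hg' e' he')
      calc e' * (g * t * g⁻¹) = g * ((g⁻¹ * e' * g) * t) * g⁻¹ := by group
        _ = g * (t * (g⁻¹ * e' * g)) * g⁻¹ := by rw [h1]
        _ = g * t * g⁻¹ * e' := by group
    have hRZn : ∀ r ∈ R, ∀ t ∈ Z, r * t * r⁻¹ ∈ Z := fun r hr =>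
      hconjZ r (hRE r hr) (conj_inv_mem hRE r hr)
    have hAZ : ∀ a ∈ A, ∀ t ∈ Z, a * t * a⁻¹ ∈ Z := fun a ha =>
      hconjZ a (hAE a ha) (conj_inv_mem hAE a ha)
    have hRZ : ∀ r ∈ R, ∀ t ∈ Z, r * t = t * r :=
      central_of_card_p R hR Z (hZE.trans hER) hRZn hZcard.le
    have hD := bad_case p hp hp3 R A E Z hR hA hcop hAodd hRA hER hEp hEall hEcard hEnc hZE
      hZcard hZc hZall hEE hRE hRZ hAE hAZ
    have hsup := good_case R E Z hER hEpg hEcard hEnc hZE hZcard hZc hEE hD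
    obtain ⟨x₀, hx₀, y₀, hy₀, hxy₀⟩ := exists_noncomm E hEnc
    have hz₀Z : x₀ * y₀ * x₀⁻¹ * y₀⁻¹ ∈ Z := hEE x₀ hx₀ y₀ hy₀
    have hz₀1 : x₀ * y₀ * x₀⁻¹ * y₀⁻¹ ≠ 1 := fun h =>
      hxy₀ (Cfsg.Agent.Helper7.MetaCop.comm_of_cm_eq_one h)
    have hZgen := mem_pow_of_card_p Z hZcard _ hz₀Z hz₀1
    have hCZ : ∀ u ∈ R ⊓ Subgroup.centralizer (E : Set G), u ^ p = 1 → u ∈ Z := by
      intro u hu hup
      obtain ⟨huR, huC⟩ := Subgroup.mem_inf.mp hu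
      exact hZall u (hEall u huR hup)
        (fun e' he' => Subgroup.mem_centralizer_iff.mp huC e' he')
    refine ⟨E, R ⊓ Subgroup.centralizer (E : Set G),
      le_antisymm (sup_le hER inf_le_left) hsup, ?_, ?_, hEcard, ?_, ?_, ?_⟩
    · intro a ha b hb
      exact Subgroup.mem_centralizer_iff.mp (Subgroup.mem_inf.mp hb).2 a ha
    · intro hc
      exact hEnc (fun a b => hc.is_comm.comm a b)
    · have hdvd : Monoid.exponent ↥E ∣ p :=
        Monoid.exponent_dvd_of_forall_pow_eq_one (fun g => Subtype.ext (hEp g.1 g.2))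
      rcases (Nat.dvd_prime hpp).mp hdvd with h1 | h1
      · exfalso
        apply hEnc
        intro a b
        have ha : a = 1 := by
          have h := Monoid.pow_exponent_eq_one a
          rwa [h1, pow_one] at h
        have hb : b = 1 := by
          have h := Monoid.pow_exponent_eq_one b
          rwa [h1, pow_one] at h
        rw [ha, hb]
      · exact h1
    · refine Cfsg.Agent.Helper7.PU.lemU p hp _ _ rfl (hR.to_le inf_le_left) ?_
      have hinj : Function.Injective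
          (fun u : {u : ↥(R ⊓ Subgroup.centralizer (E : Set G)) // u ^ p = 1} =>
          (⟨((u.1 : ↥(R ⊓ Subgroup.centralizer (E : Set G))) : G), hCZ _ u.1.2 (by
            have h := congrArg Subtype.val u.2
            exact h)⟩ : ↥Z)) := by
        intro a b h
        exact Subtype.ext (Subtype.ext (by have h' := congrArg Subtype.val h; exact h'))
      have h1 := Nat.card_le_card_of_injective _ hinj
      rwa [hZcard] at h1
    · apply le_antisymm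
      · rw [Subgroup.closure_le]
        rintro u ⟨hu, hup⟩
        obtain ⟨i, rfl⟩ := hZgen u (hCZ u hu hup)
        show (x₀ * y₀ * x₀⁻¹ * y₀⁻¹) ^ i ∈ ⁅E, E⁆
        refine Subgroup.pow_mem _ ?_ i
        rw [← commutatorElement_def]
        exact Subgroup.commutator_mem_commutator hx₀ hy₀
      · rw [Subgroup.commutator_le]
        intro a ha b hb
        rw [commutatorElement_def]
        refine Subgroup.subset_closure ⟨Subgroup.mem_inf.mpr ⟨hER (hZE (hEE a ha b hb)), ?_⟩,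
          hEp _ (hZE (hEE a ha b hb))⟩
        rw [Subgroup.mem_centralizer_iff]
        intro e he
        exact hZc _ (hEE a ha b hb) e he

end Cfsg.Agent.Helper7.RankTwo
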